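import Cfsg.Agent.H4.ZStar
import Cfsg.Agent.H1.Coprime

/-!
# Consequences of the `Z*`-theorem
`isKleinFour_sup`, `II.exists_mul` (`G = O(G) C(z)`), `II.exists_sylow`, `II.sylow_of_max`, `II.exists_sqrt`.
-/

set_option autoImplicit false
set_option linter.unusedSectionVars false

namespace H4
open Cfsg H1 Subgroup
open scoped Pointwise

variable {G : Type*} [Group G] [Finite G] {s t z a : G} {S P Q : Subgroup G} {p : ℕ} [hp : Fact p.Prime]

theorem mem_zpowers_two (h : orderOf t = 2) : s ∈ zpowers t ↔ s = 1 ∨ s = t := by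
  refine ⟨fun hs => ?_, by rintro (rfl | rfl) <;> simp⟩
  obtain ⟨k, rfl⟩ := mem_powers_iff_mem_zpowers.2 hs
  simp only
  rw [← pow_mod_orderOf, h]
  rcases Nat.mod_two_eq_zero_or_one k with h | h <;> simp [h]

theorem isKleinFour_sup (hs : orderOf s = 2) (ht : orderOf t = 2) (h : s ≠ t) (hc : Commute s t) :
    IsKleinFour (zpowers s ⊔ zpowers t : Subgroup G) := by
  have h1 : zpowers s ≤ NS (zpowers t) := (zpowers_le_CS.2 (by
    rw [CS, H4.centralizer_zpowers]; exact mem_centralizer_singleton.2 hc.symm)).trans (CS_le_NS _)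
  have h2 := H2.card_sup_mul_card_inf h1
  rw [show zpowers s ⊓ zpowers t = ⊥ from eq_bot_iff.2 fun x hx => by
    rcases (mem_zpowers_two hs).1 hx.1 with rfl | rfl
    · exact one_mem _
    · exact ((mem_zpowers_two ht).1 hx.2).resolve_right h, Nat.card_zpowers, Nat.card_zpowers, hs, ht, card_bot,
    mul_one] at h2
  have : Nontrivial (zpowers s ⊔ zpowers t : Subgroup G) := Finite.one_lt_card_iff_nontrivial.1 (by omega)
  refine ⟨h2, (Monoid.exponent_eq_prime_iff Nat.prime_two).2 fun g hg => orderOf_eq_prime (Subtype.ext ?_) hg⟩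
  obtain ⟨a, ha, b, hb, h3⟩ := (H2.mem_sup_of_le_normalizer h1).1 g.2
  rw [coe_pow, ← h3]
  rcases (mem_zpowers_two hs).1 ha with rfl | rfl <;> rcases (mem_zpowers_two ht).1 hb with rfl | rfl <;>
    simp [hc.mul_pow, sq, mul_self_of_two hs, mul_self_of_two ht]

theorem II.of_noKlein (h : ∀ E : Subgroup G, ¬ IsKleinFour E) (hz : orderOf z = 2) : II z :=
  ⟨hz, fun g hc => by_contra fun h1 => h _ (isKleinFour_sup (by rw [orderOf_conj, hz]) hz h1 hc.symm)⟩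

theorem II.mem_core (h : II z) (g : G) : g * z * g⁻¹ * z ∈ pPrimeCore 2 G :=
  zstar_aux _ G (Nat.lt_succ_self _) z h g

theorem II.exists_mul' (h : II z) (g : G) : ∃ j : ℕ, Commute ((g * z * g⁻¹ * z) ^ j * g) z := by
  obtain ⟨j, hj⟩ := h.exists_pow g
  refine ⟨j, mul_inv_eq_iff_eq_mul.1 ?_⟩
  generalize (g * z * g⁻¹ * z) ^ j = w at hj
  conv_rhs => rw [← hj]
  group

theorem II.exists_mul (h : II z) (g : G) : ∃ o ∈ pPrimeCore 2 G, ∃ c ∈ C1 z, o * c = g := by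
  obtain ⟨j, hj⟩ := h.exists_mul' g
  exact ⟨_, inv_mem (pow_mem (h.mem_core g) j), _, mem_centralizer_singleton.2 hj.symm, inv_mul_cancel_left _ _⟩

theorem II.mk_mem_center (h : II z) : (z : G ⧸ pPrimeCore 2 G) ∈ center (G ⧸ pPrimeCore 2 G) :=
  mem_center_iff.2 fun g => by
    obtain ⟨g, rfl⟩ := QuotientGroup.mk_surjective g
    have := (QuotientGroup.eq_one_iff _).2 (zstar h g)
    simp only [QuotientGroup.mk_mul, QuotientGroup.mk_inv, mul_inv_eq_iff_eq_mul, one_mul] at this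
    exact this.symm

variable (p) in
theorem II.exists_sylow (h : II z) : ∃ P, IsSylowIn p P ⊤ ∧ z ∈ NS P := by
  obtain ⟨P, hP⟩ := exists_isSylowIn p (⊤ : Subgroup G)
  obtain ⟨k, -, hk⟩ := exists_invariant_conj (A := zpowers z) (K := pPrimeCore 2 G) (X := P) le_normalizer_of_normal
    (by rw [Nat.card_zpowers, h.1]; exact pPrimeCore_coprime.symm) (.inl (isSolvable_zpowers z)) fun a ha => by
    have h1 := hP.of_le (le_sup_right (a := pPrimeCore 2 G)) le_top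
    obtain ⟨g, hg, h2⟩ := h1.conj ((hP.smul (mem_NS_of_normal ⊤ a)).of_le (fun x hx => by
      rcases (mem_zpowers_two h.1).1 ha with rfl | rfl
      · exact mem_sup_right (by simpa using hx)
      · have := mul_mem_sup (zstar h (a⁻¹ * x * a)) (mem_conj_smul.1 hx)
        simpa [mul_assoc] using this) le_top)
    obtain ⟨o, ho, u, hu, rfl⟩ := (H2.mem_sup_of_le_normalizer' le_normalizer_of_normal).1 hg
    exact ⟨o, ho, by rw [← h2, map_mul, mul_smul, H2.smul_eq_cj u, H2.cj_of_mem hu]⟩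
  exact ⟨_, hP.smul (mem_NS_of_normal ⊤ k), zpowers_le.1 hk⟩

theorem II.sylow_of_max (h : II z) (hQ : IsPGroup p Q) (hz : z ∈ NS Q)
    (hmax : ∀ R : Subgroup G, IsPGroup p R → z ∈ NS R → Q ≤ R → R = Q) : IsSylowIn p Q ⊤ := by
  obtain ⟨P, hP, h1⟩ := (h.subgroup hz).exists_sylow p
  have h2 := hP.map (NS Q).subtype
  rw [← MonoidHom.range_eq_map, range_subtype] at h2
  refine H1.isSylowIn_of_normalizer le_top ?_
  rwa [hmax _ h2.isPGroup (le_normalizer_map _ ⟨_, h1, rfl⟩) (h2.ge_of_normal hQ le_normalizer h2.le),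
    ← inf_top_eq (NS Q)] at h2

theorem II.exists_sylow_ge (h : II z) (hQ : IsPGroup p Q) (hz : z ∈ NS Q) :
    ∃ P, IsSylowIn p P ⊤ ∧ z ∈ NS P ∧ Q ≤ P := by
  obtain ⟨P, h3, ⟨h1, h2⟩, h4⟩ := Finite.exists_le_maximal
    (p := fun R : Subgroup G => IsPGroup p R ∧ z ∈ NS R) ⟨hQ, hz⟩
  exact ⟨P, h.sylow_of_max h1 h2 fun R h5 h6 h7 => le_antisymm (h4 ⟨h5, h6⟩ h7) h7, h2, h3⟩

theorem II.conj_C1 (h : II z) (hP : z ∈ NS P) {g : G} (hg : z ∈ NS (MulAut.conj g • P)) :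
    ∃ c ∈ C1 z, MulAut.conj c • P = MulAut.conj g • P := by
  obtain ⟨x, hx, h1⟩ := h.conj_in hg (g := g) (by rw [NS_conj, mem_conj_smul]; simpa [mul_assoc] using hP)
  refine ⟨x⁻¹ * g, mem_centralizer_singleton.2 (mul_inv_eq_iff_eq_mul.1 ?_).symm, ?_⟩
  · rw [show x⁻¹ * g * z * (x⁻¹ * g)⁻¹ = x⁻¹ * (g * z * g⁻¹) * x by group, ← h1]; group
  · rw [map_mul, mul_smul, H2.smul_eq_cj x⁻¹, H2.cj_eq_iff.2 (inv_mem hx)]

theorem II.sylow_inf (h : II z) (hP : IsSylowIn p P ⊤) (hz : z ∈ NS P) : IsSylowIn p (P ⊓ C1 z) (C1 z) := by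
  obtain ⟨R, hR⟩ := exists_isSylowIn p (C1 z)
  obtain ⟨T, h1, h2, h3⟩ := h.exists_sylow_ge hR.isPGroup (CS_le_NS _ (le_centralizer_singleton.1 hR.le))
  obtain ⟨g, -, rfl⟩ := h1.conj hP
  obtain ⟨c, hc, h4⟩ := h.conj_C1 h2 hz
  have h5 := hR.smul (le_normalizer hc)
  exact h5.of_card_le (hP.isPGroup.to_le inf_le_left) inf_le_right
    (card_le_of_le (le_inf (h4 ▸ pointwise_smul_le_pointwise_smul_iff.2 h3) h5.le))

theorem exists_sqrt_odd {k : G} (h : ¬ 2 ∣ orderOf k) : ∃ j : ℕ, (k ^ j) ^ 2 = k := by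
  obtain ⟨j, hj⟩ := Nat.not_even_iff_odd.1 (even_iff_two_dvd.not.2 h)
  exact ⟨j + 1, by rw [← pow_mul, show (j + 1) * 2 = 2 * j + 1 + 1 by ring, pow_succ, ← hj, pow_orderOf_eq_one, one_mul]⟩

theorem eq_of_sq_eq {k l : G} (hk : ¬ 2 ∣ orderOf k) (hl : ¬ 2 ∣ orderOf l) (h : k ^ 2 = l ^ 2) : k = l := by
  have h1 : ∀ {k : G}, ¬ 2 ∣ orderOf k → orderOf (k ^ 2) = orderOf k := fun hk =>
    Nat.Coprime.orderOf_pow ((Nat.Prime.coprime_iff_not_dvd Nat.prime_two).2 hk).symm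
  obtain ⟨j, hj⟩ := Nat.not_even_iff_odd.1 (even_iff_two_dvd.not.2 hk)
  have h2 : ∀ {k : G}, orderOf k = 2 * j + 1 → (k ^ 2) ^ (j + 1) = k := fun hk => by
    rw [← pow_mul, show 2 * (j + 1) = 2 * j + 1 + 1 by ring, pow_succ, ← hk, pow_orderOf_eq_one, one_mul]
  rw [← h2 hj, h, h2 (by rw [← h1 hl, ← h, h1 hk, hj])]

theorem conj_mul_eq_sq {k : G} (hz : z * z = 1) (h : z * k * z⁻¹ = k⁻¹) : k * z * k⁻¹ * z = k ^ 2 := by
  rw [← h, sq, inv_eq_of_mul_eq_one_right hz]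
  simp only [← mul_assoc]
  rw [mul_assoc k, hz, mul_assoc _ z, hz, mul_one, mul_one]

theorem inv_conj_mul (hz : z * z = 1) (g : G) : z * (g * z * g⁻¹ * z) * z⁻¹ = (g * z * g⁻¹ * z)⁻¹ := by
  rw [mul_inv_rev, conj_inv, inv_eq_of_mul_eq_one_right hz, mul_assoc z, mul_assoc _ z z, hz, mul_one]

/-- an odd order element inverted by `z` has the form `x z x⁻¹ z` -/
theorem exists_eq_comm {k : G} (hz : z * z = 1) (h1 : ¬ 2 ∣ orderOf k) (h : z * k * z⁻¹ = k⁻¹) :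
    ∃ j : ℕ, k ^ j * z * (k ^ j)⁻¹ * z = k := by
  obtain ⟨j, hj⟩ := exists_sqrt_odd h1
  exact ⟨j, by rw [conj_mul_eq_sq hz (by rw [← conj_pow, h, inv_pow]), hj]⟩

theorem comm_eq_iff {x y : G} : x * z * x⁻¹ * z = y * z * y⁻¹ * z ↔ x⁻¹ * y ∈ C1 z := by
  rw [mem_centralizer_singleton, mul_left_inj, Commute, SemiconjBy]
  constructor <;> intro h
  · calc z * (x⁻¹ * y) = x⁻¹ * (x * z * x⁻¹) * y := by group
      _ = _ := by rw [h]; group
  · calc x * z * x⁻¹ = x * (z * (x⁻¹ * y)) * y⁻¹ := by group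
      _ = _ := by rw [h]; group

theorem isComplement'_of_NPC (h : HasNormalPComplement p G) (S : Sylow p G) :
    (pPrimeCore p G).IsComplement' (S : Subgroup G) :=
  isComplement'_of_coprime (by rw [S.card_eq_multiplicity, ← index_pPrimeCore_of_NPC h, card_mul_index])
    (by rw [S.card_eq_multiplicity]; exact pPrimeCore_coprime.pow_right _)

end H4
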