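import Cfsg.Agent.H4.BS

/-!
# Contributions
`Lz` (central character of a block at `∑ θ(x⁻¹) x` over `p`-regular `x`), `red_inner` (valuation of
contributions), the integral contribution matrix `exists_amat`, `rank_eq` (rank of a block as a trace),
`sb`, `up`, `mc` (contributions of a subsection), `sum_sections`, `card_eq_sum_rank`.
-/

set_option autoImplicit false
set_option linter.unusedSectionVars false

namespace H4
open MonoidAlgebra Cfsg H1
open scoped Pointwise ComplexConjugate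

variable {G : Type*} [Group G] [Finite G] {M : Ideal AlgInt} {p : ℕ} [hp : Fact p.Prime]
  {B : Set (IrrCharacter G)} {χ ψ : IrrCharacter G} {θ η : G → ℂ}

theorem inner_blockPart_eq [Fintype G] (B : Set (IrrCharacter G)) (a b : G → ℂ) :
    classInner (blockPart B a) b = ∑ χ ∈ fs B, classInner a χ * classInner (χ : G → ℂ) b := by
  rw [blockPart_eq, H3.inner_sum_left]; simp only [H3.inner_smul_left]

theorem inner_blockPart_left [Fintype G] (B : Set (IrrCharacter G)) (a b : G → ℂ) :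
    classInner (blockPart B a) b = classInner a (blockPart B b) := by
  rw [inner_blockPart_eq, blockPart_eq, H3.inner_sum_right]
  simp only [H3.inner_smul_right, H3.inner_conj_symm, mul_comm]

theorem blockPart_congr_inner [Fintype G] {a b : G → ℂ} (h : ∀ χ ∈ B, classInner a χ.1 = classInner b χ.1) :
    blockPart B a = blockPart B b := by
  rw [blockPart_eq, blockPart_eq]; exact Finset.sum_congr rfl fun χ hχ => by rw [h χ (mem_fs.1 hχ)]

theorem blockPart_idem (B : Set (IrrCharacter G)) (a : G → ℂ) : blockPart B (blockPart B a) = blockPart B a := by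
  classical
  cases nonempty_fintype G
  exact blockPart_congr_inner fun χ hχ => by rw [inner_blockPart, if_pos hχ]

theorem blockPart_sum (B : Set (IrrCharacter G)) {ι : Type*} (s : Finset ι) (f : ι → G → ℂ) :
    blockPart B (∑ i ∈ s, f i) = ∑ i ∈ s, blockPart B (f i) := by
  classical
  induction s using Finset.induction_on with
  | empty => simpa using blockPart_smul B 0 0
  | insert a s h ih => rw [Finset.sum_insert h, Finset.sum_insert h, blockPart_add, ih]

theorem blockPart_eq_self [Fintype G] (h : IsClassFunction G θ) (h' : ∀ χ ∉ B, classInner θ χ.1 = 0) :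
    blockPart B θ = θ := by
  classical
  exact H3.class_ext (class_blockPart _ _) h fun χ hχ => by
    rw [inner_blockPart B θ ⟨χ, hχ⟩]; split_ifs with h1; exacts [rfl, (h' _ h1).symm]

theorem inner_eq_zero_of_blockPart [Fintype G] (h : blockPart B θ = θ) (h' : χ ∉ B) : classInner θ χ.1 = 0 := by
  classical
  rw [← h, inner_blockPart, if_neg h']

theorem gen_blockPart (h : IsGeneralizedCharacter G θ) (B : Set (IrrCharacter G)) :
    IsGeneralizedCharacter G (blockPart B θ) := by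
  classical
  cases nonempty_fintype G
  exact H3.isGen_of_inner (class_blockPart _ _) fun χ hχ => by
    rw [inner_blockPart B θ ⟨χ, hχ⟩]; split_ifs
    exacts [H3.inner_gen_int h (H3.irr_gen hχ), ⟨0, by simp⟩]

/-- a generalized character lying in `B` is an integer combination of `B` -/
theorem gen_in_iff : (∃ n : IrrCharacter G → ℤ, ∀ g : G, θ g = ∑ᶠ ψ ∈ B, (n ψ : ℂ) * (ψ : G → ℂ) g) ↔
    IsGeneralizedCharacter G θ ∧ blockPart B θ = θ := by
  cases nonempty_fintype G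
  constructor
  · rintro ⟨n, hn⟩
    obtain rfl : θ = ∑ ψ ∈ fs B, (n ψ : ℂ) • (ψ : G → ℂ) := funext fun g => by
      rw [hn, finsum_mem_eq_fs]; simp
    refine ⟨H3.gen_sum _ _ fun ψ _ => H3.gen_intCast_smul (H3.irr_gen ψ.2) _, ?_⟩
    rw [blockPart_sum]
    exact Finset.sum_congr rfl fun ψ h => by rw [blockPart_smul, blockPart_irr_of_mem (mem_fs.1 h)]
  · rintro ⟨h1, h2⟩
    choose n hn using fun ψ : IrrCharacter G => H3.inner_gen_int h1 (H3.irr_gen ψ.2)
    exact ⟨n, fun g => by rw [finsum_mem_eq_fs, ← congrFun h2 g, blockPart_apply]; simp only [hn]⟩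

/-! ### valuations -/

theorem int_dvd_iff_v (hM : IsPModular p M) (n : ℤ) (j : ℕ) : (p : ℤ) ^ j ∣ n ↔ v M (n : ℂ) ≤ v M (p : ℂ) ^ j := by
  constructor
  · rintro ⟨m, rfl⟩
    push_cast; rw [map_mul, map_pow]
    exact mul_le_of_le_one_right' (mem_O_iff.1 (intCast_mem _ m))
  · intro h
    have h0 : ((p ^ j : ℕ) : ℂ) ≠ 0 := Nat.cast_ne_zero.2 (pow_ne_zero _ hp.out.ne_zero)
    obtain ⟨m, hm⟩ := int_of_mem_O hM (z := n / (p ^ j : ℕ)) (a := j) (n := n) (mul_div_cancel₀ _ h0) (by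
      rw [mem_O_iff, map_div₀, Nat.cast_pow, map_pow]
      exact div_le_one_of_le₀ h zero_le)
    rw [div_eq_iff h0] at hm
    exact ⟨m, by exact_mod_cast hm.trans (mul_comm _ _)⟩

theorem int_dvd_succ_iff_v (hM : IsPModular p M) (n : ℤ) (j : ℕ) :
    (p : ℤ) ^ (j + 1) ∣ n ↔ v M (n : ℂ) < v M (p : ℂ) ^ j := by
  refine ⟨fun h => ((int_dvd_iff_v hM n _).1 h).trans_lt ((v_pow_lt_iff hM).2 j.lt_succ_self), fun h => ?_⟩
  obtain ⟨m, rfl⟩ := (int_dvd_iff_v hM n _).2 h.le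
  push_cast at h
  rw [map_mul, map_pow, mul_lt_iff_lt_one_right (pow_pos (v_p_pos hM) _),
    ← red_eq_zero_iff (intCast_mem _ m), red_intCast, intCast_eq_zero_iff hM] at h
  rw [pow_succ]; exact mul_dvd_mul_left _ h

variable (p M) in
/-- `λ_B(∑_{x p-regular} θ(x⁻¹) x)` -/
noncomputable def Lz (B : Set (IrrCharacter G)) (θ : G → ℂ) : k M := lamB M B (redA M (zR p θ))

theorem Lz_eq (hM : IsPModular p M) (hB : IsPBlock M B) (hψ : ψ ∈ B) (hθ : θ ∈ OC G M) :
    Lz M p B θ = red M (om ψ.1 (zR p θ)) :=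
  lamB_redA hM hB hψ (zR_mem_Z (OC_class hθ)) (zR_mem_IntA (OC_apply hθ))

theorem Lz_ne_zero_iff (hM : IsPModular p M) (hB : IsPBlock M B) :
    Lz M p B χ.1 ≠ 0 ↔ χ ∈ B ∧ blockHeight p B χ.1 = 0 := lamB_zR_ne_zero_iff hM hB

theorem Lz_congr (B : Set (IrrCharacter G)) (h : ∀ g, ¬ p ∣ orderOf g → red M (θ g) = red M (η g)) :
    Lz M p B θ = Lz M p B η := by
  refine congrArg (lamB M B) (ext_coeff fun g => ?_)
  simp only [coeff_redA, coeff_zR, reg]
  split_ifs with h1; exacts [rfl, h _ h1]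

theorem Lz_ind (hM : IsPModular p M) {H : Subgroup G} {b : Set (IrrCharacter H)} (hind : IsInducedBlock M H b B)
    (hθ : IsClassFunction G θ) : Lz M p b (fun h : H => θ h) = Lz M p B θ := ind_lamB_zR hM hind hθ

variable (p) in
/-- `p^d ψ(1) / |G|` -/
noncomputable def hw (B : Set (IrrCharacter G)) (ψ : G → ℂ) : ℂ :=
  ((p ^ blockDefect p B : ℕ) : ℂ) * ψ 1 / Nat.card G

theorem v_hw (hM : IsPModular p M) (hψ : ψ ∈ B) : v M (hw p B ψ.1) = v M (p : ℂ) ^ blockHeight p B ψ.1 := by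
  rw [hw, map_div₀, map_mul, v_irr_one hM ψ.2, v_natCast hM Nat.card_pos.ne', Nat.cast_pow, map_pow, ← pow_add,
    add_comm, nu_add_blockDefect hψ, pow_add, mul_div_cancel_left₀ _ (pow_ne_zero _ (v_p_ne_zero hM))]

theorem hw_mem_O (hM : IsPModular p M) (hψ : ψ ∈ B) : hw p B ψ.1 ∈ O M := by
  rw [mem_O_iff, v_hw hM hψ]; exact pow_le_one' (v_p_lt_one hM).le _

theorem red_hw_ne_zero_iff (hM : IsPModular p M) (hψ : ψ ∈ B) :
    red M (hw p B ψ.1) ≠ 0 ↔ blockHeight p B ψ.1 = 0 := by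
  rw [red_ne_zero_iff, v_hw hM hψ, ← pow_zero (v M (p : ℂ)), v_pow_eq_iff hM]

theorem inner_reg_eq_hw [Fintype G] (B : Set (IrrCharacter G)) (θ : G → ℂ) (ψ : IrrCharacter G) :
    ((p ^ blockDefect p B : ℕ) : ℂ) * classInner (reg p θ) ψ = hw p B ψ.1 * om ψ.1 (zR p θ) := by
  have := H3.irr_one_ne_zero ψ.2
  have := H3.card_ne_zero' G
  rw [om_zR θ (H3.irr_char ψ.2), hw]; field_simp

theorem inner_reg_swap [Fintype G] {η' : G → ℂ} (h : ∀ g, conj (η g) = η' g⁻¹) (hθ : IsCharacter G θ) :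
    classInner (reg p θ) η = classInner (reg p η') θ := by
  rw [H3.inner_char_eq hθ, classInner, ← Equiv.sum_comp (Equiv.inv G)]
  refine congrArg _ (Finset.sum_congr rfl fun g _ => ?_)
  simp only [h, reg, Equiv.inv_apply, orderOf_inv, inv_inv]
  split_ifs <;> ring

theorem inner_swap [Fintype G] {η' : G → ℂ} (h : ∀ g, conj (η g) = η' g⁻¹) (hθ : IsCharacter G θ) :
    classInner θ η = classInner η' θ := by
  rw [H3.inner_char_eq hθ, classInner, ← Equiv.sum_comp (Equiv.inv G)]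
  exact congrArg _ (Finset.sum_congr rfl fun g _ => by simp only [h, Equiv.inv_apply, inv_inv, mul_comm])

theorem red_inner_aux [Fintype G] (hM : IsPModular p M) (hB : IsPBlock M B) (hθ : θ ∈ OC G M) {η' : G → ℂ}
    (hη : η' ∈ OC G M) (h : ∀ g, conj (η g) = η' g⁻¹) :
    ((p ^ blockDefect p B : ℕ) : ℂ) * classInner (reg p (blockPart B θ)) η ∈ O M ∧
      red M (((p ^ blockDefect p B : ℕ) : ℂ) * classInner (reg p (blockPart B θ)) η) =
        Lz M p B θ * ∑ ζ ∈ fs B, red M (classInner η' ζ.1 * hw p B ζ.1) := by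
  have h1 : ((p ^ blockDefect p B : ℕ) : ℂ) * classInner (reg p (blockPart B θ)) η =
      ∑ ζ ∈ fs B, om ζ.1 (zR p θ) * (classInner η' ζ.1 * hw p B ζ.1) := by
    rw [← blockPart_reg hM hB, inner_blockPart_eq, Finset.mul_sum]
    exact Finset.sum_congr rfl fun ζ _ => by
      rw [← mul_assoc, inner_reg_eq_hw, inner_swap h (H3.irr_char ζ.2)]; ring
  have h2 : ∀ ζ ∈ fs B, classInner η' ζ.1 * hw p B ζ.1 ∈ O M := fun ζ hζ =>
    mul_mem (OC_inner hη (H3.irr_char ζ.2)) (hw_mem_O hM (mem_fs.1 hζ))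
  have h3 := fun ζ hζ => mul_mem (om_zR_mem_O (p := p) ζ.2 hθ) (h2 ζ hζ)
  rw [h1, red_sum _ _ h3, Finset.mul_sum]
  exact ⟨sum_mem h3, Finset.sum_congr rfl fun ζ hζ => by
    rw [red_mul (om_zR_mem_O ζ.2 hθ) (h2 ζ hζ), Lz_eq hM hB (mem_fs.1 hζ) hθ]⟩

/-- valuation of contributions -/
theorem red_inner [Fintype G] (hM : IsPModular p M) (hB : IsPBlock M B) (hθ : θ ∈ OC G M) {η' : G → ℂ}
    (hη : η' ∈ OC G M) (h : ∀ g, conj (η g) = η' g⁻¹) :
    red M (((p ^ blockDefect p B : ℕ) : ℂ) * classInner (reg p (blockPart B θ)) η) ≠ 0 ↔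
      Lz M p B θ ≠ 0 ∧ Lz M p B η' ≠ 0 := by
  obtain ⟨ζ, h1, h2⟩ := exists_height_zero hM hB
  have h3 := (red_inner_aux hM hB (irr_mem_OC ζ) hη h).2
  rw [blockPart_irr_of_mem h1, inner_reg_swap h (H3.irr_char ζ.2), inner_reg_eq_hw,
    red_mul (hw_mem_O hM h1) (om_zR_mem_O ζ.2 hη), ← Lz_eq hM hB h1 hη] at h3
  rw [(red_inner_aux hM hB hθ hη h).2, mul_ne_zero_iff]
  refine and_congr_right fun _ => ?_
  rw [← mul_ne_zero_iff_left ((Lz_ne_zero_iff hM hB).2 ⟨h1, h2⟩), ← h3,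
    mul_ne_zero_iff_left ((red_hw_ne_zero_iff hM h1).2 h2)]

/-- The integral contribution matrix `a χ ψ = p^d [χ°, ψ]` of a block. -/
structure AMat (p : ℕ) (B : Set (IrrCharacter G)) (a : IrrCharacter G → IrrCharacter G → ℤ) : Prop where
  eq : ∀ [Fintype G], ∀ χ, ∀ ψ ∈ B, ((p ^ blockDefect p B : ℕ) : ℂ) * classInner (reg p χ.1) ψ.1 = a χ ψ
  symm : ∀ χ ∈ B, ∀ ψ ∈ B, a χ ψ = a ψ χ
  sq : ∀ χ ∈ B, ∀ ψ ∈ B, ∑ ζ ∈ fs B, a χ ζ * a ψ ζ = p ^ blockDefect p B * a χ ψ
  dvd : ∀ χ, ∀ ψ ∈ B, (p : ℤ) ^ blockHeight p B ψ.1 ∣ a χ ψ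
  ndvd : ∀ χ ∈ B, ∀ ψ ∈ B, ¬ (p : ℤ) ^ (blockHeight p B ψ.1 + 1) ∣ a χ ψ ↔ blockHeight p B χ.1 = 0

theorem inner_reg_symm [Fintype G] (χ ψ : IrrCharacter G) :
    classInner (reg p χ.1) ψ.1 = classInner (reg p ψ.1) χ.1 :=
  inner_reg_swap (fun g => (irr_inv ψ g).symm) (H3.irr_char χ.2)

theorem sum_inner_reg [Fintype G] (hM : IsPModular p M) (hB : IsPBlock M B) (hθ : blockPart B θ = θ) (η : G → ℂ) :
    ∑ ζ ∈ fs B, classInner (reg p θ) ζ.1 * classInner (reg p ζ.1) η = classInner (reg p θ) η := by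
  simp only [inner_reg_left _ η]
  rw [← inner_blockPart_eq, blockPart_reg hM hB, hθ, inner_reg_left, reg_reg]

theorem exists_amat (hM : IsPModular p M) (hB : IsPBlock M B) : ∃ a, AMat p B a := by
  classical
  cases nonempty_fintype G
  have h : ∀ χ ψ : IrrCharacter G, ∃ n : ℤ, ψ ∈ B →
      ((p ^ blockDefect p B : ℕ) : ℂ) * classInner (reg p χ.1) ψ.1 = n := fun χ ψ => by
    by_cases h : ψ ∈ B
    · exact (inner_reg_int hM (H3.irr_gen χ.2) ψ.2 (card_le_nu_add h)).imp fun _ h _ => h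
    · exact ⟨0, fun h' => (h h').elim⟩
  choose a ha using h
  have h1 : ∀ χ, ∀ ψ ∈ B, v M (a χ ψ : ℂ) = v M (p : ℂ) ^ blockHeight p B ψ.1 * v M (om ψ.1 (zR p χ.1)) :=
    fun χ ψ h => by rw [← ha χ ψ h, inner_reg_eq_hw, map_mul, v_hw hM h]
  refine ⟨a, fun χ ψ h => by convert ha χ ψ h, fun χ h ψ h' => ?_, fun χ h ψ h' => ?_, fun χ ψ h => ?_,
    fun χ h ψ h' => ?_⟩
  · exact Int.cast_injective (α := ℂ) ((ha χ ψ h').symm.trans (by rw [inner_reg_symm, ha ψ χ h]))
  · have : ((∑ ζ ∈ fs B, a χ ζ * a ψ ζ : ℤ) : ℂ) = (p ^ blockDefect p B * a χ ψ : ℤ) := by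
      push_cast
      rw [← ha χ ψ h', ← sum_inner_reg hM hB (blockPart_irr_of_mem h), Finset.mul_sum, Finset.mul_sum]
      exact Finset.sum_congr rfl fun ζ hζ => by
        rw [← ha χ ζ (mem_fs.1 hζ), ← ha ψ ζ (mem_fs.1 hζ), inner_reg_symm ψ]; push_cast; ring
    exact_mod_cast this
  · rw [int_dvd_iff_v hM, h1 χ ψ h]
    exact mul_le_of_le_one_right' (mem_O_iff.1 (om_zR_mem_O ψ.2 (irr_mem_OC χ)))
  · rw [int_dvd_succ_iff_v hM, h1 χ ψ h', mul_lt_iff_lt_one_right (pow_pos (v_p_pos hM) _),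
      ← red_eq_zero_iff (om_zR_mem_O ψ.2 (irr_mem_OC χ)), ← Lz_eq hM hB h' (irr_mem_OC χ), ← Ne,
      Lz_ne_zero_iff hM hB, and_iff_right h]

section
variable {a : IrrCharacter G → IrrCharacter G → ℤ}

theorem AMat.pow_le (ha : AMat p B a) (hχ : χ ∈ B) (h0 : blockHeight p B χ.1 = 0) (hψ : ψ ∈ B) :
    (p : ℤ) ^ (2 * blockHeight p B ψ.1) ≤ a χ ψ * a χ ψ := by
  have h1 := (ha.ndvd χ hχ ψ hψ).2 h0
  obtain ⟨m, hm⟩ := ha.dvd χ ψ hψ
  have h2 : m ≠ 0 := by rintro rfl; simp [hm] at h1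
  rw [hm, mul_mul_mul_comm, ← pow_add, ← two_mul]
  exact le_mul_of_one_le_right (by positivity) (mul_self_pos.2 h2)

theorem AMat.off (ha : AMat p B a) [DecidableEq (IrrCharacter G)] (hχ : χ ∈ B) :
    ∑ ζ ∈ (fs B).erase χ, a χ ζ * a χ ζ = a χ χ * (p ^ blockDefect p B - a χ χ) := by
  have := ha.sq χ hχ χ hχ
  rw [← Finset.add_sum_erase _ _ (mem_fs.2 hχ)] at this
  linarith

theorem AMat.off_le (ha : AMat p B a) [DecidableEq (IrrCharacter G)] (hχ : χ ∈ B) :
    4 * ∑ ζ ∈ (fs B).erase χ, a χ ζ * a χ ζ ≤ p ^ (2 * blockDefect p B) := by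
  rw [ha.off hχ, pow_mul']; nlinarith [sq_nonneg (p ^ blockDefect p B - 2 * a χ χ)]
end

/-- Brauer-Feit -/
theorem brauer_feit (hM : IsPModular p M) (hB : IsPBlock M B) :
    4 * ∑ χ ∈ fs B, p ^ (2 * blockHeight p B χ.1) ≤ p ^ (2 * blockDefect p B) + 4 := by
  classical
  obtain ⟨a, ha⟩ := exists_amat hM hB
  obtain ⟨χ, h1, h2⟩ := exists_height_zero hM hB
  have h3 := Finset.sum_le_sum fun ψ (hψ : ψ ∈ (fs B).erase χ) =>
    ha.pow_le h1 h2 (mem_fs.1 (Finset.mem_of_mem_erase hψ))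
  have h4 := ha.off_le h1
  rw [← Finset.add_sum_erase _ _ (mem_fs.2 h1), h2]
  zify; rw [mul_zero, pow_zero]; linarith

theorem height_add_two_le (hM : IsPModular p M) (hB : IsPBlock M B) (hψ : ψ ∈ B) (h : blockHeight p B ψ.1 ≠ 0) :
    blockHeight p B ψ.1 + 2 ≤ blockDefect p B := by
  classical
  obtain ⟨a, ha⟩ := exists_amat hM hB
  obtain ⟨χ, h1, h2⟩ := exists_height_zero hM hB
  have h3 := ha.pow_le h1 h2 hψ
  rw [ha.symm χ h1 ψ hψ] at h3
  have h4 := Finset.single_le_sum (f := fun ζ => a ψ ζ * a ψ ζ) (fun _ _ => mul_self_nonneg _)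
    (Finset.mem_erase.2 ⟨fun e : χ = ψ => h (e ▸ h2), mem_fs.2 h1⟩)
  have h0 : (0 : ℤ) < p := by exact_mod_cast hp.out.pos
  have h5 : 0 < a ψ ψ * (p ^ blockDefect p B - a ψ ψ) := by
    rw [← ha.off hψ]; exact (pow_pos h0 _).trans_le (h3.trans h4)
  have h6 := pow_pos h0 (blockDefect p B)
  have h7 : 0 < a ψ ψ ∧ a ψ ψ < p ^ blockDefect p B := by constructor <;> nlinarith
  have h8 := Int.le_of_dvd h7.1 (not_not.1 (mt (ha.ndvd ψ hψ ψ hψ).1 h))
  have := (pow_lt_pow_iff_right₀ (by exact_mod_cast hp.out.one_lt : (1 : ℤ) < p)).1 (h8.trans_lt h7.2)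
  omega

/-! ### the rank -/

variable (p) in
/-- span of the `χ°`, `χ ∈ B` -/
noncomputable abbrev RS (B : Set (IrrCharacter G)) : Submodule ℂ (G → ℂ) :=
  Submodule.span ℂ ((fun χ : IrrCharacter G => reg p χ.1) '' B)

theorem blockRank_eq (B : Set (IrrCharacter G)) : blockRank p B = Module.finrank ℂ (RS p B) := by
  rw [blockRank, funext fun χ : IrrCharacter G => pRegularPart_eq (p := p) χ.1]

theorem reg_blockPart_mem (B : Set (IrrCharacter G)) (θ : G → ℂ) : reg p (blockPart B θ) ∈ RS p B := by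
  cases nonempty_fintype G
  rw [blockPart_eq, reg_sum]
  exact sum_mem fun χ h => by
    rw [reg_smul]; exact Submodule.smul_mem _ _ (Submodule.subset_span ⟨χ, mem_fs.1 h, rfl⟩)

theorem reg_of_mem_RS (h : θ ∈ RS p B) : reg p θ = θ := by
  induction h using Submodule.span_induction with
  | mem x h => obtain ⟨χ, -, rfl⟩ := h; exact reg_reg _
  | zero => simpa using reg_smul (p := p) 0 (0 : G → ℂ)
  | add a b _ _ h1 h2 => rw [reg_add, h1, h2]
  | smul c a _ h => rw [reg_smul, h]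

/-- `B` is closed under truncation to `p`-regular elements -/
def RC (p : ℕ) (B : Set (IrrCharacter G)) : Prop := ∀ θ, blockPart B (reg p θ) = reg p (blockPart B θ)

theorem RC.of_block (hM : IsPModular p M) (hB : IsPBlock M B) : RC p B := blockPart_reg hM hB

theorem RC.mem_iff (hB : RC p B) : θ ∈ RS p B ↔ reg p θ = θ ∧ blockPart B θ = θ := by
  refine ⟨fun h => ⟨reg_of_mem_RS h, ?_⟩, fun h => by rw [← h.1, ← h.2]; exact reg_blockPart_mem _ _⟩
  induction h using Submodule.span_induction with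
  | mem x h => obtain ⟨χ, h, rfl⟩ := h; rw [hB, blockPart_irr_of_mem h]
  | zero => simpa using blockPart_smul B 0 0
  | add a b _ _ h1 h2 => rw [blockPart_add, h1, h2]
  | smul c a _ h => rw [blockPart_smul, h]

/-- `blockPart` as a linear map -/
noncomputable def bpL (B : Set (IrrCharacter G)) : (G → ℂ) →ₗ[ℂ] (G → ℂ) where
  toFun := blockPart B
  map_add' := blockPart_add B
  map_smul' := blockPart_smul B

theorem RC.rank_eq [Fintype G] (hB : RC p B) : (blockRank p B : ℂ) = ∑ χ ∈ fs B, classInner (reg p χ.1) χ.1 := by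
  classical
  have h : LinearMap.IsProj (RS p B) (regL G p ∘ₗ bpL B) :=
    ⟨fun θ => reg_blockPart_mem B θ, fun θ h => by
      obtain ⟨h1, h2⟩ := hB.mem_iff.1 h
      exact (congrArg (reg p) h2).trans h1⟩
  rw [blockRank_eq, ← h.trace, LinearMap.trace_eq_matrix_trace ℂ (Pi.basisFun ℂ G), Matrix.trace]
  simp only [Matrix.diag, LinearMap.toMatrix_apply, Pi.basisFun_apply, Pi.basisFun_repr, classInner, Finset.mul_sum]
  rw [Finset.sum_comm]
  refine Finset.sum_congr rfl fun g _ => ?_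
  change reg p (blockPart B _) g = _
  simp only [reg]
  split_ifs
  · simp
  · simp only [blockPart_apply, classInner, Pi.single_apply, ite_mul, one_mul, zero_mul, Finset.sum_ite_eq',
      Finset.mem_univ, if_true]
    exact Finset.sum_congr rfl fun _ _ => by ring

theorem RC.card_mul_rank [Fintype G] (hB : RC p B) :
    (Nat.card G : ℂ) * blockRank p B = ∑ g, reg p (fun g => KB B g g) g := by
  rw [hB.rank_eq]
  simp only [classInner, ← Finset.mul_sum, mul_inv_cancel_left₀ (H3.card_ne_zero' G)]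
  rw [Finset.sum_comm]
  refine Finset.sum_congr rfl fun g _ => ?_
  simp only [reg, KB]; split_ifs <;> simp

theorem card_mul_card [Fintype G] (B : Set (IrrCharacter G)) : (Nat.card G : ℂ) * Nat.card B = ∑ g, KB B g g := by
  simp only [KB]
  rw [Finset.sum_comm, ← card_fs, Finset.card_eq_sum_ones]; push_cast
  rw [Finset.mul_sum]
  exact Finset.sum_congr rfl fun χ _ => by simp only [mul_comm ((χ : G → ℂ) _), H3.sum_conj_mul_irr χ.2, mul_one]

theorem rank_le_card (B : Set (IrrCharacter G)) : blockRank p B ≤ Nat.card B := by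
  classical
  rw [blockRank_eq, ← card_fs]
  have : ((fun χ : IrrCharacter G => reg p χ.1) '' B) = ((fs B).image fun χ => reg p χ.1 : Finset _) := by
    ext; simp
  rw [RS, this]; exact (finrank_span_finset_le_card _).trans Finset.card_image_le

theorem rank_pos (h : B.Nonempty) : 0 < blockRank p B := by
  obtain ⟨χ, h⟩ := h
  rw [blockRank_eq, Module.finrank_pos_iff_exists_ne_zero]
  exact ⟨⟨_, Submodule.subset_span ⟨χ, h, rfl⟩⟩, fun e => H3.irr_one_ne_zero χ.2 (by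
    rw [← reg_of_not_dvd (p := p) χ.1 (not_dvd_orderOf_one hp.out)]; exact congrFun (congrArg Subtype.val e) 1)⟩

/-! ### subsections -/

section
variable {H : Subgroup G} {z : H} {b : Set (IrrCharacter H)} {f : H → ℂ}

/-- `z` is a `p`-element with centralizer `H` -/
structure Sec (p : ℕ) (z : H) : Prop where
  elt : IsPElt p (z : G)
  eq : C1 (z : G) = H

theorem sec_cEl {x : G} (hx : IsPElt p x) : Sec p (cEl x) := ⟨hx, rfl⟩

theorem Sec.comm (hz : Sec p z) (y : H) : Commute (z : G) y := mem_centralizer_singleton.1 (hz.eq.ge y.2)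

theorem Sec.center (hz : Sec p z) : z ∈ Subgroup.center H :=
  Subgroup.mem_center_iff.2 fun g => Subtype.ext (hz.comm g).symm

theorem Sec.pp_mul (hz : Sec p z) {y : H} (hy : ¬ p ∣ orderOf y) : pp p ((z : G) * y) = z :=
  pp_mul_of_commute hp.out (hz.comm y) hz.elt (by rwa [Subgroup.orderOf_coe])

theorem Sec.pow (hz : Sec p z) {n : ℕ} (hn : ¬ p ∣ n) : Sec p (z ^ n) := by
  refine ⟨hz.elt.pow hp.out n, le_antisymm (fun g hg => hz.eq.le (mem_centralizer_singleton.2 ?_))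
    fun g hg => mem_centralizer_singleton.2 ((hz.comm ⟨g, hg⟩).pow_left n)⟩
  have := commute_pp_of_commute_zpow hp.out (g := (z : G)) (a := g) (n := n) (by exact_mod_cast hn)
    (by rw [zpow_natCast]; exact (mem_centralizer_singleton.1 hg).symm)
  rw [pp_of_isPElt hp.out hz.elt] at this; exact this.symm

theorem Sec.inv (hz : Sec p z) : Sec p z⁻¹ :=
  ⟨hz.elt.inv, (Subgroup.ext fun g => by
    simp only [mem_centralizer_singleton, InvMemClass.coe_inv, Commute.inv_left_iff]).trans hz.eq⟩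

theorem Sec.defined (hM : IsPModular p M) (hz : Sec p z) (hb : IsPBlock M b) : InducedBlockDefined M H b := by
  obtain ⟨x, hx⟩ := z
  obtain ⟨h1, h2⟩ := hz
  obtain rfl : C1 x = H := h2
  exact defined_C1 hM h1 hb

open Classical in
theorem Sec.KB (hM : IsPModular p M) (hz : Sec p z) (hB : IsPBlock M B) {y w : H} (hy : ¬ p ∣ orderOf y)
    (hw : ¬ p ∣ orderOf w) :
    KB B ((z : G) * y) ((z : G) * w) = ∑ b ∈ blocks H M with IsInducedBlock M H b B, KB b y w := by
  obtain ⟨x, hx⟩ := z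
  obtain ⟨h1, h2⟩ := hz
  obtain rfl : C1 x = H := h2
  exact KB_sect hM h1 hB hy hw

/-- the shifted restriction `c ↦ θ(z c)` -/
abbrev sh (z : H) (θ : G → ℂ) : H → ℂ := fun c => θ (z * c)

theorem Sec.class_sh (hz : Sec p z) (hθ : IsClassFunction G θ) : IsClassFunction H (sh z θ) :=
  class_shift (H3.class_restrict hθ H) hz.center

theorem Sec.OC_sh (hz : Sec p z) (hθ : θ ∈ OC G M) : sh z θ ∈ OC H M := OC_shift (OC_restrict H hθ) hz.center

theorem Sec.conj_sh (hz : Sec p z) (hθ : IsGeneralizedCharacter G θ) (c : H) : conj (sh z θ c) = sh z⁻¹ θ c⁻¹ := by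
  rw [sh, ← H3.gen_inv hθ, (hz.comm c).eq, mul_inv_rev]; rfl

theorem Sec.Lz_sh (hM : IsPModular p M) (hz : Sec p z) (hind : IsInducedBlock M H b B)
    (hθ : IsGeneralizedCharacter G θ) : Lz M p b (sh z θ) = Lz M p B θ := by
  rw [← Lz_ind hM hind (H3.gen_class hθ)]
  exact Lz_congr _ fun c _ => red_gen_mul hM hθ (hz.comm c) hz.elt

variable (p) in
/-- the `(z, b)`-component of `θ` -/
noncomputable def sb (z : H) (b : Set (IrrCharacter H)) (θ : G → ℂ) : H → ℂ := reg p (blockPart b (sh z θ))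

theorem sb_mem (z : H) (b : Set (IrrCharacter H)) (θ : G → ℂ) : sb p z b θ ∈ RS p b := reg_blockPart_mem _ _

theorem class_of_RS (h : θ ∈ RS p B) : IsClassFunction G θ := by
  induction h using Submodule.span_induction with
  | mem x h => obtain ⟨χ, -, rfl⟩ := h; exact class_reg (H3.irr_class χ.2)
  | zero => exact H3.class_zero
  | add a b _ _ h1 h2 => exact H3.class_add h1 h2
  | smul c a _ h => exact H3.class_smul c h

theorem sb_sum (z : H) (b : Set (IrrCharacter H)) {ι : Type*} (s : Finset ι) (c : ι → ℂ) (θ : ι → G → ℂ) :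
    sb p z b (∑ i ∈ s, c i • θ i) = ∑ i ∈ s, c i • sb p z b (θ i) := by
  have : sh z (∑ i ∈ s, c i • θ i) = ∑ i ∈ s, c i • sh z (θ i) := by ext; simp
  simp only [sb, this, blockPart_sum, blockPart_smul, reg_sum, reg_smul]

theorem sb_mem_O (hz : Sec p z) (hθ : θ ∈ OC G M) (c : H) : sb p z b θ c ∈ O M := by
  unfold sb reg; split_ifs
  exacts [zero_mem _, OC_apply (blockPart_mem_OC (hz.OC_sh hθ) b) c]

theorem Sec.sb_eq_zero (hM : IsPModular p M) (hz : Sec p z) (hind : IsInducedBlock M H b B) (hχ : χ ∉ B) :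
    sb p z b χ.1 = 0 := by
  funext y
  unfold sb reg; split_ifs with hy
  · rfl
  · have := second_main hM hind (z * y) (by rw [Subgroup.coe_mul, hz.pp_mul hy, hz.eq]) hχ
    rwa [← blockPart_shift _ _ hz.center] at this

theorem Sec.sb_eq_zero' (hM : IsPModular p M) (hz : Sec p z) (hb : IsPBlock M b) (hB : IsPBlock M B)
    (hind : ¬ IsInducedBlock M H b B) (hχ : χ ∈ B) : sb p z b χ.1 = 0 := by
  obtain ⟨B', h⟩ := hz.defined hM hb
  exact hz.sb_eq_zero hM h fun h' => hind (block_eq_of_mem hM h.2.1 hB h' hχ ▸ h)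

theorem Sec.sum_sb (hM : IsPModular p M) (hz : Sec p z) (hθ : IsClassFunction G θ) :
    ∑ b ∈ blocks H M, sb p z b θ = reg p (sh z θ) := by
  simp only [sb, ← reg_sum]
  exact congrArg _ (funext fun y => by rw [Finset.sum_apply, sum_blockPart hM (hz.class_sh hθ)])

open Classical in
theorem Sec.sum_sb' (hM : IsPModular p M) (hz : Sec p z) (hB : IsPBlock M B) (hχ : χ ∈ B) :
    ∑ b ∈ blocks H M with IsInducedBlock M H b B, sb p z b χ.1 = reg p (sh z χ.1) := by
  rw [← hz.sum_sb hM (H3.irr_class χ.2)]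
  exact Finset.sum_filter_of_ne fun b hb h => by_contra fun h' => h (hz.sb_eq_zero' hM (mem_blocks.1 hb) hB h' hχ)

theorem Sec.Lz_sb (hM : IsPModular p M) (hz : Sec p z) (hind : IsInducedBlock M H b B) (hχ : χ ∈ B)
    (h0 : blockHeight p B χ.1 = 0) : sb p z b χ.1 ≠ 0 := fun h => by
  cases nonempty_fintype H
  have := (red_inner hM hind.1 (hz.OC_sh (irr_mem_OC χ)) (hz.inv.OC_sh (irr_mem_OC χ))
    (hz.conj_sh (H3.irr_gen χ.2))).2 (by
      rw [hz.Lz_sh hM hind (H3.irr_gen χ.2), hz.inv.Lz_sh hM hind (H3.irr_gen χ.2), and_self,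
        Lz_ne_zero_iff hM hind.2.1]; exact ⟨hχ, h0⟩)
  rw [← sb, h] at this; simp at this

variable [Fintype G] [Fintype H]

/-- the class function of `G` supported on the section of `z` with values `f(y)` at `z y` -/
noncomputable def up (z : H) (f : H → ℂ) : G → ℂ := indFun H fun c => f (z⁻¹ * c)

theorem class_up (z : H) (f : H → ℂ) : IsClassFunction G (up z f) := H3.class_indFun _ _

theorem inner_up (z : H) (f : H → ℂ) (hθ : IsClassFunction G θ) : classInner θ (up z f) = classInner (sh z θ) f := by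
  rw [up, H3.inner_indFun_right _ _ hθ, classInner, ← sum_shift z]; simp [classInner]

theorem inner_up' (z : H) (f : H → ℂ) (hθ : IsClassFunction G θ) : classInner (up z f) θ = classInner f (sh z θ) := by
  rw [← H3.inner_conj_symm, inner_up _ _ hθ, H3.inner_conj_symm]

theorem Sec.pp_eq (hz : Sec p z) (hf : reg p f = f) {c : H} (h : f (z⁻¹ * c) ≠ 0) : pp p (c : G) = z := by
  have := hz.pp_mul (y := z⁻¹ * c) fun h' => h (by rw [← hf, reg_of_dvd _ h'])
  simpa using this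

theorem Sec.up_apply (hz : Sec p z) (hf : IsClassFunction H f) (hf' : reg p f = f) {y : H}
    (hy : ¬ p ∣ orderOf y) : up z f (z * y) = f y := by
  have := H3.indFun_ti_apply H (class_shift hf (inv_mem hz.center)) (z * y) fun x hx h => by_contra fun h' => by
    have := hz.pp_eq hf' h'
    rw [pp_conj, Subgroup.coe_mul, hz.pp_mul hy, mul_inv_eq_iff_eq_mul] at this
    exact hx (hz.eq.le (mem_centralizer_singleton.2 this.symm))
  simpa [up] using this

theorem Sec.up_eq_zero (hz : Sec p z) (hf' : reg p f = f) {g : G} (hg : ¬ IsConj (pp p g) z) : up z f g = 0 :=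
  H3.indFun_eq_zero_of_not_conj _ _ _ fun x h => by_contra fun h' =>
    hg (isConj_iff.2 ⟨x, by rw [← hz.pp_eq hf' h', pp_conj]⟩)

theorem Sec.exists_conj (hz : Sec p z) {g : G} (hg : IsConj (pp p g) z) :
    ∃ y : H, ¬ p ∣ orderOf y ∧ IsConj g (z * y) := by
  obtain ⟨x, hx⟩ := isConj_iff.1 hg
  refine ⟨⟨pq p (x * g * x⁻¹), hz.eq.le (mem_centralizer_singleton.2 ?_)⟩, ?_, isConj_iff.2 ⟨x, ?_⟩⟩
  · rw [← hx, ← pp_conj]; exact commute_pp_pq _
  · rw [Subgroup.orderOf_mk]; exact not_dvd_orderOf_pq hp.out _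
  · change _ = _ * pq p _
    rw [← hx, ← pp_conj, pp_mul_pq]

theorem Sec.up_mem_O (hz : Sec p z) (hf : IsClassFunction H f) (hf' : reg p f = f) (h : ∀ c, f c ∈ O M) (g : G) :
    up z f g ∈ O M := by
  by_cases hg : IsConj (pp p g) z
  · obtain ⟨y, h1, h2⟩ := hz.exists_conj hg
    rw [H3.class_isConj (class_up z f) h2, hz.up_apply hf hf' h1]; exact h y
  · rw [hz.up_eq_zero hf' hg]; exact zero_mem _

theorem Sec.reg_sh_up (hz : Sec p z) (hf : IsClassFunction H f) (hf' : reg p f = f) :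
    reg p (sh z (up z f)) = f := by
  funext y
  by_cases hy : p ∣ orderOf y
  · rw [reg_of_dvd _ hy, ← hf', reg_of_dvd _ hy]
  · rw [reg_of_not_dvd _ hy, sh, hz.up_apply hf hf' hy]

theorem Sec.sb_up (hM : IsPModular p M) (hz : Sec p z) (hb : IsPBlock M b) (hf : f ∈ RS p b) :
    sb p z b (up z f) = f := by
  rw [sb, ← blockPart_reg hM hb, hz.reg_sh_up (class_of_RS hf) (reg_of_mem_RS hf),
    ((RC.of_block hM hb).mem_iff.1 hf).2]

theorem inner_sb (hM : IsPModular p M) (hb : IsPBlock M b) (z : H) (θ : G → ℂ) (hf : f ∈ RS p b) :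
    classInner (sb p z b θ) f = classInner (sh z θ) f := by
  rw [sb, inner_reg_left, inner_blockPart_left, reg_of_mem_RS hf, ((RC.of_block hM hb).mem_iff.1 hf).2]

theorem Sec.blockPart_up (hM : IsPModular p M) (hz : Sec p z) (hind : IsInducedBlock M H b B) (hf : f ∈ RS p b) :
    blockPart B (up z f) = up z f := blockPart_eq_self (class_up _ _) fun χ h => by
  rw [H3.inner_eq_zero_symm, inner_up _ _ (H3.irr_class χ.2), ← inner_sb hM hind.1 _ _ hf, hz.sb_eq_zero hM hind h,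
    H3.inner_zero_left]

/-- `∑_χ [f, χ^z] [χ^z, f'] = [f, f']` -/
theorem Sec.gram (hM : IsPModular p M) (hz : Sec p z) (hind : IsInducedBlock M H b B) {f' : H → ℂ}
    (hf : f ∈ RS p b) (hf' : f' ∈ RS p b) :
    ∑ χ ∈ fs B, classInner f (sb p z b χ.1) * classInner (sb p z b χ.1) f' = classInner f f' := by
  have := inner_blockPart_eq B (up z f) (up z f')
  rw [hz.blockPart_up hM hind hf, inner_up _ _ (class_up _ _), ← inner_sb hM hind.1 _ _ hf', hz.sb_up hM hind.1 hf] at this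
  rw [this]
  exact Finset.sum_congr rfl fun χ _ => by
    rw [inner_up' _ _ (H3.irr_class χ.2), inner_up _ _ (H3.irr_class χ.2), inner_sb hM hind.1 _ _ hf',
      ← H3.inner_conj_symm, inner_sb hM hind.1 _ _ hf, H3.inner_conj_symm]

theorem Sec.sum_inner_sb (hM : IsPModular p M) (hz : Sec p z) (hind : IsInducedBlock M H b B) :
    ∑ χ ∈ fs B, classInner (sb p z b χ.1) (sb p z b χ.1) = blockRank p b := by
  have h := RC.of_block hM hind.1
  have h1 : ∀ χ : IrrCharacter G, classInner (sb p z b χ.1) (sb p z b χ.1) = ∑ ζ ∈ fs b,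
      classInner (reg p ζ.1) (sb p z b χ.1) * classInner (sb p z b χ.1) (reg p ζ.1) := fun χ => by
    conv_lhs => rw [← (h.mem_iff.1 (sb_mem z b χ.1)).2, inner_blockPart_eq, (h.mem_iff.1 (sb_mem z b χ.1)).2]
    simp only [inner_reg_left _ (sb p z b χ.1), ← inner_reg_left (sb p z b χ.1), reg_of_mem_RS (sb_mem z b χ.1),
      mul_comm]
  rw [Finset.sum_congr rfl fun χ _ => h1 χ, Finset.sum_comm, h.rank_eq]
  refine Finset.sum_congr rfl fun ζ hζ => ?_
  have : reg p ζ.1 ∈ RS p b := Submodule.subset_span ⟨ζ, mem_fs.1 hζ, rfl⟩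
  rw [hz.gram hM hind this this, ← inner_reg_left, reg_reg]

/-- contributions are local integers after multiplication by `p^{d(b)}` -/
theorem Sec.inner_sb_mem_O (hM : IsPModular p M) (hz : Sec p z) (hb : IsPBlock M b) (hθ : θ ∈ OC G M)
    (hη : IsGeneralizedCharacter G η) :
    ((p ^ blockDefect p b : ℕ) : ℂ) * classInner (sb p z b θ) (sb p z b η) ∈ O M := by
  rw [← H3.inner_conj_symm, inner_sb hM hb _ _ (sb_mem _ _ _), H3.inner_conj_symm]
  exact (red_inner_aux hM hb (hz.OC_sh hθ) (hz.inv.OC_sh (gen_mem_OC hη)) (hz.conj_sh hη)).1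

theorem Sec.red_inner_sb (hM : IsPModular p M) (hz : Sec p z) (hind : IsInducedBlock M H b B)
    (hθ : IsGeneralizedCharacter G θ) (hη : IsGeneralizedCharacter G η) :
    red M (((p ^ blockDefect p b : ℕ) : ℂ) * classInner (sb p z b θ) (sb p z b η)) ≠ 0 ↔
      Lz M p B θ ≠ 0 ∧ Lz M p B η ≠ 0 := by
  rw [← H3.inner_conj_symm, inner_sb hM hind.1 _ _ (sb_mem _ _ _), H3.inner_conj_symm, sb,
    red_inner hM hind.1 (hz.OC_sh (gen_mem_OC hθ)) (hz.inv.OC_sh (gen_mem_OC hη)) (hz.conj_sh hη),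
    hz.Lz_sh hM hind hθ, hz.inv.Lz_sh hM hind hη]

theorem ev_mk_inv (θ : G → ℂ) {ψ : G → ℂ} (hψ : IsCharacter G ψ) :
    ev ψ (mk fun g => θ g⁻¹) = Nat.card G * classInner θ ψ := by
  rw [H3.inner_char_eq hψ, mul_inv_cancel_left₀ (H3.card_ne_zero' G), ev_apply, ← Equiv.sum_comp (Equiv.inv G)]
  simp only [coeff_mk, Equiv.inv_apply, inv_inv]

/-- valuation of `p^d [θ, ψ]` for a class function with integral values -/
theorem exists_inner_eq_hw (hM : IsPModular p M) (hB : IsPBlock M B) (hθ : IsClassFunction G θ) (h : ∀ g, θ g ∈ O M) :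
    ∃ c : k M, ∀ ψ ∈ B, ∃ u ∈ O M, red M u = c ∧
      ((p ^ blockDefect p B : ℕ) : ℂ) * classInner θ ψ.1 = hw p B ψ.1 * u := by
  have h1 : mk (fun g => θ g⁻¹) ∈ Z ℂ G := mk_mem_Z fun g x => by rw [← hθ g⁻¹ x]; congr 1; group
  have h2 : mk (fun g => θ g⁻¹) ∈ IntA G M := mk_mem_IntA fun g => h _
  refine ⟨_, fun ψ hψ => ⟨_, om_mem_O ψ.2 h1 h2, (lamB_redA hM hB hψ h1 h2).symm, ?_⟩⟩
  have := H3.irr_one_ne_zero ψ.2
  have := H3.card_ne_zero' G
  rw [om_apply, ev_mk_inv _ (H3.irr_char ψ.2), hw]; field_simp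

/-- Brauer: valuations of the contributions of a subsection -/
theorem Sec.exists_eq_hw (hM : IsPModular p M) (hz : Sec p z) (hind : IsInducedBlock M H b B) (hχ : χ ∈ B)
    (hψ : ψ ∈ B) : ∃ u ∈ O M, ((p ^ blockDefect p B : ℕ) : ℂ) * classInner (sb p z b χ.1) (sb p z b ψ.1) =
      hw p B ψ.1 * u ∧ (blockDefect p b = blockDefect p B → (red M u ≠ 0 ↔ blockHeight p B χ.1 = 0)) := by
  have h0 := sb_mem (p := p) z b χ.1
  obtain ⟨c, hc⟩ := exists_inner_eq_hw hM hind.2.1 (class_up z _)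
    (hz.up_mem_O (class_of_RS h0) (reg_of_mem_RS h0) (sb_mem_O hz (irr_mem_OC χ)))
  have h1 : ∀ ψ : IrrCharacter G, classInner (up z (sb p z b χ.1)) ψ.1 = classInner (sb p z b χ.1) (sb p z b ψ.1) :=
    fun ψ => by rw [inner_up' _ _ (H3.irr_class ψ.2), ← H3.inner_conj_symm, ← inner_sb hM hind.1 _ _ h0,
      H3.inner_conj_symm]
  simp only [h1] at hc
  obtain ⟨u, h2, h3, h4⟩ := hc ψ hψ
  refine ⟨u, h2, h4, fun hd => ?_⟩
  obtain ⟨ζ, h5, h6⟩ := exists_height_zero hM hind.2.1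
  obtain ⟨w, h7, h8, h9⟩ := hc ζ h5
  have := hz.red_inner_sb hM hind (H3.irr_gen χ.2) (H3.irr_gen ζ.2)
  rw [hd, h9, red_mul (hw_mem_O hM h5) h7, mul_ne_zero_iff_left ((red_hw_ne_zero_iff hM h5).2 h6), h8,
    Lz_ne_zero_iff hM hind.2.1, Lz_ne_zero_iff hM hind.2.1] at this
  rw [h3, this]; tauto

theorem Sec.sb_ne_zero (hM : IsPModular p M) (hz : Sec p z) (hind : IsInducedBlock M H b B)
    (hd : blockDefect p b = blockDefect p B) (hψ : ψ ∈ B) : sb p z b ψ.1 ≠ 0 := fun h => by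
  obtain ⟨χ, h1, h2⟩ := exists_height_zero hM hind.2.1
  obtain ⟨u, -, h3, h4⟩ := hz.exists_eq_hw hM hind h1 hψ
  rw [h, H3.inner_zero_right, mul_zero, eq_comm, mul_eq_zero] at h3
  refine h3.elim (fun h => ?_) (ne_zero_of_red_ne_zero ((h4 hd).2 h2))
  have := v_hw hM hψ
  rw [h, map_zero] at this; exact pow_ne_zero _ (v_p_ne_zero hM) this.symm
end

/-- representatives of the classes of `p`-elements -/
structure PReps (p : ℕ) (X : Finset G) : Prop where
  elt : ∀ x ∈ X, IsPElt p x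
  ex : ∀ g, IsPElt p g → ∃! x, x ∈ X ∧ IsConj g x

theorem exists_pReps (G : Type*) [Group G] [Finite G] (p : ℕ) : ∃ X : Finset G, PReps p X := by
  refine ⟨fs {x | IsPElt p x ∧ x = Quotient.out (ConjClasses.mk x)}, fun x h => (mem_fs.1 h).1, fun g hg => ?_⟩
  have h := isConj_out g
  refine ⟨_, ⟨mem_fs.2 ⟨?_, ?_⟩, h.symm⟩, fun y hy => ?_⟩
  · obtain ⟨c, hc⟩ := isConj_iff.1 h.symm
    rw [← hc]; exact hg.conj c
  · rw [ConjClasses.mk_eq_mk_iff_isConj.2 h]
  · rw [(mem_fs.1 hy.1).2, ConjClasses.mk_eq_mk_iff_isConj.2 hy.2]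

variable {X : Finset G}

theorem PReps.one_mem (hX : PReps p X) : (1 : G) ∈ X := by
  obtain ⟨x, ⟨h1, h2⟩, -⟩ := hX.ex 1 isPElt_one
  rwa [isConj_one_right.1 h2] at h1

theorem PReps.eq_sum [Fintype G] (hX : PReps p X) (hθ : IsClassFunction G θ) :
    θ = ∑ x ∈ X, up (cEl x) (reg p (sh (cEl x) θ)) := by
  funext g
  obtain ⟨x, ⟨h1, h2⟩, h3⟩ := hX.ex _ (isPElt_pp hp.out g)
  have hz := sec_cEl (hX.elt x h1)
  cases nonempty_fintype (C1 x)
  rw [Finset.sum_apply, Finset.sum_eq_single_of_mem x h1 fun y hy hne => by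
    cases nonempty_fintype (C1 y)
    exact (sec_cEl (hX.elt y hy)).up_eq_zero (reg_reg _) fun h => hne (h3 y ⟨hy, h⟩)]
  obtain ⟨y, h4, h5⟩ := hz.exists_conj h2
  rw [H3.class_isConj (class_up _ _) h5, hz.up_apply (class_reg (hz.class_sh hθ)) (reg_reg _) h4,
    reg_of_not_dvd _ h4, H3.class_isConj hθ h5]

theorem PReps.inner [Fintype G] [∀ x : G, Fintype (C1 x)] (hX : PReps p X) (hθ : IsClassFunction G θ)
    (hη : IsClassFunction G η) :
    classInner θ η = ∑ x ∈ X, classInner (reg p (sh (cEl x) θ)) (sh (cEl x) η) := by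
  conv_lhs => rw [hX.eq_sum hθ, H3.inner_sum_left]
  simp only [inner_up' _ _ hη]

open Classical in
theorem PReps.inner_irr [Fintype G] [∀ x : G, Fintype (C1 x)] (hM : IsPModular p M) (hX : PReps p X)
    (hB : IsPBlock M B) (hχ : χ ∈ B) (hη : IsClassFunction G η) :
    classInner χ.1 η = ∑ x ∈ X, ∑ b ∈ blocks (C1 x) M with IsInducedBlock M (C1 x) b B,
      classInner (sb p (cEl x) b χ.1) (sb p (cEl x) b η) := by
  rw [hX.inner (H3.irr_class χ.2) hη]
  refine Finset.sum_congr rfl fun x hx => ?_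
  rw [← (sec_cEl (hX.elt x hx)).sum_sb' hM hB hχ, H3.inner_sum_left]
  exact Finset.sum_congr rfl fun b hb => by
    rw [← H3.inner_conj_symm, ← inner_sb hM (Finset.mem_filter.1 hb).2.1 _ _ (sb_mem _ _ _), H3.inner_conj_symm]

open Classical in
/-- `k(B) = ∑ l(b)` -/
theorem PReps.card_eq (hM : IsPModular p M) (hX : PReps p X) (hB : IsPBlock M B) :
    Nat.card B = ∑ x ∈ X, ∑ b ∈ blocks (C1 x) M with IsInducedBlock M (C1 x) b B, blockRank p b := by
  cases nonempty_fintype G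
  refine Nat.cast_injective (R := ℂ) ?_
  rw [← card_fs, Finset.card_eq_sum_ones]; push_cast
  rw [Finset.sum_congr rfl fun χ h => (H3.irr_inner_self χ.2).symm.trans
    (hX.inner_irr hM hB (mem_fs.1 h) (H3.irr_class χ.2)), Finset.sum_comm]
  refine Finset.sum_congr rfl fun x hx => ?_
  rw [Finset.sum_comm]
  exact Finset.sum_congr rfl fun b hb => (sec_cEl (hX.elt x hx)).sum_inner_sb hM (Finset.mem_filter.1 hb).2

open Classical in
theorem Sec.sum_rank {H : Subgroup G} [Fintype H] {z : H} (hM : IsPModular p M) (hz : Sec p z) (hB : IsPBlock M B) :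
    (Nat.card H : ℂ) * ∑ b ∈ blocks H M with IsInducedBlock M H b B, blockRank p b =
      ∑ y : H, reg p (fun y : H => H4.KB B ((z : G) * y) ((z : G) * y)) y := by
  push_cast
  rw [Finset.mul_sum, Finset.sum_congr rfl fun b hb =>
    (RC.of_block hM (Finset.mem_filter.1 hb).2.1).card_mul_rank, Finset.sum_comm]
  refine Finset.sum_congr rfl fun y _ => ?_
  unfold reg; split_ifs with hy
  exacts [Finset.sum_const_zero, (hz.KB hM hB hy hy).symm]

open Classical in
theorem sum_rank_one (hM : IsPModular p M) (hB : IsPBlock M B) :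
    ∑ b ∈ blocks (C1 (1 : G)) M with IsInducedBlock M (C1 1) b B, blockRank p b = blockRank p B := by
  cases nonempty_fintype G
  have h := (sec_cEl (isPElt_one (G := G) (p := p))).sum_rank hM hB
  have h1 : Nat.card (C1 (1 : G)) = Nat.card G := by rw [C1_one, Subgroup.card_top]
  have h2 := Finset.sum_subtype (F := inferInstance) Finset.univ (p := (· ∈ C1 (1 : G))) (by simp [C1_one])
    (fun y => reg p (fun y => KB B y y) y)
  rw [h1, (Finset.sum_congr rfl fun y _ => by simp [reg]).trans h2.symm, ← (RC.of_block hM hB).card_mul_rank] at h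
  exact_mod_cast mul_left_cancel₀ (H3.card_ne_zero' G) h

open Classical in
/-- `k(B) - l(B) = ∑_{x ≠ 1} l(b)` -/
theorem PReps.card_eq_rank_add (hM : IsPModular p M) (hX : PReps p X) (hB : IsPBlock M B) :
    Nat.card B = blockRank p B +
      ∑ x ∈ X.erase 1, ∑ b ∈ blocks (C1 x) M with IsInducedBlock M (C1 x) b B, blockRank p b := by
  rw [hX.card_eq hM hB, ← Finset.add_sum_erase _ _ hX.one_mem, sum_rank_one hM hB]

open scoped ComplexOrder in
theorem defect_eq_zero_of_rank (hM : IsPModular p M) (hB : IsPBlock M B) (h : Nat.card B = blockRank p B) :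
    blockDefect p B = 0 := by
  cases nonempty_fintype G
  have h1 := card_mul_card B
  rw [h, (RC.of_block hM hB).card_mul_rank, eq_comm, ← sub_eq_zero, ← Finset.sum_sub_distrib,
    Finset.sum_eq_zero_iff_of_nonneg fun g _ => by
      unfold reg; split_ifs
      · rw [sub_zero, KB_self]; exact Complex.zero_le_real.2 (by positivity)
      · exact (sub_self _).ge] at h1
  obtain ⟨χ, h2⟩ := block_nonempty hM hB
  rw [eq_blockOf hM hB h2, blockDefect_blockOf_eq_zero_iff hM]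
  refine nu_eq_of_vanish hp.out χ.2 fun g hg => ?_
  have h3 := h1 g (Finset.mem_univ g)
  rw [reg_of_dvd _ hg, sub_zero, KB_self, Complex.ofReal_eq_zero,
    Finset.sum_eq_zero_iff_of_nonneg fun _ _ => by positivity] at h3
  simpa using h3 χ (mem_fs.2 h2)

theorem eq_singleton_of_defect (hM : IsPModular p M) (hB : IsPBlock M B) (h : blockDefect p B = 0) (hχ : χ ∈ B) :
    B = {χ} := (eq_blockOf hM hB hχ).trans (blockOf_eq_singleton hM (nu_eq_of_blockDefect_eq_zero h hχ))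

theorem card_eq_one_of_defect (hM : IsPModular p M) (hB : IsPBlock M B) (h : blockDefect p B = 0) :
    Nat.card B = 1 := by
  obtain ⟨χ, h2⟩ := block_nonempty hM hB
  rw [eq_singleton_of_defect hM hB h h2, Nat.card_unique]

theorem rank_eq_one_of_defect (hM : IsPModular p M) (hB : IsPBlock M B) (h : blockDefect p B = 0) :
    blockRank p B = 1 :=
  le_antisymm (card_eq_one_of_defect hM hB h ▸ rank_le_card B) (rank_pos (block_nonempty hM hB))

theorem v_div_card_lt [Fintype G] (hM : IsPModular p M) (hθ : IsClassFunction G θ)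
    (h0 : ∀ x, p ∣ orderOf x → θ x = 0) (h : ∀ χ : IrrCharacter G, v M (classInner θ χ.1) < 1) (g : G) :
    v M (θ g / Nat.card (C1 g)) < 1 := by
  by_cases h1 : θ = 0
  · simp [h1]
  obtain ⟨χ, h2, h3⟩ := exists_scale_OC (M := M) hθ h1
  have := mul_lt_one_of_lt_of_le (h χ) (mem_O_iff.1 (div_card_mem_O hM h3 (fun x hx => by simp [h0 x hx]) g))
  rwa [← map_mul, Pi.smul_apply, smul_eq_mul, mul_div_assoc, mul_inv_cancel_left₀ h2] at this

theorem inner_KB [Fintype G] (h : G) (hχ : χ ∈ B) : classInner (fun g => KB B g h) χ.1 = conj (χ.1 h) := by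
  classical
  rw [KB_eq_sum, H3.inner_sum_left, Finset.sum_eq_single_of_mem χ (mem_fs.2 hχ) fun ψ _ hne => by
    rw [H3.inner_smul_left, H3.irr_inner_ne ψ.2 χ.2 (Subtype.coe_injective.ne hne), mul_zero],
    H3.inner_smul_left, H3.irr_inner_self χ.2, mul_one]

theorem blockPart_KB (B : Set (IrrCharacter G)) (h : G) : blockPart B (fun g => KB B g h) = fun g => KB B g h := by
  rw [← blockPart_idem B, funext fun g => (blockPart_KB_univ B g h).symm, blockPart_idem, blockPart_idem]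

theorem KB_one_one (B : Set (IrrCharacter G)) : KB B 1 1 = (∑ χ ∈ fs B, charDegree χ.1 ^ 2 : ℕ) := by
  rw [KB]; push_cast; exact Finset.sum_congr rfl fun χ _ => by rw [irr_one_eq, map_natCast, sq]

/-- `ν(∑ χ(1)²) = 2a - d` -/
theorem red_KB_one (hM : IsPModular p M) (hB : IsPBlock M B) :
    red M (((p ^ blockDefect p B : ℕ) : ℂ) * KB B 1 1 / Nat.card G / Nat.card G) ≠ 0 := by
  classical
  cases nonempty_fintype G
  obtain ⟨ψ, h1, h2⟩ := exists_height_zero hM hB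
  set q : ℂ := ((p ^ blockDefect p B : ℕ) : ℂ)
  have h3 : ∀ χ : IrrCharacter G, classInner ((q / Nat.card G) • fun g => KB B g 1) χ.1 =
      if χ ∈ B then hw p B χ.1 else 0 := fun χ => by
    rw [H3.inner_smul_left]; split_ifs with h
    · rw [inner_KB _ h, irr_one_eq, map_natCast, ← irr_one_eq, hw]; ring
    · rw [inner_eq_zero_of_blockPart (blockPart_KB B 1) h, mul_zero]
  have h4 : ∀ x : G, p ∣ orderOf x → KB B x 1 = 0 := fun x hx => KB_eq_zero_weak' hM hB hx (not_dvd_orderOf_one hp.out)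
  have h5 := div_card_mem_O_one hM (mem_OC_of_inner (H3.class_smul _ (class_KB B 1)) fun χ => by
    rw [h3]; split_ifs with h; exacts [hw_mem_O hM h, zero_mem _]) fun x hx => by simp [h4 x hx]
  have h6 := v_div_card_lt hM (θ := q • reg p ψ.1 - sec M (Lz M p B ψ.1) • (q / Nat.card G) • fun g => KB B g 1)
    (H3.class_sub (H3.class_smul _ (class_reg (H3.irr_class ψ.2))) (H3.class_smul _ (H3.class_smul _ (class_KB B 1))))
    (fun x hx => by simp [h4 x hx, reg_of_dvd _ hx]) (fun χ => by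
      rw [H3.inner_sub_left, H3.inner_smul_left, H3.inner_smul_left, h3]; split_ifs with h
      · rw [inner_reg_eq_hw, mul_comm (sec M _), ← mul_sub, map_mul, mul_comm]
        refine mul_lt_one_of_lt_of_le ?_ (mem_O_iff.1 (hw_mem_O hM h))
        rw [← red_eq_iff (om_zR_mem_O χ.2 (irr_mem_OC ψ)) (sec_mem _), red_sec, Lz_eq hM hB h (irr_mem_OC ψ)]
      · simp [inner_reg_eq_zero hM hB h1 h]) 1
  simp only [C1_one, Subgroup.card_top, Pi.sub_apply, Pi.smul_apply, smul_eq_mul, sub_div, mul_div_assoc,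
    reg_of_not_dvd _ (not_dvd_orderOf_one hp.out)] at h5 h6
  rw [← mul_div_assoc q, ← hw, ← red_eq_iff (hw_mem_O hM h1) (mul_mem (sec_mem _) h5), red_mul (sec_mem _) h5] at h6
  have := (red_hw_ne_zero_iff hM h1).2 h2
  rw [h6] at this
  convert right_ne_zero_of_mul this using 2; ring

theorem factorization_sum_sq (hM : IsPModular p M) (hB : IsPBlock M B) :
    (∑ χ ∈ fs B, charDegree χ.1 ^ 2).factorization p + blockDefect p B = 2 * (Nat.card G).factorization p := by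
  have h := red_KB_one hM hB
  have h0 := sum_sq_degree_ne_zero (block_nonempty hM hB)
  rw [KB_one_one, Nat.cast_ne_zero] at h0
  have h1 := (Nat.card_pos (α := G)).ne'
  rw [KB_one_one, div_div, ← Nat.cast_mul, ← Nat.cast_mul, red_natCast_div_ne_zero_iff hM
    (mul_ne_zero (pow_ne_zero _ hp.out.ne_zero) h0) (mul_ne_zero h1 h1), Nat.factorization_mul h1 h1,
    Nat.factorization_mul (pow_ne_zero _ hp.out.ne_zero) h0, hp.out.factorization_pow] at h
  simpa [add_comm, two_mul] using h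

/-- `ν` of the degree of the `B`-part of an induced character -/
theorem blockPart_indFun_one [Fintype G] (H : Subgroup G) (ξ : IrrCharacter H) (B : Set (IrrCharacter G)) :
    blockPart B (indFun H ξ.1) 1 = indFun H ξ.1 1 * om ξ.1 (resA H (fI B)) := by
  rw [blockPart_eq_ev (H3.class_indFun _ _), ← one_def, mul_one, ev_indFun _ _ (fI_mem_Z B), H3.indFun_one,
    ev_eq_om_mul (H3.irr_one_ne_zero ξ.2)]; ring

theorem red_om_resA_fI (hM : IsPModular p M) {H : Subgroup G} {b : Set (IrrCharacter H)} {B₀ : Set (IrrCharacter G)}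
    (hind : IsInducedBlock M H b B₀) {ξ : IrrCharacter H} (hξ : ξ ∈ b) (hB : IsPBlock M B) :
    om ξ.1 (resA H (fI B)) ∈ O M ∧ red M (om ξ.1 (resA H (fI B))) = lamB M B₀ (eB M B) := by
  have h1 := resA_mem_Z' H (fI_mem_Z B)
  have h2 := resA_mem_IntA H (fI_mem_IntA hM hB)
  exact ⟨om_mem_O ξ.2 h1 h2, by rw [← lamB_redA hM hind.1 hξ h1 h2, redA_resA, redA_fI, ind_lamB hM hind (eB_mem_Z B)]⟩

/-- blocks of rank one -/
theorem rank_one [Fintype G] (hM : IsPModular p M) (hB : IsPBlock M B) (h : blockRank p B = 1) :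
    ∃ (φ : G → ℂ) (d : IrrCharacter G → ℕ), IsGeneralizedCharacter G φ ∧ blockPart B φ = φ ∧
      (∀ χ ∈ B, reg p χ.1 = (d χ : ℂ) • reg p φ) ∧ ∑ χ ∈ fs B, d χ ^ 2 = p ^ blockDefect p B ∧
      ((p ^ blockDefect p B : ℕ) : ℂ) * classInner (reg p φ) φ = 1 ∧ ∃ n : ℕ, φ 1 = n := by
  classical
  obtain ⟨ψ, h1, h2⟩ := exists_height_zero hM hB
  obtain ⟨a, ha⟩ := exists_amat hM hB
  have r1 := fun θ : G → ℂ => reg_of_not_dvd (p := p) θ (not_dvd_orderOf_one hp.out)
  have h3 : ∀ χ ∈ B, reg p χ.1 = (χ.1 1 / ψ.1 1) • reg p ψ.1 := fun χ hχ => by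
    obtain ⟨c, hc⟩ := (finrank_eq_one_iff_of_nonzero' (⟨reg p ψ.1, Submodule.subset_span ⟨ψ, h1, rfl⟩⟩ : RS p B)
      fun e => H3.irr_one_ne_zero ψ.2 (by rw [← r1 ψ.1]; exact congrFun (congrArg Subtype.val e) 1)).1
      ((blockRank_eq B).symm.trans h) ⟨_, Submodule.subset_span ⟨χ, hχ, rfl⟩⟩
    have h4 : c • reg p ψ.1 = reg p χ.1 := congrArg Subtype.val hc
    have h5 := congrFun h4 1
    rw [Pi.smul_apply, r1, r1, smul_eq_mul] at h5
    rw [← h4, ← h5, mul_div_cancel_right₀ _ (H3.irr_one_ne_zero ψ.2)]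
  obtain ⟨n, hn⟩ := Finset.gcd_eq_sum_mul (fs B) fun χ => (charDegree χ.1 : ℤ)
  set g := (fs B).gcd fun χ => (charDegree χ.1 : ℤ)
  have g0 : 0 ≤ g := Int.nonneg_of_normalize_eq_self Finset.normalize_gcd
  have g1 : ∀ χ ∈ B, g.toNat ∣ charDegree χ.1 := fun χ hχ => by
    rw [← Int.natCast_dvd_natCast, Int.toNat_of_nonneg g0]; exact Finset.gcd_dvd (mem_fs.2 hχ)
  have g2 : (g : ℂ) = g.toNat := by rw [← Int.cast_natCast, Int.toNat_of_nonneg g0]
  have g3 : (g.toNat : ℂ) ≠ 0 := Nat.cast_ne_zero.2 (ne_zero_of_dvd_ne_zero (charDegree_ne_zero ψ.2) (g1 ψ h1))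
  obtain ⟨φ, hφ⟩ : ∃ φ, φ = ∑ χ ∈ fs B, (n χ : ℂ) • χ.1 := ⟨_, rfl⟩
  have p1 : φ 1 = g.toNat := by
    rw [← g2, hn, hφ]; push_cast
    exact (Finset.sum_apply _ _ _).trans (Finset.sum_congr rfl fun χ _ => by simp [irr_one_eq χ, mul_comm])
  have h4 : reg p φ = (g.toNat / ψ.1 1) • reg p ψ.1 := by
    rw [← p1, hφ, reg_sum, Finset.sum_apply, Finset.sum_div, Finset.sum_smul]
    exact Finset.sum_congr rfl fun χ hχ => by
      rw [reg_smul, h3 χ (mem_fs.1 hχ), smul_smul, Pi.smul_apply, smul_eq_mul, mul_div_assoc]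
  obtain ⟨d, hd⟩ : ∃ d : IrrCharacter G → ℕ, d = fun χ => charDegree χ.1 / g.toNat := ⟨_, rfl⟩
  have h5 : ∀ χ ∈ B, reg p χ.1 = (d χ : ℂ) • reg p φ := fun χ hχ => by
    rw [h4, h3 χ hχ, smul_smul, hd, Nat.cast_div (g1 χ hχ) g3, irr_one_eq χ]; congr 1; field_simp
  obtain ⟨h6, h7⟩ := (gen_in_iff (B := B) (θ := φ)).1 ⟨n, fun g => by rw [hφ, finsum_mem_eq_fs]; simp⟩
  set q : ℂ := ((p ^ blockDefect p B : ℕ) : ℂ) with hq
  have h8 : ∀ χ ∈ B, ∀ ζ ∈ B, (a χ ζ : ℂ) = d χ * d ζ * (q * classInner (reg p φ) φ) := fun χ hχ ζ hζ => by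
    rw [← ha.eq χ ζ hζ, ← reg_reg, inner_reg_left, h5 χ hχ, h5 ζ hζ, H3.inner_smul_left, H3.inner_smul_right,
      map_natCast, ← inner_reg_left, reg_reg]; ring
  have h9 : q * classInner (reg p φ) φ = (∑ χ ∈ fs B, ∑ ζ ∈ fs B, n χ * n ζ * a χ ζ : ℤ) := by
    conv_lhs => rw [hφ, reg_sum, H3.inner_sum_left]
    push_cast
    simp only [H3.inner_sum_right, Finset.mul_sum, reg_smul, H3.inner_smul_left, H3.inner_smul_right, map_intCast]
    exact Finset.sum_congr rfl fun χ _ => Finset.sum_congr rfl fun ζ hζ => by rw [← ha.eq χ ζ (mem_fs.1 hζ)]; ring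
  generalize ∑ χ ∈ fs B, ∑ ζ ∈ fs B, n χ * n ζ * a χ ζ = t at h9
  rw [h9] at h8
  have h10 : ∀ χ ∈ B, ∀ ζ ∈ B, a χ ζ = d χ * d ζ * t := fun χ hχ ζ hζ => by exact_mod_cast h8 χ hχ ζ hζ
  have h11 := (ha.ndvd ψ h1 ψ h1).2 h2
  have h12 := ha.sq ψ h1 ψ h1
  rw [Finset.sum_congr rfl fun ζ hζ => show a ψ ζ * a ψ ζ = (d ζ ^ 2 : ℕ) * t * a ψ ψ by
    rw [h10 ψ h1 ζ (mem_fs.1 hζ), h10 ψ h1 ψ h1]; push_cast; ring, ← Finset.sum_mul, ← Finset.sum_mul,
    mul_left_inj' (fun e : a ψ ψ = 0 => h11 (e ▸ dvd_zero _)), ← Nat.cast_sum] at h12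
  rw [h2, zero_add, pow_one, h10 ψ h1 ψ h1] at h11
  have h13 : 0 < t := pos_of_mul_pos_right (h12 ▸ pow_pos (by exact_mod_cast hp.out.pos) _) (Nat.cast_nonneg _)
  have h14 : t = 1 := by
    lift t to ℕ using h13.le
    obtain ⟨j, -, rfl⟩ := (Nat.dvd_prime_pow hp.out).1 (Dvd.intro_left _ (by exact_mod_cast h12 : _ * t = p ^ _))
    obtain rfl | hj := j.eq_zero_or_pos
    · simp
    · exact (h11 (Dvd.dvd.mul_left (by exact_mod_cast dvd_pow_self p hj.ne') _)).elim
  rw [h14, mul_one] at h12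
  exact ⟨φ, d, h6, h7, h5, by exact_mod_cast h12, by rw [h9, h14, Int.cast_one], _, p1⟩

end H4
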