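import Cfsg.Agent.H4.Cent
import Cfsg.Agent.S4650

/-!
# Blocks with abelian defect groups
`MaxP.fus_ab`, `TI`, `lb`, `card_mul_inner_ab`, `card_mul_card_ab`, `free_count`, `ANil.ab`.
-/

set_option autoImplicit false
set_option linter.unusedSectionVars false

namespace H4
open MonoidAlgebra Cfsg H1
open scoped Pointwise ComplexConjugate

variable {G : Type*} [Group G] [Finite G] {M : Ideal AlgInt} {p : ℕ} [hp : Fact p.Prime]
variable {H Q P D : Subgroup G} {j e f : (k M)[G]} {θ θ' : G → ℂ} {g u : G} {z : H}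
  {b : Set (IrrCharacter H)} {B : Set (IrrCharacter G)} {χ ψ : IrrCharacter G} {η η' : P → ℂ}

theorem St.inner_supp [Fintype G] [Fintype H] (hM : IsPModular p M) (h1 : St p e η) (hz : Sec p z)
    (hb : IsPBlock M b) (h : SLE p (Subgroup.zpowers (z : G)) (aE M H b) P e) {t : P} (ht : (t : G) = z)
    (h0 : ∀ t', η t' ≠ 0 → BRel p P e z (aE M H b) t') (hθ : IsClassFunction G θ) (hθ' : IsClassFunction G θ') :
    classInner (star p e θ η) θ' = η t * classInner (sb p z b θ) (sb p z b θ') := by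
  have h2 : ∀ x f, H4.wt p e η x f ≠ 0 → ∃ y, z = y * x * y⁻¹ ∧ cj y f = aE M H b := by
    intro x f h2
    obtain ⟨t', h3⟩ := not_not.1 (mt (wt_of_not _) h2)
    rw [h1.wt_eq h3] at h2
    obtain ⟨s, h5, h6⟩ := h0 t' h2
    obtain ⟨y, h3, h4⟩ := h3
    exact ⟨s⁻¹ * y, by rw [mul_inv_rev, mul_assoc s⁻¹, mul_assoc, ← mul_assoc (y * x), ← h3, h5]; group,
      by rw [cj_mul, h4.unique hM h6, cj_inv_cj]⟩
  have h4 := h1.wt_eq (SLE.brel (t := t) (ht ▸ h))
  rw [ht] at h4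
  obtain ⟨X, hX, h5⟩ := exists_pReps_mem hz.elt
  obtain ⟨z, hz'⟩ := z
  obtain ⟨h6, rfl : C1 z = H⟩ := hz
  have := fun x : G => Fintype.ofFinite (C1 x)
  rw [hX.inner_sb hM (class_star hM hθ _) hθ', Finset.sum_eq_single_of_mem z h5 fun x hx hne => ?_,
    Finset.sum_eq_single_of_mem b (mem_blocks.2 hb) fun b' hb' hne => ?_, (sec_cEl h6).sb_star hM hθ hb, h4,
    H3.inner_smul_left]
  · congr!
  · rw [(sec_cEl h6).sb_star hM hθ (mem_blocks.1 hb'), H3.inner_smul_left]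
    refine mul_eq_zero_of_left (by_contra fun h7 => hne ?_) _
    obtain ⟨y, h8, h9⟩ := h2 _ _ h7
    rw [mem_Fix.1 (mem_ZA.1 (aE_mem_ZA _ b')).1 y (mem_centralizer_singleton.2 (mul_inv_eq_iff_eq_mul.1 h8.symm).symm)] at h9
    exact aE_inj hM (mem_blocks.1 hb') hb h9
  · refine Finset.sum_eq_zero fun b' hb' => ?_
    rw [(sec_cEl (hX.elt x hx)).sb_star hM hθ (mem_blocks.1 hb'), H3.inner_smul_left]
    refine mul_eq_zero_of_left (by_contra fun h7 => hne ?_) _
    obtain ⟨y, h8, -⟩ := h2 _ _ h7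
    exact (hX.ex x (hX.elt x hx)).unique ⟨hx, IsConj.refl _⟩ ⟨h5, isConj_iff.2 ⟨y, h8.symm⟩⟩

variable (p P e) in
/-- the block of `C_G(t)` below `(P, e)` -/
noncomputable def lb (t : G) : Set (IrrCharacter (C1 t)) :=
  Classical.epsilon fun b => IsPBlock M b ∧ SLE p (Subgroup.zpowers t) (aE M (C1 t) b) P e

theorem MaxP.lb (hM : IsPModular p M) (hB : IsPBlock M B) (hm : MaxP p (eB M B) P e) (t : P) :
    IsInducedBlock M (C1 (t : G)) (H4.lb p P e t) B ∧ SLE p (Subgroup.zpowers (t : G)) (aE M _ (H4.lb p P e t)) P e := by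
  obtain ⟨b, h1, h2⟩ := hm.exists_loc hM hB t
  have h3 := Classical.epsilon_spec (p := fun b => IsPBlock M b ∧ SLE p _ (aE M (C1 (t : G)) b) P e) ⟨b, h1.1, h2⟩
  obtain rfl : b = H4.lb p P e t := aE_inj hM h1.1 h3.1 (h2.unique hM h3.2)
  exact ⟨h1, h2⟩

theorem MaxP.ADG_ab (hM : IsPModular p M) (h : MaxP p j P e) (hab : P ≤ CS P) (h' : SLE p Q f P e) :
    ADG p (CS Q) f P :=
  have h1 : P ≤ CS Q := hab.trans (CS_anti h'.le)
  ⟨h1, h.dg.isP, (h'.nsub hM (h1.trans (CS_le_NS Q))).ne, fun S h4 h5 h6 => by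
    obtain ⟨g, h7⟩ := exists_nsub_sup hM h'.isP h'.bf h5 (h4.trans (CS_le_Stab h'.bf)) h6
    obtain ⟨y, h8, -⟩ := h7.exists_conj hM h (h.mul_of_sle hM h')
    rw [← card_conj_smul y S]
    exact Subgroup.card_le_of_le ((conj_smul_mono y le_sup_right).trans h8)⟩

theorem MaxP.fus_ab (hM : IsPModular p M) (h : MaxP p j P e) (hab : P ≤ CS P) (h' : SLE p Q f P e) {x : G}
    (h'' : SLE p (MulAut.conj x • Q) (cj x f) P e) : ∃ y ∈ Stab (NS P) e, ∀ u ∈ Q, x * u * x⁻¹ = y * u * y⁻¹ := by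
  have h1 := h.ADG_ab hM hab h''
  have h2 := h''.nsub hM (h1.le.trans (CS_le_NS _))
  have h4 := (h'.nsub hM ((h.ADG_ab hM hab h').le.trans (CS_le_NS _))).cj x
  obtain ⟨c, h5, h6⟩ := exists_conj_SLE hM h''.bf h1 (CS_anti h''.le) h.be h2.mul h4.isP
    (CS_conj x Q ▸ conj_smul_mono x (h.ADG_ab hM hab h').le) (CS_anti h4.le) h4.be h4.mul
  rw [conj_smul_conj_smul, ← cj_mul] at h6
  have h7 := eq_of_le_of_card_eq h6.le (card_conj_smul _ _)
  rw [h7] at h6
  refine ⟨c * x, ⟨conj_smul_eq_self_iff.1 h7, h6.eq_of_eq⟩, fun u hu => ?_⟩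
  rw [show c * x * u * (c * x)⁻¹ = c * (x * u * x⁻¹) * c⁻¹ by group, ← h5 _ (conj_mem_conj_smul hu), mul_inv_cancel_right]

/-- invariance under a subgroup normalizing `P` -/
def TI (T : Subgroup G) (η : P → ℂ) : Prop := ∀ y ∈ T, ∀ t t' : P, (t' : G) = y * t * y⁻¹ → η t' = η t

theorem TI.st (hM : IsPModular p M) (h : MaxP p j P e) (hab : P ≤ CS P) (hη : TI (Stab (NS P) e) η) : St p e η :=
  st_of fun t t' _ _ h1 h2 h3 =>
    let ⟨y, h4, h5⟩ := h.fus_ab hM hab h1 h3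
    hη y h4 t t' (h2.trans (h5 _ (Subgroup.mem_zpowers _)))

/-- conjugation action on `P` -/
def cP (T : Subgroup G) (h : T ≤ NS P) (x : T) : P ≃ P :=
  (P.normalizerMonoidHom ⟨x, h x.2⟩).toEquiv

@[simp] theorem coe_cP {T : Subgroup G} (h : T ≤ NS P) (x : T) (t : P) : (cP T h x t : G) = x * t * (x : G)⁻¹ := rfl

open Classical in
/-- orbit counting function -/
noncomputable def oc (T : Subgroup G) (t t' : P) : ℂ := ∑ x ∈ fs (T : Set G), if (t' : G) = x * t * x⁻¹ then 1 else 0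

theorem ti_oc (T : Subgroup G) (t : P) : TI T (oc T t) := fun y hy s s' h => by
  classical
  refine Finset.sum_nbij' (y⁻¹ * ·) (y * ·) (fun x hx => by simpa using mul_mem (inv_mem hy) (mem_fs.1 hx))
    (fun x hx => by simpa using mul_mem hy (mem_fs.1 hx)) (by simp) (by simp) fun x _ => if_congr ?_ rfl rfl
  rw [h]
  exact ⟨fun e => by rw [show (s : G) = y⁻¹ * (y * s * y⁻¹) * y by group, e]; group, fun e => by rw [e]; group⟩

theorem oc_self (T : Subgroup G) (t : P) : oc T t t = Nat.card (T ⊓ C1 (t : G) : Subgroup G) := by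
  classical
  rw [oc, Finset.sum_boole, ← SetLike.coe_sort_coe, ← card_fs]
  congr 2; ext x
  simp [mem_centralizer_singleton, eq_mul_inv_iff_mul_eq, Commute, SemiconjBy]

theorem TI.eq_sum [Fintype P] {T : Subgroup G} (h : T ≤ NS P) (hη : TI T η) :
    η = ∑ t, ((Nat.card T : ℂ)⁻¹ * η t) • oc T t := by
  classical
  funext s
  simp only [Finset.sum_apply, Pi.smul_apply, smul_eq_mul, oc, Finset.mul_sum]
  rw [Finset.sum_comm, Finset.sum_congr rfl (g := fun _ => (Nat.card T : ℂ)⁻¹ * η s) fun x hx => ?_, Finset.sum_const,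
    card_fs, nsmul_eq_mul, SetLike.coe_sort_coe, mul_inv_cancel_left₀ (H3.card_ne_zero' _)]
  obtain ⟨s, rfl⟩ := (cP T h ⟨x, mem_fs.1 hx⟩).surjective s
  rw [Finset.sum_eq_single s (fun t _ ht => ?_) (by simp), if_pos (coe_cP h _ s), mul_one,
    hη x (mem_fs.1 hx) s _ (coe_cP h ⟨x, mem_fs.1 hx⟩ s)]
  rw [if_neg fun e => ht (by simpa using e.symm), mul_zero]

theorem card_mul_inner_ab [Fintype G] [Fintype P] [∀ x : G, Fintype (C1 x)] (hM : IsPModular p M) (hB : IsPBlock M B)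
    (hm : MaxP p (eB M B) P e) (hab : P ≤ CS P) (hη : TI (Stab (NS P) e) η) (hθ : IsClassFunction G θ)
    (hθ' : IsClassFunction G θ') : Nat.card (Stab (NS P) e) * classInner (star p e θ η) θ' =
      ∑ t, η t * (Nat.card (Stab (NS P) e ⊓ C1 (t : G) : Subgroup G) *
        classInner (sb p (cEl (t : G)) (lb p P e t) θ) (sb p (cEl (t : G)) (lb p P e t) θ')) := by
  conv_lhs => rw [hη.eq_sum (Stab_le _ _)]
  rw [star_sum, H3.inner_sum_left, Finset.mul_sum]
  refine Finset.sum_congr rfl fun t _ => ?_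
  obtain ⟨h1, h2⟩ := hm.lb hM hB t
  rw [H3.inner_smul_left, ((ti_oc _ t).st hM hm hab).inner_supp hM (sec_cEl (isPElt_of_mem hp.out hm.dg.isP t.2)) h1.1 h2
    rfl (fun t' h => ?_) hθ hθ', oc_self, mul_assoc, mul_inv_cancel_left₀ (H3.card_ne_zero' _)]
  obtain ⟨x, h3, h4⟩ := Finset.exists_ne_zero_of_sum_ne_zero h
  have h5 : (t' : G) = x * t * x⁻¹ := by_contra fun h => h4 (if_neg h)
  exact ⟨x, h5, by rw [h5, zpowers_conj]; exact h2.cj_of_stab (mem_fs.1 h3)⟩

theorem sum_inner_star_ab [Fintype G] [Fintype P] (hM : IsPModular p M) (hB : IsPBlock M B)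
    (hm : MaxP p (eB M B) P e) (hab : P ≤ CS P) (hη : TI (Stab (NS P) e) η) :
    Nat.card (Stab (NS P) e) * ∑ χ ∈ fs B, classInner (star p e χ.1 η) χ.1 =
      ∑ t, η t * (Nat.card (Stab (NS P) e ⊓ C1 (t : G) : Subgroup G) * blockRank p (lb p P e t)) := by
  have := fun x : G => Fintype.ofFinite (C1 x)
  rw [Finset.mul_sum, Finset.sum_congr rfl fun χ _ => card_mul_inner_ab hM hB hm hab hη (H3.irr_class χ.2)
    (H3.irr_class χ.2), Finset.sum_comm]
  exact Finset.sum_congr rfl fun t _ => by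
    rw [← Finset.mul_sum, ← Finset.mul_sum, (sec_cEl (isPElt_of_mem hp.out hm.dg.isP t.2)).sum_inner_sb hM (hm.lb hM hB t).1]

theorem star_regChar (hM : IsPModular p M) (hB : IsPBlock M B) (hm : MaxP p (eB M B) P e) (hχ : χ ∈ B) :
    star p e χ.1 (H3.regChar P) = (Nat.card P : ℂ) • reg p χ.1 := by
  funext g
  by_cases hg : p ∣ orderOf g
  · rw [Pi.smul_apply, reg_of_dvd _ hg, smul_zero, star_apply_of hM hB hm hχ (c := 0) fun t ht =>
      H3.regChar_ne fun h => (pp_eq_one_iff hp.out).1 (by simpa [h] using ht) hg, zero_mul]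
  · rw [star_of_reg hM hB hm hχ _ hg, H3.regChar_one, Pi.smul_apply, reg_of_not_dvd _ hg, smul_eq_mul]

theorem rank_lb_one (hM : IsPModular p M) (hB : IsPBlock M B) (hm : MaxP p (eB M B) P e) :
    blockRank p (lb p P e 1) = blockRank p B := by
  classical
  have h1 := hm.lb hM hB 1
  have h2 := sec_cEl (isPElt_one (p := p) (G := G))
  rw [← sum_rank_one hM hB, Finset.sum_eq_single_of_mem (lb p P e 1) (by simpa using ⟨h1.1.1, h1.1⟩) fun b hb h => (h ?_).elim]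
  obtain ⟨h3, h4⟩ := Finset.mem_filter.1 hb
  obtain ⟨t, y, h5, h6⟩ := (h2.brel_iff hM h4.1 hB hm).2 h4
  rw [show t = 1 from Subtype.ext (by simpa using h5), mem_Fix.1 (mem_ZA.1 (aE_mem_ZA _ b)).1 y
    (mem_centralizer_singleton.2 (Commute.one_left y))] at h6
  exact aE_inj hM h4.1 h1.1.1 (h6.unique hM h1.2)

theorem card_mul_card_ab [Fintype P] (hM : IsPModular p M) (hB : IsPBlock M B) (hm : MaxP p (eB M B) P e)
    (hab : P ≤ CS P) : Nat.card (Stab (NS P) e) * Nat.card B =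
      ∑ t : P, Nat.card (Stab (NS P) e ⊓ C1 (t : G) : Subgroup G) * blockRank p (lb p P e t) := by
  have := Fintype.ofFinite G
  have h := sum_inner_star_ab hM hB hm hab (η := 1) fun _ _ _ _ _ => rfl
  rw [Finset.sum_congr rfl fun χ hχ => by rw [star_const hM hB hm (mem_fs.1 hχ), H3.irr_inner_self χ.2]] at h
  apply Nat.cast_injective (R := ℂ)
  simpa [card_fs] using h

theorem MaxP.dg_lb (hM : IsPModular p M) (hB : IsPBlock M B) (hm : MaxP p (eB M B) P e) (hab : P ≤ CS P) (t : P) :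
    IsDefectGroup p M (H4.lb p P e t) (P.subgroupOf (C1 (t : G))) ∧ blockDefect p (H4.lb p P e t) = blockDefect p B := by
  obtain ⟨h1, h2⟩ := hm.lb hM hB t
  have h3 := hm.ADG_ab hM hab h2
  rw [CS_zpowers] at h3
  exact ⟨(dg_iff_ADG hM h1.1 h3.le).2 h3, hm.defect_eq hM h1 h2 (CS_zpowers _) h3.le⟩

/-- free action of the inertial quotient -/
def Free (P T : Subgroup G) : Prop := ∀ g ∈ T, ∀ x ∈ P, x ≠ 1 → g * x * g⁻¹ = x → g ∈ CS P

theorem aNil_of_ab (hM : IsPModular p M) (h : MaxP p j P e) (hab : P ≤ CS P) (h1 : Stab (NS P) e ≤ CS P) :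
    ANil p ⊤ j := aNil_top_iff.2 fun Q hQ f hf h2 x hx _ => by
  obtain ⟨y, h3⟩ := h.exists_conj hM hQ hf h2
  obtain ⟨c, h4, h5⟩ := h.abelian hM hab h3 (x := y * x * y⁻¹) (Stab_NS_conj y Q f ▸ conj_mem_conj_smul hx)
  have h6 := (CS _).mul_mem_cancel_left h4 |>.1 (CS_anti h3.le (h1 h5))
  rw [CS_conj, mem_conj_smul] at h6
  simpa [mul_assoc] using h6

theorem Free.nil (hM : IsPModular p M) (hB : IsPBlock M B) (hm : MaxP p (eB M B) P e) (hab : P ≤ CS P)
    (h : Free P (Stab (NS P) e)) (hQ : Q ≠ ⊥) (hb : IsPBlock M b) (h0 : CS Q = H) (h1 : SLE p Q (aE M H b) P e) :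
    ANil p ⊤ (eB M b) := by
  subst h0
  obtain ⟨c, hc, rfl⟩ := hm.be.exists_block hM
  have h2 := (hm.ADG_ab hM hab h1).le
  exact ((isNilpotentBlock_iff_top hM).1 ((Cfsg.Agent.S4650.result p M hM B hB P ((dg_iff_ADG_top hM hB).2 hm.dg)
    (fun x hx y hy => hab hy x hx) (fun e => hQ (le_bot_iff.1 (e ▸ h1.le))) c ((ind_CS_iff hM hm.dg.isP hc hB).2 hm.mul) _
    fun _ => mem_Stab_iff hM hc).1 h Q h1.le hQ b ((indIn_iff_mul hM hb hc hm.dg.isP hab (CS_anti h1.le) (CS_le_NS P)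
      inf_le_left).2 (h1.nsub hM (h2.trans (CS_le_NS _))).mul))).2

theorem Free.nil_lb (hM : IsPModular p M) (hB : IsPBlock M B) (hm : MaxP p (eB M B) P e) (hab : P ≤ CS P)
    (h : Free P (Stab (NS P) e)) {t : P} (ht : t ≠ 1) : ANil p ⊤ (eB M (lb p P e t)) :=
  h.nil hM hB hm hab (by simpa using ht) (hm.lb hM hB t).1.1 (CS_zpowers _) (hm.lb hM hB t).2

theorem Free.inf_eq {T : Subgroup G} (h : Free P T) (h1 : CS P ≤ T) {t : P} (ht : t ≠ 1) : T ⊓ C1 (t : G) = CS P :=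
  le_antisymm (fun g hg => h g hg.1 t t.2 (by simpa using ht)
    (mul_inv_eq_iff_eq_mul.2 (mem_centralizer_singleton.1 hg.2).symm))
    (le_inf h1 fun g hg => mem_centralizer_singleton.2 (hg t t.2))

theorem Free.count (hM : IsPModular p M) (hB : IsPBlock M B) (hm : MaxP p (eB M B) P e) (hab : P ≤ CS P)
    (h : Free P (Stab (NS P) e)) : (CS P).relIndex (Stab (NS P) e) * Nat.card B + 1 =
      (CS P).relIndex (Stab (NS P) e) * blockRank p B + Nat.card P := by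
  classical
  have := Fintype.ofFinite P
  have h1 := card_mul_card_ab hM hB hm hab
  have h2 := CS_le_Stab hm.be
  rw [← Finset.add_sum_erase _ _ (Finset.mem_univ 1), Finset.sum_congr rfl fun t ht => by
    rw [h.inf_eq h2 (Finset.ne_of_mem_erase ht), (h.nil_lb hM hB hm hab (Finset.ne_of_mem_erase ht)).rank hM
      (hm.lb hM hB t).1.1, mul_one], Finset.sum_const, Finset.card_erase_of_mem (Finset.mem_univ _), Finset.card_univ,
    ← Nat.card_eq_fintype_card, OneMemClass.coe_one, rank_lb_one hM hB hm, inf_eq_left.2 fun g _ =>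
      mem_centralizer_singleton.2 (Commute.one_left g), ← card_mul_relIndex h2, mul_comm (Nat.card (CS P))] at h1
  have h3 := Nat.card_pos (α := P)
  rw [smul_eq_mul, mul_right_comm, mul_right_comm _ _ (blockRank p B), ← add_mul] at h1
  have h4 := Nat.eq_of_mul_eq_mul_right Nat.card_pos h1
  omega

theorem ANil.ab [Fintype G] (hM : IsPModular p M) (hB : IsPBlock M B) (hN : ANil p ⊤ (eB M B))
    (hP : IsDefectGroup p M B P) (hab : P ≤ CS P) (hχ : χ ∈ B) : Nat.card B = Nat.card P ∧ blockHeight p B χ.1 = 0 ∧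
      (∀ ψ ∈ B, reg p ψ.1 = reg p χ.1) ∧ Nat.card P * classInner (reg p χ.1) (reg p χ.1) = 1 := by
  obtain ⟨ξ, h1, h2⟩ := exists_height_zero hM hB
  obtain ⟨Φ, h⟩ := hN.chars hM hB hP h1 h2
  have h3 : ∀ η : IrrCharacter P, charDegree η.1 = 1 := fun η => charDegree_of_eq
    ((H3.irr_degree_one_of_comm η.2 fun a b => Subtype.ext (hab b.2 a a.2)).trans Nat.cast_one.symm)
  have h4 : ∀ ψ ∈ B, reg p ψ.1 = reg p ξ.1 := fun ψ hψ => by simpa [h3] using (h (Φ.symm ⟨ψ, hψ⟩)).1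
  have h5 : Nat.card B = Nat.card P := by
    have := H3.sum_sq_degree (G := P)
    simp only [irr_one_eq, h3] at this
    rw [← Nat.card_congr Φ]
    apply Nat.cast_injective (R := ℂ)
    simpa using this
  refine ⟨h5, by simpa [h3] using (h (Φ.symm ⟨χ, hχ⟩)).2.2, fun ψ hψ => (h4 ψ hψ).trans (h4 χ hχ).symm, ?_⟩
  have h6 := (RC.of_block hM hB).rank_eq
  rw [hN.rank hM hB, Finset.sum_congr rfl fun ψ hψ => by
    rw [← reg_reg, inner_reg_left, h4 ψ (mem_fs.1 hψ), ← h4 χ hχ], Finset.sum_const, card_fs, h5] at h6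
  simpa using h6.symm

end H4
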