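import Cfsg.Agent.H4.Pairs
import Cfsg.Agent.H2.Fus6
import Cfsg.Prelude.Def_BlockFusion

/-!
# The fusion system of a block
`IsBF p P e F`: the maps of `F` are the conjugations carrying subpairs of `(P, e)` to subpairs; existence
(`exists_isBF`), translation (`isBF_iff`), fully centralized / normalized / centric subgroups, saturation.
-/

set_option autoImplicit false
set_option linter.unusedSectionVars false

namespace H4
open MonoidAlgebra Cfsg H1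
open H2 (Mor img cg AutS cP)
open scoped Pointwise

variable {G : Type*} [Group G] [Finite G] {M : Ideal AlgInt} {p : ℕ} [hp : Fact p.Prime]
variable {Q P S : Subgroup G} {f e g z : (k M)[G]}

variable (p) in
/-- `F` is the fusion system of the pair `(P, e)` -/
def IsBF (P : Subgroup G) (e : (k M)[G]) (F : FusionSystem P) : Prop :=
  ∀ (Q : Subgroup G) (φ : G → G), Mor F Q φ ↔ ∃ x f, SLE p Q f P e ∧
    SLE p (MulAut.conj x • Q) (cj x f) P e ∧ ∀ u ∈ Q, φ u = x * u * x⁻¹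

theorem img_eq_conj {φ : G → G} {x : G} (h : ∀ u ∈ Q, φ u = x * u * x⁻¹) :
    img φ Q = MulAut.conj x • Q := (H2.img_congr (g := cg x) h).trans (H2.img_cg x Q)

theorem exists_isBF (hM : IsPModular p M) (hP : IsPGroup p P) (he : IsBI (CS P) e) :
    ∃ F : FusionSystem P, IsBF p P e F := by
  refine ⟨H2.mkFS P (fun Q σ => ∃ x f, SLE p Q f P e ∧
    SLE p (MulAut.conj x • Q) (cj x f) P e ∧ ∀ u ∈ Q, σ u = x * u * x⁻¹) ?_ ?_ ?_ ?_, fun Q φ => ?_⟩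
  · rintro Q σ ⟨x, f, h1, h2, h3⟩
    exact ⟨h1.le, (H2.homOn_cg Q x).congr fun u hu => (h3 u hu).symm,
      fun u hu => h3 u hu ▸ h2.le (conj_mem_conj_smul hu)⟩
  · intro Q x h1 h2
    obtain ⟨f, hf⟩ := exists_sle hM hP he h1
    exact ⟨x, f, hf, hf.cj_of_mem h2, fun _ _ => rfl⟩
  · rintro Q S σ τ ⟨x, f, h1, h2, h3⟩ ⟨y, g, h4, h5, h6⟩ h7
    have h8 : MulAut.conj x • Q ≤ S := conj_smul_le_iff.2 fun u hu => h3 u hu ▸ h7 u hu
    refine ⟨y * x, f, h1, ?_, fun u hu => ?_⟩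
    · rw [← conj_smul_conj_smul, cj_mul]
      exact ((h2.sub hM h4 h8).cj y).trans h5
    · rw [Equiv.Perm.mul_apply, h6 _ (h7 u hu), h3 u hu]; group
  · rintro Q σ ⟨x, f, h1, h2, h3⟩
    rw [img_eq_conj h3]
    refine ⟨x⁻¹, _, h2, by rwa [conj_inv_smul_smul, cj_inv_cj], fun u hu => ?_⟩
    rw [Equiv.Perm.inv_eq_iff_eq, inv_inv, h3 _ (mem_conj_smul.1 hu)]; group
  · rw [H2.mor_mkFS]
    constructor
    · rintro ⟨σ, ⟨x, f, h1, h2, h3⟩, h4⟩
      exact ⟨x, f, h1, h2, fun u hu => (h4 u hu).symm.trans (h3 u hu)⟩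
    · rintro ⟨x, f, h1, h2, h3⟩
      exact ⟨cg x, ⟨x, f, h1, h2, fun _ _ => rfl⟩, fun u hu => (h3 u hu).symm⟩

theorem isBF_iff (hM : IsPModular p M) {B : Set (IrrCharacter G)} {c : Set (IrrCharacter (CS P))}
    {F : FusionSystem P} : IsBlockFusionSystemOn p M B P c F ↔
      IsMaximalBrauerPair p M B P c ∧ IsBF p P (aE M (CS P) c) F := by
  refine and_congr_right fun h => ?_
  obtain ⟨-, hc, hm⟩ := (isMaximal_iff hM).1 h
  have key : ∀ (Q : Subgroup G) (φ : Q →* G) (ψ : G → G), (∀ u : Q, φ u = ψ u) →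
      ((Q ≤ P ∧ ∃ g : G, (∀ u : Q, φ u = g * (u : G) * g⁻¹) ∧ Q.map (MulAut.conj g).toMonoidHom ≤ P ∧
        ∃ f : Set (IrrCharacter (CS Q)), SubpairLE p M Q f P c ∧
          SubpairLE p M (Q.map (MulAut.conj g).toMonoidHom) (conjBlock Q g f) P c) ↔
      ∃ x f, SLE p Q f P (aE M (CS P) c) ∧ SLE p (MulAut.conj x • Q) (cj x f) P (aE M (CS P) c) ∧
        ∀ u ∈ Q, ψ u = x * u * x⁻¹) := fun Q φ ψ e => by
    constructor
    · rintro ⟨-, x, h1, -, b, h2, h3⟩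
      obtain ⟨hb, h4⟩ := (subpairLE_iff hM hm.dg.isP hc).1 h2
      exact ⟨x, _, h4, (subpairLE_conj_iff hM hm.dg.isP hb hc x).1 h3,
        fun u hu => (e ⟨u, hu⟩).symm.trans (h1 ⟨u, hu⟩)⟩
    · rintro ⟨x, f, h1, h2, h3⟩
      obtain ⟨b, hb, rfl⟩ := h1.bf.exists_block hM
      exact ⟨h1.le, x, fun u => (e u).trans (h3 u u.2), h2.le, b,
        (subpairLE_iff hM hm.dg.isP hc).2 ⟨hb, h1⟩, (subpairLE_conj_iff hM hm.dg.isP hb hc x).2 h2⟩
  constructor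
  · intro H Q ψ
    constructor
    · rintro ⟨φ, h1, h2⟩
      exact (key Q φ ψ h2).1 ((H Q φ).1 h1)
    · rintro ⟨x, f, h1, h2, h3⟩
      have h4 : H2.HomOn Q ψ := (H2.homOn_cg Q x).congr fun u hu => (h3 u hu).symm
      exact ⟨h4.toHom, (H Q _).2 ((key Q _ ψ fun _ => rfl).2 ⟨x, f, h1, h2, h3⟩), fun _ => rfl⟩
  · intro H Q φ
    rw [key Q φ (H2.fn φ) (H2.fn_coe φ), ← H, H2.mor_fn]

variable {F : FusionSystem P}

theorem IsBF.mor_iff (hM : IsPModular p M) (hF : IsBF p P e F) (h : SLE p Q f P e) {φ : G → G} :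
    Mor F Q φ ↔ ∃ x, SLE p (MulAut.conj x • Q) (cj x f) P e ∧ ∀ u ∈ Q, φ u = x * u * x⁻¹ := by
  rw [hF]
  constructor
  · rintro ⟨x, g, h1, h2⟩
    exact ⟨x, h1.unique hM h ▸ h2⟩
  · rintro ⟨x, h2⟩
    exact ⟨x, f, h, h2⟩

theorem IsBF.mor_cg (hF : IsBF p P e F) (h : SLE p Q f P e) {x : G}
    (h' : SLE p (MulAut.conj x • Q) (cj x f) P e) : Mor F Q (cg x) :=
  (hF _ _).2 ⟨x, f, h, h', fun _ _ => rfl⟩

theorem ADG.of_cj {H D : Subgroup G} {x : G} (h : ADG p (MulAut.conj x • H) (H4.cj x f) D) :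
    ADG p H f (MulAut.conj x⁻¹ • D) := by
  have := h.cj x⁻¹
  rwa [conj_inv_smul_smul, cj_inv_cj] at this

theorem IsBF.fc_iff (hM : IsPModular p M) (hm : MaxP p z P e) (hF : IsBF p P e F) (h : SLE p Q f P e) :
    F.IsFullyCentralized Q ↔ ADG p (CS Q) f (P ⊓ CS Q) := by
  rw [H2.fc_iff, and_iff_right h.le]
  constructor
  · intro H
    obtain ⟨y, h1, h2⟩ := hm.exists_good_C hM h.isP h.bf (hm.mul_of_sle hM h)
    have h3 := H _ (hF.mor_cg h h1)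
    rw [H2.img_cg] at h3
    rw [CS_conj] at h2
    refine h2.of_cj.of_card_le inf_le_right (hm.dg.isP.to_le inf_le_left) (h.Br_CS_ne_zero hM) ?_
    rw [card_conj_smul, ← CS_conj]; exact h3
  · intro H σ hσ
    obtain ⟨x, h1, h2⟩ := (hF.mor_iff hM h).1 hσ
    rw [img_eq_conj h2, ← card_conj_smul x (P ⊓ CS Q)]
    exact (H.cj x).max _ (inf_le_right.trans (CS_conj x Q).le) (hm.dg.isP.to_le inf_le_left)
      (h1.Br_CS_ne_zero hM)

theorem IsBF.fn_iff (hM : IsPModular p M) (hm : MaxP p z P e) (hF : IsBF p P e F) (h : SLE p Q f P e) :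
    F.IsFullyNormalized Q ↔ ADG p (Stab (NS Q) f) f (P ⊓ NS Q) := by
  rw [H2.fn_iff, and_iff_right h.le]
  constructor
  · intro H
    obtain ⟨y, h1, h2⟩ := hm.exists_good_N hM h.isP h.bf (hm.mul_of_sle hM h)
    have h3 := H _ (hF.mor_cg h h1)
    rw [H2.img_cg] at h3
    rw [Stab_NS_conj] at h2
    refine h2.of_cj.of_card_le (h.inf_le_Stab hM) (hm.dg.isP.to_le inf_le_left) (h.Br_ne_zero hM) ?_
    rw [card_conj_smul]; exact h3
  · intro H σ hσ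
    obtain ⟨x, h1, h2⟩ := (hF.mor_iff hM h).1 hσ
    rw [img_eq_conj h2, ← card_conj_smul x (P ⊓ NS Q)]
    exact (H.cj x).max _ ((h1.inf_le_Stab hM).trans (Stab_NS_conj x Q f).le)
      (hm.dg.isP.to_le inf_le_left) (h1.Br_ne_zero hM)

theorem IsBF.centric_iff (hM : IsPModular p M) (hm : MaxP p z P e) (hF : IsBF p P e F)
    (h : SLE p Q f P e) : F.IsCentric Q ↔ ADG p (CS Q) f (Q ⊓ CS Q) := by
  constructor
  · intro H
    have h1 := (hF.fc_iff hM hm h).1 (H2.centric_fc H)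
    rwa [show P ⊓ CS Q = Q ⊓ CS Q from le_antisymm (le_inf (H2.centric_self H) inf_le_right)
      (inf_le_inf_right _ h.le)] at h1
  · intro H
    have h1 := H.eq_of_le inf_le_right (hm.dg.isP.to_le inf_le_left) (h.Br_CS_ne_zero hM)
      (inf_le_inf_right _ h.le)
    exact H2.centric_of_fc ((hF.fc_iff hM hm h).2 (h1 ▸ H)) (h1 ▸ inf_le_left)

theorem IsBF.Aut_eq (hM : IsPModular p M) (hF : IsBF p P e F) (h : SLE p Q f P e) :
    H2.Aut F Q = AutS (Stab (NS Q) f) Q := by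
  ext σ
  rw [H2.mem_Aut h.le]
  constructor
  · rintro ⟨h1, h2⟩
    obtain ⟨x, h3, h4⟩ := (hF.mor_iff hM h).1 h1
    have h5 := H2.mem_normalizer_of_eq (H2.Sym_le_Stab Q h2) h4
    rw [conj_smul_eq_self_iff.2 h5] at h3
    exact (H2.mem_AutS' h2).2 ⟨x, ⟨h5, h3.unique hM h⟩, h4⟩
  · intro h1
    have h2 := H2.AutS_le_Sym _ _ h1
    obtain ⟨x, h3, h4⟩ := (H2.mem_AutS' h2).1 h1
    exact ⟨(hF.mor_iff hM h).2 ⟨x, by rwa [conj_smul_eq_self_iff.2 h3.1, h3.2], h4⟩, h2⟩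

theorem AutS_sup_CS {D : Subgroup G} (h : D ≤ NS Q) : AutS (D ⊔ CS Q) Q = AutS D Q := by
  rw [H2.AutS_sup_of_le h (CS_le_NS Q), H2.AutS_eq_bot_iff.2 inf_le_left, sup_bot_eq]

theorem sylow_AutS {D T : Subgroup G} (hD : IsPGroup p D) (h1 : D ⊔ CS Q ≤ T) (h2 : T ≤ NS Q)
    (h3 : ¬ p ∣ (D ⊔ CS Q).relIndex T) : H2.IsSylowIn p (AutS D Q) (AutS T Q) := by
  obtain ⟨U, h4, h5⟩ := exists_isSylowIn_ge hD (le_sup_left : D ≤ D ⊔ CS Q)
  have h6 := h4.trans h1 h3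
  have h7 := H2.IsSylowIn.AutS (P := Q) ⟨h6.le, h6.isPGroup, h6.not_dvd⟩ h2
  rwa [show AutS U Q = AutS D Q from le_antisymm ((H2.AutS_mono h4.le Q).trans
    (AutS_sup_CS ((le_sup_left.trans h1).trans h2)).le) (H2.AutS_mono h5 Q)] at h7

theorem IsBF.sat (hM : IsPModular p M) (hm : MaxP p z P e) (hF : IsBF p P e F) : H2.Sat p F := by
  refine H2.sat_of_axioms hm.dg.isP fun Q hQ => ?_
  obtain ⟨f, h⟩ := exists_sle hM hm.dg.isP hm.be hQ.1
  have hD := (hF.fn_iff hM hm h).1 hQ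
  have hH : (P ⊓ NS Q) ⊔ CS Q ≤ Stab (NS Q) f := sup_le hD.le (CS_le_Stab h.bf)
  refine ⟨H2.fa_iff.2 ⟨hQ.1, ?_⟩, H2.receptive_of hQ.1 fun R σ hσ e1 => ?_⟩
  · rw [hF.Aut_eq hM h, ← H2.AutS_inf_normalizer P]
    exact sylow_AutS hD.isP hH (Stab_le _ _) (hD.not_dvd_CS hM h.bf).2
  · obtain ⟨x, f', h1, h2, h3⟩ := (hF _ _).1 hσ
    have e2 : MulAut.conj x • R = Q := (img_eq_conj h3).symm.trans e1
    rw [e2] at h2
    have e3 := h2.unique hM h
    have hN := H2.Nphi_le P R σ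
    obtain ⟨g, h4, h5⟩ := h1.exists_nsub hM hσ.le_Nphi (hN.trans inf_le_left) (hN.trans inf_le_right)
    have h6 := h4.cj x
    rw [e2, e3] at h6
    obtain ⟨y, hy, h7⟩ := h.exists_to_good hM le_sup_left le_sup_right hH (hD.mono le_sup_left hH) h6
      (conj_smul_le_iff.2 fun a ha => by
        obtain ⟨-, h8, u, hu, h9⟩ := H2.mem_Nphi.1 ha
        have h10 : u⁻¹ * (x * a * x⁻¹) ∈ CS Q := by
          rw [← e2, Subgroup.mem_centralizer_iff]
          intro w hw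
          have h11 := h9 _ (mem_conj_smul.1 hw)
          rw [h3 _ (conj_mem_of_mem_normalizer h8 (mem_conj_smul.1 hw)), h3 _ (mem_conj_smul.1 hw)] at h11
          calc w * (u⁻¹ * (x * a * x⁻¹)) = u⁻¹ * (u * (x * (x⁻¹ * w * x) * x⁻¹) * u⁻¹) * (x * a * x⁻¹) := by
                group
            _ = _ := by rw [← h11]; group
        have h11 : x * a * x⁻¹ ∈ NS Q := by rw [← e2, NS_conj]; exact conj_mem_conj_smul h8
        have h12 : u ∈ NS Q := by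
          have := (NS Q).mul_mem h11 ((NS Q).inv_mem (CS_le_NS Q h10))
          simpa [mul_assoc] using this
        have := Subgroup.mul_mem_sup (show u ∈ P ⊓ NS Q from ⟨hu, h12⟩) h10
        rwa [mul_inv_cancel_left] at this)
    obtain ⟨u, hu, c, hc, rfl⟩ := (mem_sup_of_le_normalizer_right (inf_le_right.trans (NS_le_NS_CS Q))).1 hy
    have h8 := h7.cj_of_mem (P.inv_mem hu.1)
    rw [conj_smul_conj_smul, conj_smul_conj_smul, ← cj_mul, ← cj_mul, inv_mul_cancel_left] at h8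
    refine ⟨cg (c * x), hF.mor_cg h5 h8, fun w hw => ?_⟩
    rw [h3 w hw, H2.cg_apply]
    have := hc _ (e2 ▸ conj_mem_conj_smul (g := x) hw : x * w * x⁻¹ ∈ Q)
    calc c * x * w * (c * x)⁻¹ = c * (x * w * x⁻¹) * c⁻¹ := by group
      _ = _ := by rw [← this]; group

theorem mem_CS_of_conj_eq {x u : G} (hu : IsPElt p u) (hx : ¬ p ∣ orderOf x) (hn : x ∈ NS Q)
    (h : ∀ w ∈ Q, x * w * x⁻¹ = u * w * u⁻¹) : x ∈ CS Q := by
  obtain ⟨n, hn'⟩ := (isPElt_iff hp.out).1 hu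
  have h1 : ∀ m : ℕ, ∀ w ∈ Q, x ^ m * w * (x ^ m)⁻¹ = u ^ m * w * (u ^ m)⁻¹ := fun m => by
    induction m with
    | zero => simp
    | succ m ih =>
      intro w hw
      calc x ^ (m + 1) * w * (x ^ (m + 1))⁻¹ = x * (x ^ m * w * (x ^ m)⁻¹) * x⁻¹ := by group
        _ = u * (x ^ m * w * (x ^ m)⁻¹) * u⁻¹ :=
          h _ (conj_mem_of_mem_normalizer ((NS Q).pow_mem hn m) hw)
        _ = _ := by rw [ih w hw]; group
  have h2 : x ^ p ^ n ∈ CS Q := fun w hw => by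
    have := h1 (p ^ n) w hw
    rw [hn', mul_inv_eq_iff_eq_mul] at this
    simpa using this.symm
  exact Subgroup.zpowers_le.2 h2 (mem_zpowers_pow_iff.2
    (Nat.Coprime.pow_left n ((Nat.Prime.coprime_iff_not_dvd hp.out).2 hx)))

theorem IsBF.aNil_iff (hM : IsPModular p M) (hm : MaxP p z P e) (hF : IsBF p P e F) :
    ANil p ⊤ z ↔ ∀ Q (σ : Equiv.Perm G), Mor F Q σ → Mor (innerFusionSystem P) Q σ := by
  constructor
  · intro H
    refine (hF.sat hM hm).alperin_fn _ (fun _ _ _ _ h1 _ h2 h3 => (h2.mono h1).congr h3)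
      (fun _ _ _ _ _ h1 h2 => h1.mul' h2 le_rfl) fun Q hQ _ σ hσ => ?_
    obtain ⟨f, h⟩ := exists_sle hM hm.dg.isP hm.be hQ.1
    have hD := (hF.fn_iff hM hm h).1 hQ
    have h1 := H2.AutS_mono (H.stab_le hM h.isP h.bf (hm.mul_of_sle hM h) hD) Q
    rw [AutS_sup_CS inf_le_right, H2.AutS_inf_normalizer, ← hF.Aut_eq hM h, ← H2.Aut_inner hQ.1] at h1
    exact H2.Aut.mor hQ.1 (h1 hσ)
  · intro H
    refine aNil_top_iff.2 fun Q hQ f hf h1 x hx h2 => ?_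
    obtain ⟨y, h⟩ := hm.exists_conj hM hQ hf h1
    have h3 : y * x * y⁻¹ ∈ Stab (NS (MulAut.conj y • Q)) (cj y f) := by
      rw [Stab_NS_conj]; exact conj_mem_conj_smul hx
    obtain ⟨-, u, hu, h4⟩ := H2.mor_inner_iff.1 (H _ _ (hF.mor_cg h (x := y * x * y⁻¹)
      (by rwa [conj_smul_eq_self_iff.2 h3.1, h3.2])))
    have := mem_CS_of_conj_eq (isPElt_of_mem hp.out hm.dg.isP hu) (by rwa [orderOf_conj]) h3.1 h4
    rw [CS_conj, mem_conj_smul] at this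
    simpa [mul_assoc] using this

theorem ANil.ADG_CS (hM : IsPModular p M) (H : ANil p ⊤ z) (hm : MaxP p z P e) (h : SLE p Q f P e) :
    ADG p (CS Q) f (P ⊓ CS Q) := by
  obtain ⟨F, hF⟩ := exists_isBF hM hm.dg.isP hm.be
  refine (hF.fc_iff hM hm h).1 (H2.fc_iff.2 ⟨h.le, fun σ hσ => ?_⟩)
  obtain ⟨-, u, hu, h1⟩ := H2.mor_inner_iff.1 ((hF.aNil_iff hM hm).1 H _ _ hσ)
  rw [img_eq_conj h1, ← card_conj_smul u (P ⊓ CS Q), conj_smul_inf,
    conj_smul_eq_self_iff.2 (P.le_normalizer hu), ← CS_conj]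

end H4
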