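import Cfsg.Agent.H4.Star3

/-!
# Blocks with a defect group `P` such that `G = P C_G(P)`; canonical characters
`rel_defect`, `dg_of_rel_defect`, `star_of_sup`, `exists_canon`, `canon_chars`.
-/

set_option autoImplicit false
set_option linter.unusedSectionVars false

namespace H4
open MonoidAlgebra Cfsg H1
open scoped Pointwise ComplexConjugate

variable {G : Type*} [Group G] [Finite G] {M : Ideal AlgInt} {p : ℕ} [hp : Fact p.Prime]
variable {H Q P D : Subgroup G} {j e f : (k M)[G]} {θ θ' : G → ℂ} {g u : G}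
  {B : Set (IrrCharacter G)} {χ ψ : IrrCharacter G} {η η' : P → ℂ}

theorem rel_defect (hM : IsPModular p M) (hB : IsPBlock M B) (hχ : χ ∈ B) (hD : IsPGroup p D)
    (h1 : ∀ y, ¬ p ∣ orderOf y → y ∈ CS D) (h2 : D ≤ H3.charCenter χ.1)
    (h3 : (Nat.card G).factorization p ≤ nu p χ.1 + (Nat.card D).factorization p) :
    (∀ g, pp p g ∉ D → χ.1 g = 0) ∧ p ^ blockDefect p B = Nat.card D := by
  classical
  have := Fintype.ofFinite G
  have h0 : χ.1 1 ≠ 0 := by rw [irr_one_eq]; exact_mod_cast charDegree_ne_zero χ.2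
  obtain ⟨l, hl⟩ := H3.exists_hom_charCenter h0
  obtain ⟨n, hn⟩ := hD.exists_card_eq
  obtain ⟨R, hR⟩ : ∃ R, R = ∑ y with ¬ p ∣ orderOf y, ‖χ.1 y‖ ^ 2 := ⟨_, rfl⟩
  have s1 : ∑ g with pp p g ∈ D, ‖χ.1 g‖ ^ 2 = p ^ n * R := by
    rw [Finset.sum_nbij' (t := fs (D : Set G) ×ˢ Finset.univ.filter fun y => ¬ p ∣ orderOf y) (g := fun x => ‖χ.1 x.2‖ ^ 2)
      (fun g => (pp p g, pq p g)) (fun x => x.1 * x.2) (by simp +contextual [not_dvd_orderOf_pq hp.out])
      (fun x hx => ?_) (fun g _ => pp_mul_pq g) (fun x hx => ?_) fun g hg => ?_, Finset.sum_product]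
    · simp only [← hR]
      rw [Finset.sum_const, nsmul_eq_mul, card_fs, ← Nat.cast_pow, ← hn]; rfl
    rotate_right
    · conv_lhs => rw [← pq_mul_pp (p := p) g]
      rw [hl ⟨_, h2 (Finset.mem_filter.1 hg).2⟩, norm_mul, H3.norm_hom, one_mul]
    all_goals
      simp only [Finset.mem_product, mem_fs, Finset.mem_filter, Finset.mem_univ, true_and, SetLike.mem_coe] at hx ⊢
      have h4 : Commute x.1 x.2 := h1 _ hx.2 _ hx.1
      have h5 := isPElt_of_mem hp.out hD hx.1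
      simp [pp_mul_of_commute hp.out h4 h5 hx.2, pq_mul_of_commute hp.out h4 h5 hx.2, hx.1]
  have s2 := Finset.sum_filter_add_sum_filter_not Finset.univ (fun g => pp p g ∈ D) fun g => ‖χ.1 g‖ ^ 2
  rw [s1, H3.sum_norm_sq_irr χ.2] at s2
  obtain ⟨T, hT⟩ : ∃ T, T = ∑ g with pp p g ∉ D, ‖χ.1 g‖ ^ 2 := ⟨_, rfl⟩
  have s3 : 0 ≤ T := hT ▸ by positivity
  have s4 : 0 < R := hR ▸ Finset.sum_pos' (fun _ _ => by positivity) ⟨1, by simpa using hp.out.ne_one, by positivity⟩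
  obtain ⟨a, ha⟩ := exists_amat hM hB
  obtain ⟨m, hm⟩ := ha.dvd χ χ hχ
  have s5 : (p : ℝ) ^ blockDefect p B * R = p ^ blockHeight p B χ.1 * m * Nat.card G := by
    have := ha.eq χ χ hχ
    rw [hm, classInner, mul_left_comm, inv_mul_eq_iff_eq_mul₀ (H3.card_ne_zero' _), mul_comm (Nat.card G : ℂ)] at this
    apply Complex.ofReal_injective
    push_cast at this ⊢
    rw [← this, hR, Finset.sum_filter]
    push_cast
    exact congrArg _ (Finset.sum_congr rfl fun g _ => by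
      by_cases h : p ∣ orderOf g <;> simp [h, reg, Complex.mul_conj, Complex.normSq_eq_norm_sq])
  have s6 := nu_add_blockDefect (p := p) hχ
  rw [hn, hp.out.factorization_pow, Finsupp.single_eq_same] at h3
  have p1 : (1 : ℝ) < p := by exact_mod_cast hp.out.one_lt
  have s7 : (p : ℝ) ^ blockDefect p B ≤ p ^ blockHeight p B χ.1 * p ^ n := by
    rw [← pow_add]; exact pow_le_pow_right₀ p1.le (by omega)
  rw [← s2, ← hT] at s5
  have s8 : (1 : ℝ) ≤ m := by
    have : (0 : ℝ) < m := by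
      by_contra h
      have : (p : ℝ) ^ blockHeight p B χ.1 * m * (p ^ n * R + T) ≤ 0 :=
        mul_nonpos_of_nonpos_of_nonneg (mul_nonpos_of_nonneg_of_nonpos (by positivity) (not_lt.1 h)) (by positivity)
      exact this.not_gt (s5 ▸ by positivity)
    exact_mod_cast this
  have q1 : (0 : ℝ) < p ^ blockHeight p B χ.1 := by positivity
  have q2 : (0 : ℝ) < p ^ n * R := by positivity
  have s9 : m * (p ^ n * R + T) ≤ p ^ n * R := le_of_mul_le_mul_left (by nlinarith) q1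
  have s10 : T = 0 := by nlinarith
  have s11 : (m : ℝ) = 1 := by nlinarith
  have s12 : blockHeight p B χ.1 = 0 := (ha.ndvd χ hχ χ hχ).1 fun h => by
    rw [hm, show m = 1 by exact_mod_cast s11, mul_one, pow_dvd_pow_iff (by exact_mod_cast hp.out.ne_zero)
      (by simpa [Int.isUnit_iff_natAbs_eq] using hp.out.ne_one)] at h
    omega
  refine ⟨fun g hg => ?_, ?_⟩
  · simpa using (Finset.sum_eq_zero_iff_of_nonneg fun _ _ => by positivity).1 (hT.symm.trans s10) g (by simpa using hg)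
  · rw [s10, s11, s12] at s5
    have : (p : ℝ) ^ blockDefect p B = p ^ n := (mul_left_inj' s4.ne').1 (s5.trans (by ring))
    rw [hn]; exact_mod_cast this

theorem dg_of_rel_defect (hM : IsPModular p M) (hB : IsPBlock M B) (hχ : χ ∈ B) (hD : IsPGroup p D) [D.Normal]
    (h1 : ∀ y, ¬ p ∣ orderOf y → y ∈ CS D) (h2 : D ≤ H3.charCenter χ.1)
    (h3 : (Nat.card G).factorization p ≤ nu p χ.1 + (Nat.card D).factorization p) : IsDefectGroup p M B D := by
  have := charP_k hM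
  have h4 := isBI_eB hM hB
  exact dg_of_card hM hB hD (by rw [Br_idem_of_normal hD h4.mem_Z h4.idem]; exact h4.ne)
    (rel_defect hM hB hχ hD h1 h2 h3).2.le

theorem star_apply_of (hM : IsPModular p M) (hB : IsPBlock M B) (hm : MaxP p (eB M B) P e) (hχ : χ ∈ B) {c : ℂ}
    (h : ∀ t : P, IsConj (pp p g) t → η t = c) : star p e χ.1 η g = c * χ.1 g := by
  conv_rhs => rw [← star_const hM hB hm hχ]
  simp only [star, Phi, Finset.mul_sum, ← mul_assoc]
  refine Finset.sum_congr rfl fun f _ => congrArg (· * _) ?_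
  unfold wt; split_ifs with h1
  · obtain ⟨y, h2, -⟩ := h1.choose_spec
    rw [h _ (isConj_iff.2 ⟨y, h2.symm⟩), Pi.one_apply, mul_one]
  · rw [mul_zero]

theorem normal_of_sup_CS (h : P ⊔ CS P = ⊤) : P.Normal :=
  Subgroup.normalizer_eq_top_iff.1 (top_unique (h.ge.trans (sup_le P.le_normalizer (CS_le_NS P))))

theorem star_of_sup (hM : IsPModular p M) (hB : IsPBlock M B) (hm : MaxP p (eB M B) P e) (hχ : χ ∈ B)
    (hG : P ⊔ CS P = ⊤) (hη : IsClassFunction P η) {u : P} (h : pp p g = u) : star p e χ.1 η g = η u * χ.1 g :=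
  star_apply_of hM hB hm hχ fun t ht => by
    have := normal_of_sup_CS hG
    obtain ⟨y, hy⟩ := isConj_iff.1 ht
    obtain ⟨a, ha, c, hc, rfl⟩ := Subgroup.mem_sup_of_normal_left.1 (hG.ge (Subgroup.mem_top y))
    rw [← hη u ⟨a, ha⟩]; congr 1
    refine Subtype.ext (hy.symm.trans ?_)
    simp [h, mul_assoc, ← mul_assoc c, ← hc u u.2]

theorem aNil_of_sup (hM : IsPModular p M) (hB : IsPBlock M B) (hP : IsDefectGroup p M B P) (hG : P ⊔ CS P = ⊤) :
    ANil p ⊤ (eB M B) :=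
  hG ▸ aNil_of_ADG hM (hG ▸ isBI_eB hM hB) (hG ▸ (dg_iff_ADG_top hM hB).1 hP)

theorem height_zero_of_ker (hM : IsPModular p M) (hB : IsPBlock M B) (hP : IsDefectGroup p M B P) (hχ : χ ∈ B)
    (h : ∀ x ∈ P, χ.1 x = χ.1 1) : blockHeight p B χ.1 = 0 ∧ nu p χ.1 = P.index.factorization p := by
  have h1 := H3.degree_dvd_index_of_le_charCenter χ.2 (irr_one_eq χ) P fun x hx =>
    H3.charKer_le_charCenter _ ((H3.mem_charKer (H3.irr_char χ.2) x).2 (h x hx))
  have h2 : nu p χ.1 ≤ P.index.factorization p :=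
    (Nat.factorization_le_iff_dvd (charDegree_ne_zero χ.2) P.index_ne_zero_of_finite).2 h1 p
  have h3 := nu_add_blockDefect (p := p) hχ
  rw [← dg_factorization hM hB hP, ← P.card_mul_index, Nat.factorization_mul Nat.card_pos.ne' P.index_ne_zero_of_finite,
    Finsupp.add_apply] at h3
  omega

/-- the characters of a block with `G = P C_G(P)` in terms of one of height zero -/
theorem chars_of_sup (hM : IsPModular p M) (hB : IsPBlock M B) (hP : IsDefectGroup p M B P) (hG : P ⊔ CS P = ⊤)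
    (hχ : χ ∈ B) (h0 : blockHeight p B χ.1 = 0) : ∃ Φ : IrrCharacter P ≃ B, ∀ η (g : G) (u : P), pp p g = u →
      (Φ η).1.1 g = η.1 u * χ.1 g := by
  obtain ⟨e, hm⟩ := exists_maxP hM hB hP
  obtain ⟨Φ, h⟩ := (aNil_of_sup hM hB hP hG).bij hM hB hm hχ h0
  exact ⟨Φ, fun η g u hu => by rw [(h η).1, star_of_sup hM hB hm hχ hG (H3.irr_class η.2) hu]⟩

theorem exists_canon (hM : IsPModular p M) (hB : IsPBlock M B) (hP : IsDefectGroup p M B P) (hG : P ⊔ CS P = ⊤) :
    ∃! θ, θ ∈ B ∧ ∀ x ∈ P, θ.1 x = θ.1 1 := by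
  have := Fintype.ofFinite P
  have := normal_of_sup_CS hG
  have h0 := fun x : P => pp_of_isPElt hp.out (isPElt_of_mem hp.out ((dg_iff_ADG_top hM hB).1 hP).isP x.2)
  have h9 := fun χ : IrrCharacter G => (by rw [irr_one_eq]; exact_mod_cast charDegree_ne_zero χ.2 : χ.1 1 ≠ 0)
  obtain ⟨χ, h1, h2⟩ := exists_height_zero hM hB
  obtain ⟨Φ, h⟩ := chars_of_sup hM hB hP hG h1 h2
  obtain ⟨ζ, h3, h4⟩ := H3.exists_irr_inner_ne_zero (H3.class_restrict (H3.irr_class χ.2) P) fun e => h9 χ (congrFun e 1)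
  obtain ⟨θ, hθ⟩ : ∃ θ, θ = Φ ⟨_, H3.irr_conj h3⟩ := ⟨_, rfl⟩
  have h5 : ∀ x ∈ P, θ.1.1 x = θ.1.1 1 := by
    by_contra! h5
    refine h4 (Eq.trans ?_ (H3.inner_restrict_one_eq_zero P θ.1.2 h5))
    simp only [classInner, hθ, fun η (x : P) => h η _ x (h0 x), mul_comm, map_one, one_mul]
  refine ⟨θ, ⟨θ.2, h5⟩, fun ψ ⟨h6, h7⟩ => ?_⟩
  obtain ⟨Φ', h'⟩ := chars_of_sup hM hB hP hG θ.2 (height_zero_of_ker hM hB hP θ.2 h5).1
  have key : ∀ η, (∀ x ∈ P, (Φ' η).1.1 x = (Φ' η).1.1 1) → η = triv P := fun η h8 => Subtype.ext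
    (H3.irr_eq_one_of_const η.2 fun x => mul_right_cancel₀ (h9 θ) (by
      rw [← h' η 1 1 pp_one, ← h8 x x.2, h' η _ x (h0 x), h5 x x.2]))
  exact congrArg Subtype.val (Φ'.symm.injective ((key _ (by simpa using h7)).trans
    (key _ (by simpa using h5)).symm) : (⟨ψ, h6⟩ : B) = θ)

end H4
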