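import Mathlib
import Cfsg.Agent.H1.Fitting

set_option autoImplicit false

namespace H4.Cov
open Subgroup

variable {G : Type*} [Group G]

theorem decomp [Finite G] (p : ℕ) [hp : Fact p.Prime] (g : G) :
    ∃ a b : G, a ∈ zpowers g ∧ b ∈ zpowers g ∧ g = a * b ∧ (∃ k, a ^ p ^ k = 1) ∧ (orderOf b).Coprime p := by
  obtain ⟨k, m, hm, e⟩ := Nat.exists_eq_pow_mul_and_not_dvd (orderOf_pos g).ne' p hp.out.ne_one
  have hc : Nat.Coprime (p ^ k) m := Nat.Coprime.pow_left k ((Nat.Prime.coprime_iff_not_dvd hp.out).2 hm)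
  obtain ⟨u, v, huv⟩ := Nat.isCoprime_iff_coprime.2 hc
  have h0 : g ^ ((p ^ k * m : ℕ) : ℤ) = 1 := by rw [zpow_natCast, ← e, pow_orderOf_eq_one]
  refine ⟨g ^ (v * m), g ^ (u * (p ^ k : ℕ)), zpow_mem_zpowers _ _, zpow_mem_zpowers _ _, ?_, ⟨k, ?_⟩, ?_⟩
  · rw [← zpow_add, add_comm, huv, zpow_one]
  · rw [← zpow_natCast, ← zpow_mul, show v * m * ((p ^ k : ℕ) : ℤ) = ((p ^ k * m : ℕ) : ℤ) * v by push_cast; ring, zpow_mul, h0, one_zpow]
  · have : (g ^ (u * (p ^ k : ℕ))) ^ m = 1 := by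
      rw [← zpow_natCast, ← zpow_mul, show u * ((p ^ k : ℕ) : ℤ) * m = ((p ^ k * m : ℕ) : ℤ) * u by push_cast; ring, zpow_mul, h0, one_zpow]
    exact Nat.Coprime.coprime_dvd_left (orderOf_dvd_of_pow_eq_one this) ((Nat.Prime.coprime_iff_not_dvd hp.out).2 hm).symm

theorem pz {p k : ℕ} {x : G} (h : x ^ p ^ k = 1) : IsPGroup p (zpowers x) := by
  rintro ⟨_, n, rfl⟩
  refine ⟨k, Subtype.ext ?_⟩
  show (x ^ n) ^ p ^ k = 1
  rw [← zpow_natCast, ← zpow_mul, mul_comm, zpow_mul, zpow_natCast, h, one_zpow]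

theorem mem_smul {p : ℕ} (P : Sylow p G) (g x : G) : x ∈ ((g • P : Sylow p G) : Subgroup G) ↔ g⁻¹ * x * g ∈ (P : Subgroup G) := by
  rw [Sylow.coe_subgroup_smul, Subgroup.mem_pointwise_smul_iff_inv_smul_mem]
  simp

theorem pab [Finite G] {p : ℕ} [Fact p.Prime] (P : Sylow p G) (hab : IsMulCommutative (P : Subgroup G))
    {Q : Subgroup G} (hQ : IsPGroup p Q) {a b : G} (ha : a ∈ Q) (hb : b ∈ Q) : a * b = b * a := by
  obtain ⟨R, hR⟩ := hQ.exists_le_sylow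
  obtain ⟨g, rfl⟩ := MulAction.exists_smul_eq G P R
  have h1 := (mem_smul P g a).1 (hR ha)
  have h2 := (mem_smul P g b).1 (hR hb)
  have h3 : (g⁻¹ * a * g) * (g⁻¹ * b * g) = (g⁻¹ * b * g) * (g⁻¹ * a * g) :=
    congrArg Subtype.val (hab.is_comm.comm (⟨_, h1⟩ : (P : Subgroup G)) ⟨_, h2⟩)
  calc a * b = g * ((g⁻¹ * a * g) * (g⁻¹ * b * g)) * g⁻¹ := by group
    _ = b * a := by rw [h3]; group

theorem comm_nil [Finite G] {p : ℕ} [hp : Fact p.Prime] (P : Sylow p G) (hab : IsMulCommutative (P : Subgroup G))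
    {A : Subgroup G} (hA : Group.IsNilpotent A) {x a : G} {k : ℕ} (hx : x ∈ A) (hk : x ^ p ^ k = 1) (ha : a ∈ A) : a * x = x * a := by
  obtain ⟨b, c, hb, hc, e, ⟨j, hj⟩, hcp⟩ := decomp p a
  have hbA : b ∈ A := (zpowers_le.2 ha) hb
  have hcA : c ∈ A := (zpowers_le.2 ha) hc
  have h1 : c * x = x * c := H1.commute_of_coprime_of_nilpotent hA hcA hx
    (Nat.Coprime.coprime_dvd_right (orderOf_dvd_of_pow_eq_one hk) (hcp.pow_right k))
  have h2 : b * x = x * b := by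
    obtain ⟨S⟩ : Nonempty (Sylow p A) := inferInstance
    have hS : (S : Subgroup A).Normal := Sylow.normal_of_normalizerCondition normalizerCondition_of_isNilpotent S
    have hin : ∀ (y : G) (hy : y ∈ A) (i : ℕ), y ^ p ^ i = 1 → y ∈ (S : Subgroup A).map A.subtype := by
      intro y hy i hi
      obtain ⟨R, hR⟩ := (pz (x := (⟨y, hy⟩ : A)) (p := p) (k := i) (Subtype.ext hi)).exists_le_sylow
      obtain ⟨g, rfl⟩ := MulAction.exists_smul_eq A S R
      rw [Sylow.smul_eq_of_normal] at hR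
      exact ⟨⟨y, hy⟩, hR (mem_zpowers _), rfl⟩
    exact pab P hab (S.isPGroup'.map A.subtype) (hin b hbA j hj) (hin x hx k hk)
  rw [e, mul_assoc, h1, ← mul_assoc, h2, mul_assoc]

def NMC (𝓐 : Finset (Subgroup G)) : Prop :=
  ((∀ A ∈ 𝓐, A ≠ ⊤) ∧ (∀ g : G, ∃ A ∈ 𝓐, g ∈ A)) ∧ (∀ 𝓑 : Finset (Subgroup G), (∀ A ∈ 𝓑, A ≠ ⊤) ∧ (∀ g : G, ∃ A ∈ 𝓑, g ∈ A) → 𝓐.card ≤ 𝓑.card) ∧ (∀ A ∈ 𝓐, Group.IsNilpotent ↥A)

theorem gen {𝓐 : Finset (Subgroup G)} (h : NMC 𝓐) {A B M : Subgroup G} (hA : A ∈ 𝓐) (hB : B ∈ 𝓐) (hAB : A ≠ B) (hx : A ≤ M) (hy : B ≤ M) : M = ⊤ := by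
  classical
  by_contra hM
  obtain ⟨⟨h1, h2⟩, h3, h4⟩ := h
  have := h3 (insert M ((𝓐.erase A).erase B)) ⟨?_, ?_⟩
  · have c1 := Finset.card_insert_le M ((𝓐.erase A).erase B)
    have c2 := Finset.card_erase_add_one hA
    have c3 := Finset.card_erase_add_one (Finset.mem_erase.2 ⟨hAB.symm, hB⟩)
    omega
  · intro C hC
    rcases Finset.mem_insert.1 hC with rfl | hC
    · exact hM
    · exact h1 C (Finset.mem_of_mem_erase (Finset.mem_of_mem_erase hC))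
  · intro g
    obtain ⟨C, hC, hg⟩ := h2 g
    by_cases e1 : C = A
    · exact ⟨M, Finset.mem_insert_self _ _, hx (e1 ▸ hg)⟩
    by_cases e2 : C = B
    · exact ⟨M, Finset.mem_insert_self _ _, hy (e2 ▸ hg)⟩
    exact ⟨C, Finset.mem_insert_of_mem (Finset.mem_erase.2 ⟨e2, Finset.mem_erase.2 ⟨e1, hC⟩⟩), hg⟩

section
variable [Finite G] (hZ : Subgroup.center G = ⊥) {𝓐 : Finset (Subgroup G)} (h : NMC 𝓐) {p : ℕ} [hp : Fact p.Prime]
  (P : Sylow p G) (hab : IsMulCommutative (P : Subgroup G))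
include hZ h hab

theorem disj {A B : Subgroup G} (hA : A ∈ 𝓐) (hB : B ∈ 𝓐) {x : G} {k : ℕ} (hk : x ^ p ^ k = 1) (hx1 : x ≠ 1) (hxA : x ∈ A) (hxB : x ∈ B) : A = B := by
  by_contra hne
  have hC : ∀ C ∈ 𝓐, x ∈ C → C ≤ centralizer {x} := fun C hC hxC a ha =>
    mem_centralizer_singleton_iff.2 (comm_nil P hab (h.2.2 C hC) hxC hk ha)
  have := gen h hA hB hne (hC A hA hxA) (hC B hB hxB)
  apply hx1
  rw [← mem_bot, ← hZ, mem_center_iff]
  intro g
  exact mem_centralizer_singleton_iff.1 (this ▸ mem_top g)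

theorem inA (Q : Sylow p G) (hne : ¬ ((∀ x ∈ (Q : Subgroup G), x ^ p = 1) ∧ p < Nat.card (Q : Subgroup G))) : ∃ A ∈ 𝓐, (Q : Subgroup G) ≤ A := by
  classical
  obtain ⟨N, hN⟩ := IsPGroup.iff_card.1 Q.isPGroup'
  by_cases he : ∀ x ∈ (Q : Subgroup G), x ^ p = 1
  · have hle : Nat.card (Q : Subgroup G) ≤ p := not_lt.1 fun h => hne ⟨he, h⟩
    have hN1 : N ≤ 1 := by
      rw [hN] at hle
      exact (Nat.pow_le_pow_iff_right hp.out.one_lt).1 (by rwa [pow_one])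
    have hd : Nat.card (Q : Subgroup G) ∣ p := by
      rw [hN]; nth_rewrite 2 [← pow_one p]; exact pow_dvd_pow _ hN1
    have hcyc : IsCyclic (Q : Subgroup G) := isCyclic_of_card_dvd_prime hd
    obtain ⟨x, hx⟩ := hcyc.exists_generator
    obtain ⟨A, hA, hxA⟩ := h.1.2 (x : G)
    refine ⟨A, hA, fun y hy => ?_⟩
    obtain ⟨n, hn⟩ := hx ⟨y, hy⟩
    have : y = (x : G) ^ n := (congrArg Subtype.val hn).symm
    rw [this]; exact A.zpow_mem hxA n
  · have hex : ∃ n, ∀ x ∈ (Q : Subgroup G), x ^ p ^ n = 1 := ⟨N, fun x hx => by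
      have := pow_card_eq_one' (x := (⟨x, hx⟩ : (Q : Subgroup G)))
      rw [hN] at this
      exact congrArg Subtype.val this⟩
    have hn := Nat.find_spec hex
    have hn2 : 2 ≤ Nat.find hex := by
      by_contra hlt
      apply he
      intro x hx
      have := hn x hx
      obtain ⟨c, hc⟩ : p ^ Nat.find hex ∣ p ^ 1 := pow_dvd_pow _ (by omega)
      rw [pow_one] at hc
      rw [hc, pow_mul, this, one_pow]
    obtain ⟨m, hm⟩ : ∃ m, Nat.find hex = m + 1 := ⟨Nat.find hex - 1, by omega⟩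
    have hlt := Nat.find_min hex (m := m) (by omega)
    push Not at hlt
    obtain ⟨x, hxQ, hxm⟩ := hlt
    rw [hm] at hn hn2
    obtain ⟨A, hA, hxA⟩ := h.1.2 x
    have hpp : ∀ y ∈ (Q : Subgroup G), (y ^ p ^ m) ^ p ^ 1 = 1 := fun y hy => by rw [← pow_mul, ← pow_add, hn y hy]
    have s1 : ∀ y ∈ (Q : Subgroup G), y ^ p ^ m = 1 → y ∈ A := by
      intro y hy hym
      obtain ⟨B, hB, hyB⟩ := h.1.2 (x * y)
      have hc : Commute x y := pab P hab Q.isPGroup' hxQ hy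
      have e : (x * y) ^ p ^ m = x ^ p ^ m := by rw [hc.mul_pow, hym, mul_one]
      have := disj hZ h P hab hA hB (hpp x hxQ) hxm (A.pow_mem hxA _) (e ▸ B.pow_mem hyB _)
      rw [← this] at hyB
      exact (A.mul_mem_cancel_left hxA).1 hyB
    refine ⟨A, hA, fun y hy => ?_⟩
    by_cases hym : y ^ p ^ m = 1
    · exact s1 y hy hym
    · obtain ⟨B, hB, hyB⟩ := h.1.2 y
      have h1 : y ^ p ^ m ∈ A := s1 _ (Subgroup.pow_mem _ hy _) (by
        obtain ⟨c, hc⟩ : p ^ 1 ∣ p ^ m := pow_dvd_pow _ (by omega)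
        nth_rewrite 2 [hc]
        rw [pow_mul, hpp y hy, one_pow])
      rw [disj hZ h P hab hA hB (hpp y hy) hym h1 (B.pow_mem hyB _)]
      exact hyB

theorem cent (Q : Sylow p G) (hQ : (Q : Subgroup G) ≠ ⊥) {A : Subgroup G} (hA : A ∈ 𝓐) (hQA : (Q : Subgroup G) ≤ A) :
    centralizer ((Q : Subgroup G) : Set G) = A := by
  apply le_antisymm
  · intro c hc
    obtain ⟨⟨x, hx⟩, hx1⟩ := ne_bot_iff_exists_ne_one.1 hQ
    have hx1' : x ≠ 1 := fun e => hx1 (Subtype.ext e)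
    obtain ⟨k, hk⟩ := Q.isPGroup' ⟨x, hx⟩
    have hk' : x ^ p ^ k = 1 := congrArg Subtype.val hk
    obtain ⟨a, b, ha, hb, e, ⟨j, hj⟩, hcp⟩ := decomp p c
    have haC := (zpowers_le.2 hc) ha
    have hbC := (zpowers_le.2 hc) hb
    have haQ : a ∈ (Q : Subgroup G) := by
      have h1 := (pz hj).inf_normalizer_sylow Q
      have h2 : a ∈ zpowers a ⊓ normalizer ((Q : Subgroup G) : Set G) := ⟨mem_zpowers a, centralizer_le_normalizer _ haC⟩
      have h3 : a ∈ zpowers a ⊓ (Q : Subgroup G) := h1 ▸ h2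
      exact h3.2
    have hbx : Commute x b := mem_centralizer_iff.1 hbC x hx
    obtain ⟨B, hB, hB'⟩ := h.1.2 (x * b)
    have e2 : (x * b) ^ orderOf b = x ^ orderOf b := by rw [hbx.mul_pow, pow_orderOf_eq_one, mul_one]
    have hne : x ^ orderOf b ≠ 1 := by
      intro e3
      have d1 := orderOf_dvd_of_pow_eq_one e3
      have d2 := orderOf_dvd_of_pow_eq_one hk'
      exact hx1' (orderOf_eq_one_iff.1 (Nat.eq_one_of_dvd_coprimes (hcp.pow_right k) d1 d2))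
    have := disj hZ h P hab hA hB (x := x ^ orderOf b) (k := k) (by rw [← pow_mul, mul_comm, pow_mul, hk', one_pow]) hne
      (A.pow_mem (hQA hx) _) (e2 ▸ B.pow_mem hB' _)
    rw [← this] at hB'
    rw [e]
    exact A.mul_mem (hQA haQ) ((A.mul_mem_cancel_left (hQA hx)).1 hB')
  · intro a ha
    rw [mem_centralizer_iff]
    intro x hx
    obtain ⟨k, hk⟩ := Q.isPGroup' ⟨x, hx⟩
    exact (comm_nil P hab (h.2.2 A hA) (hQA hx) (congrArg Subtype.val hk) ha).symm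

theorem main (hne : ¬ ((∀ x ∈ (P : Subgroup G), x ^ p = 1) ∧ p < Nat.card (P : Subgroup G))) (hnn : ¬ (P : Subgroup G).Normal) :
    ∃ A ∈ 𝓐, (P : Subgroup G) ≤ A ∧ centralizer ((P : Subgroup G) : Set G) = A ∧
      (∀ g : G, g ∉ normalizer ((P : Subgroup G) : Set G) → (∀ x ∈ (P : Subgroup G), g⁻¹ * x * g ∈ (P : Subgroup G) → x = 1) ∧
        ∀ M : Subgroup G, A ≤ M → g ∈ M → M = ⊤) := by
  have hP0 : (P : Subgroup G) ≠ ⊥ := fun e => hnn (e ▸ inferInstance)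
  obtain ⟨A, hA, hPA⟩ := inA hZ h P hab P hne
  have hc := cent hZ h P hab P hP0 hA hPA
  refine ⟨A, hA, hPA, hc, fun g hg => ?_⟩
  have hcard : Nat.card ((g • P : Sylow p G) : Subgroup G) = Nat.card (P : Subgroup G) := by
    rw [Sylow.card_eq_multiplicity, Sylow.card_eq_multiplicity]
  obtain ⟨B, hB, hPB⟩ := inA hZ h P hab (g • P) (by
    rintro ⟨h1, h2⟩
    refine hne ⟨fun x hx => ?_, hcard ▸ h2⟩
    have := h1 (g * x * g⁻¹) ((mem_smul P g _).2 (by simpa [mul_assoc] using hx))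
    rw [conj_pow] at this
    simpa using this)
  have hP1 : ((g • P : Sylow p G) : Subgroup G) ≠ ⊥ := by
    intro e
    rw [e, card_bot] at hcard
    exact hP0 (card_eq_one.1 hcard.symm)
  have hc' := cent hZ h P hab (g • P) hP1 hB hPB
  have hAB : A ≠ B := by
    intro e
    apply hg
    refine (Sylow.smul_eq_iff_mem_normalizer (g := g) (P := P)).1 ?_
    have h1 := (g • P).isPGroup'.inf_normalizer_sylow P
    have h2 : ((g • P : Sylow p G) : Subgroup G) ≤ normalizer ((P : Subgroup G) : Set G) :=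
      hPB.trans (by rw [← e, ← hc]; exact centralizer_le_normalizer _)
    have h3 : ((g • P : Sylow p G) : Subgroup G) ≤ P := fun y hy => by
      have : y ∈ ((g • P : Sylow p G) : Subgroup G) ⊓ (P : Subgroup G) := h1 ▸ ⟨hy, h2 hy⟩
      exact this.2
    exact Sylow.ext ((g • P).is_maximal' P.isPGroup' h3).symm
  refine ⟨fun x hx hgx => ?_, fun M hAM hgM => gen h hA hB hAB hAM ?_⟩
  · by_contra hx1
    obtain ⟨k, hk⟩ := P.isPGroup' ⟨x, hx⟩
    exact hAB (disj hZ h P hab hA hB (congrArg Subtype.val hk) hx1 (hPA hx) (hPB ((mem_smul P g x).2 hgx)))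
  · intro b hb
    rw [← hc', mem_centralizer_iff] at hb
    have : g⁻¹ * b * g ∈ A := by
      rw [← hc, mem_centralizer_iff]
      intro y hy
      have := hb (g * y * g⁻¹) ((mem_smul P g _).2 (by rw [show g⁻¹ * (g * y * g⁻¹) * g = y by group]; exact hy))
      calc y * (g⁻¹ * b * g) = g⁻¹ * (g * y * g⁻¹ * b) * g := by group
        _ = _ := by rw [this]; group
    have h2 := M.mul_mem (M.mul_mem hgM (hAM this)) (M.inv_mem hgM)
    simpa [mul_assoc] using h2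

theorem coatom (hne : ¬ ((∀ x ∈ (P : Subgroup G), x ^ p = 1) ∧ p < Nat.card (P : Subgroup G))) (hnn : ¬ (P : Subgroup G).Normal) :
    IsCoatom (normalizer ((P : Subgroup G) : Set G)) := by
  obtain ⟨A, hA, h1, h2, h3⟩ := main hZ h P hab hne hnn
  refine ⟨fun e => hnn (normalizer_eq_top_iff.1 e), fun M hM => ?_⟩
  obtain ⟨g, hgM, hg⟩ := SetLike.exists_of_lt hM
  exact (h3 g hg).2 M ((h2 ▸ centralizer_le_normalizer _ : A ≤ _).trans hM.le) hgM

end
end H4.Cov
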