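import Cfsg.Agent.H3.Df

/-!
# Cyclic defect groups: the modular input
`CL` (local structure of a nilpotent block with cyclic defect group), `CL.green`, `CL.exists_sigma`.
-/

set_option autoImplicit false
set_option linter.unusedSectionVars false

namespace H4
open MonoidAlgebra Cfsg H1 H3
open scoped Pointwise

variable {G : Type*} [Group G] [Finite G] {p : ℕ} [hp : Fact p.Prime] {F V W : Type*} [Field F] [AddCommGroup V]
  [Module F V] [AddCommGroup W] [Module F W]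

theorem exact_pow (T : Module.End F V) (U : V → Prop) (hU : ∀ v, U v → U (T v)) {s b : ℕ}
    (h : ∀ v, U v → (T ^ (s + 1)) v = 0 → ∃ w, U w ∧ v = (T ^ (s + 1 + b)) w) {v : V} (h1 : U v) (h2 : T v = 0) :
    ∃ w, U w ∧ v = (T ^ (s + (s + 1 + b))) w := by
  have hU' : ∀ n v, U v → U ((T ^ n) v) := fun n => by
    induction n with
    | zero => exact fun _ h => h
    | succ n ih => exact fun v hv => by rw [pow_succ']; exact hU _ (ih v hv)
  obtain ⟨w, h3, rfl⟩ := h v h1 (by rw [pow_succ, Module.End.mul_apply, h2, map_zero])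
  obtain ⟨u, h4, h5⟩ := h _ (hU' (b + 1) w h3) (by
    rw [← h2, ← Module.End.mul_apply, ← Module.End.mul_apply, ← pow_add, ← pow_succ']; congr 2)
  refine ⟨u, h4, ?_⟩
  rw [pow_add T s (s + 1 + b), Module.End.mul_apply, ← h5, ← Module.End.mul_apply, ← pow_add]; congr 2; omega

theorem exact_pow' (T : Module.End F V) (U : Submodule F V) (hU : ∀ v ∈ U, T v ∈ U) {n : ℕ}
    (h : ∀ v ∈ U, T v = 0 → ∃ w ∈ U, v = (T ^ n) w) : ∀ j ≤ n, ∀ v ∈ U, (T ^ j) v = 0 → ∃ w ∈ U, v = T w := by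
  have hU' : ∀ n, ∀ v ∈ U, (T ^ n) v ∈ U := fun n => by
    induction n with
    | zero => exact fun _ h => h
    | succ n ih => exact fun v hv => by rw [pow_succ']; exact hU _ (ih v hv)
  intro j
  induction j with
  | zero => exact fun _ v _ h => ⟨0, zero_mem _, by simpa using h⟩
  | succ j ih =>
    intro hj v h1 h2
    obtain ⟨m, rfl⟩ := Nat.exists_eq_add_of_le hj
    obtain ⟨w, h3, h4⟩ := h _ (hU' j v h1) (by rwa [pow_succ'] at h2)
    obtain ⟨u, h5, h6⟩ := ih (by omega) (v - (T ^ (m + 1)) w) (sub_mem h1 (hU' _ w h3)) (by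
      rw [map_sub, h4, ← Module.End.mul_apply, ← pow_add, sub_eq_zero]; congr 2; omega)
    exact ⟨u + (T ^ m) w, add_mem h5 (hU' _ w h3), by rw [map_add, ← h6, pow_succ', Module.End.mul_apply]; simp⟩

theorem comm_of_Sup {H : Subgroup G} (ρ : F[G] →ₐ[F] Module.End F V) (ρ' : F[G] →ₐ[F] Module.End F W) (L : V →ₗ[F] W)
    (h : ∀ g ∈ H, ∀ v, L (repA ρ g v) = repA ρ' g (L v)) {a : F[G]} (ha : a ∈ Sup F (H : Set G)) (v : V) :
    L (ρ a v) = ρ' a (L v) := by
  have := Fintype.ofFinite G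
  simp only [map_eq_sum ρ a, map_eq_sum ρ' a, LinearMap.sum_apply, map_sum, LinearMap.smul_apply, map_smul]
  refine Finset.sum_congr rfl fun g _ => ?_
  by_cases e : a.coeff g = 0
  · simp [e]
  · rw [h g (mem_of_coeff_ne_zero ha e)]

theorem sig_zpowers [CharP F p] {z : G} (hz : orderOf z = p) :
    sig F (Subgroup.zpowers z) = (single z 1 - 1) ^ (p - 1) := by
  have := Fintype.ofFinite (Subgroup.zpowers z)
  rw [sig_eq_sum, sum_zpowers z fun x => (single x 1 : F[G]), hz, ← geom_char (F := F)]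
  simp [single_pow]

theorem fixed_zpowers {z : G} (ρ : G →* Module.End F V) {v : V} (h : ρ z v = v) : ∀ y ∈ Subgroup.zpowers z, ρ y v = v := by
  classical
  intro y hy
  obtain ⟨j, rfl⟩ := (mem_zpowers_iff_mem_range_orderOf.1 hy |> Finset.mem_image.1).imp fun _ h => h.2
  rw [map_pow, Module.End.pow_apply]; exact Function.iterate_fixed h j

/-- local structure of a nilpotent block with cyclic defect group of order `p * r` -/
structure CL (p r : ℕ) (z : G) (f t i : F[G]) : Prop where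
  ord : orderOf z = p
  r0 : r ≠ 0
  fZ : f ∈ ZA F (C1 z)
  tZ : t ∈ ZA F (C1 z)
  iS : i ∈ Sup F (C1 z : Set G)
  ff : f * f = f
  ft : f * t = t
  tr : t ^ r = (single z 1 - 1) * f
  ii : i * i = i
  fi : f * i = i
  i0 : i ≠ 0
  nil : ∀ a ∈ Sup F (C1 z : Set G), (∀ b ∈ Sup F (C1 z : Set G), IsNilpotent (a * b)) → t ^ (p * r - 1) * a = 0
  loc : ∀ a ∈ Sup F (C1 z : Set G), ∃ c : F, ∀ b ∈ Sup F (C1 z : Set G), IsNilpotent ((i * a * i - c • i) * b)
  mor : ∃ (n : ℕ) (a b : Fin n → F[G]), (∀ s, a s ∈ Sup F (C1 z : Set G) ∧ b s ∈ Sup F (C1 z : Set G)) ∧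
    ∀ y ∈ Sup F (C1 z : Set G), IsNilpotent ((f - ∑ s, a s * i * b s) * y)

variable [CharP F p] {r : ℕ} {z g g' : G} {f t i a b : F[G]}

/-- the group algebra of `C1 z` -/
def SC (F : Type*) [Field F] (z : G) : Subalgebra F F[G] where
  carrier := Sup F (C1 z : Set G)
  mul_mem' := mul_mem_Sup_subgroup
  add_mem' := add_mem
  algebraMap_mem' c := by rw [Algebra.algebraMap_eq_smul_one]; exact Submodule.smul_mem _ c (one_mem_Sup _)

theorem z_mem_C1 (z : G) : z ∈ C1 z := mem_centralizer_singleton.2 rfl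

namespace CL

theorem fS (h : CL p r z f t i) : f ∈ SC F z := h.fZ.2
theorem tS (h : CL p r z f t i) : t ∈ SC F z := h.tZ.2
theorem iS' (h : CL p r z f t i) : i ∈ SC F z := h.iS
theorem fc (h : CL p r z f t i) (ha : a ∈ SC F z) : Commute f a := ZA_comm_Sup h.fZ ha
theorem tc (h : CL p r z f t i) (ha : a ∈ SC F z) : Commute t a := ZA_comm_Sup h.tZ ha
theorem if' (h : CL p r z f t i) : i * f = i := (h.fc h.iS).symm.eq.trans h.fi
theorem zS (z : G) : single z (1 : F) - 1 ∈ SC F z := sub_mem (single_mem_Sup (z_mem_C1 z) 1) (one_mem _)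

theorem f_pow (h : CL p r z f t i) {n : ℕ} (hn : n ≠ 0) : f ^ n = f := by
  obtain ⟨n, rfl⟩ := Nat.exists_eq_succ_of_ne_zero hn
  exact IsIdempotentElem.pow_succ_eq n h.ff

theorem t_pow (h : CL p r z f t i) {n : ℕ} (hn : n ≠ 0) : t ^ (r * n) = (single z 1 - 1) ^ n * f := by
  rw [pow_mul, h.tr, (h.fc (zS z)).symm.mul_pow, h.f_pow hn]

theorem tq (h : CL p r z f t i) : t ^ (p * r) = 0 := by
  have := charP_monoidAlgebra (F := F) (G := G) (p := p)
  rw [mul_comm, h.t_pow hp.out.ne_zero, sub_pow_char_of_commute _ (Commute.one_right _), single_pow, ← h.ord,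
    pow_orderOf_eq_one]
  simp [one_def]

theorem nil_t (h : CL p r z f t i) (ha : a ∈ SC F z) : IsNilpotent (t * a) :=
  (h.tc ha).isNilpotent_mul_right ⟨_, h.tq⟩

theorem exact (h : CL p r z f t i) (ρ : F[G] →ₐ[F] Module.End F V) (π : Module.End F V) (h1 : ∀ v, π (π v) = π v)
    (h2 : ∀ g ∈ C1 z, ∀ v, π (repA ρ g v) = repA ρ g (π v))
    (h3 : ∀ v, π v = v → repA ρ z v = v → ∃ w, v = ρ (sig F (Subgroup.zpowers z)) w) {v : V} (h4 : π v = v)
    (h5 : ρ f v = v) (h6 : ρ t v = 0) : ∃ w, (π w = w ∧ ρ f w = w) ∧ v = ρ (t ^ (p * r - 1)) w := by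
  have k1 := fun {a} (ha : a ∈ SC F z) => comm_of_Sup ρ ρ π h2 ha
  have k2 : ∀ a b v, ρ a (ρ b v) = ρ (a * b) v := fun a b v => by rw [map_mul]; rfl
  obtain ⟨s, rfl⟩ := Nat.exists_eq_succ_of_ne_zero h.r0
  obtain ⟨m, hm⟩ := Nat.exists_eq_add_of_le hp.out.two_le
  have k3 : p - 1 = m + 1 := by omega
  obtain ⟨w, h7, h8⟩ := exact_pow (ρ t) (fun v => π v = v ∧ ρ f v = v) (fun v hv => ⟨by rw [k1 h.tS, hv.1], by
    rw [k2, h.ft]⟩) (s := s) (b := (s + 1) * m) (fun v hv e => by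
      rw [← map_pow, h.tr, ← k2, hv.2, map_sub, map_one, LinearMap.sub_apply, sub_eq_zero] at e
      obtain ⟨w, rfl⟩ := h3 v hv.1 e
      refine ⟨ρ f (π w), ⟨by rw [k1 h.fS, h1], by rw [k2, h.ff]⟩, ?_⟩
      have k4 := pow_mem (zS (F := F) z) (m + 1)
      rw [← hv.2, ← hv.1, ← map_pow, show s + 1 + (s + 1) * m = (s + 1) * (m + 1) by ring, h.t_pow m.succ_ne_zero,
        sig_zpowers h.ord, k3, k1 k4, k2, k2, mul_assoc, h.ff, (h.fc k4).eq]) ⟨h4, h5⟩ h6
  refine ⟨w, h7, ?_⟩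
  rw [h8, map_pow]; congr 2
  rw [hm, Nat.succ_eq_add_one]; ring_nf; omega

theorem div (h : CL p r z f t i) (ha : a ∈ SC F z) (h0 : t ^ (p * r - 1) * a = 0) : ∃ c ∈ SC F z, f * a = t * c := by
  classical
  have := Fintype.ofFinite G
  have := Fintype.ofFinite (Subgroup.zpowers z)
  let U : Submodule F F[G] := Sup F (C1 z : Set G) ⊓ LinearMap.ker (LinearMap.mulLeft F f - 1)
  have hU : ∀ a, a ∈ U ↔ trunc (C1 z : Set G) a = a ∧ f * a = a := fun a => and_congr
    ⟨trunc_of_mem_Sup, fun e => e ▸ trunc_mem_Sup _ _⟩ sub_eq_zero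
  obtain ⟨c, h1, h2⟩ := exact_pow' (Algebra.lmul F F[G] t) U (fun v hv => ⟨mul_mem h.tS (s := SC F z) hv.1,
    sub_eq_zero.2 (show f * (t * v) = t * v by rw [← mul_assoc, h.ft])⟩) (n := p * r - 1) (fun v hv e => by
      obtain ⟨w, h1, h2⟩ := h.exact (Algebra.lmul F F[G]) (trunc (C1 z : Set G)) (fun v => trunc_of_mem_Sup
        (trunc_mem_Sup _ _)) (fun g hg v => trunc_mul_left (single_mem_Sup hg 1) v) (fun v _ e => by
          obtain ⟨w, hw⟩ := orbit_sum (Ω := G) hp.out (by rw [Nat.card_zpowers, h.ord])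
            (fun y : Subgroup.zpowers z => (repA (Algebra.lmul F F[G]) y).toAddMonoidHom)
            (fun g => v.coeff g • single g (1 : F)) fun y g => by
              have := congrArg (·.coeff ((y : G) * g)) (fixed_zpowers _ e y y.2)
              simp only [repA_apply, Algebra.coe_lmul_eq_mul, LinearMap.mul_apply', coeff_single_mul,
                inv_mul_cancel_left] at this
              simp [repA_apply, Subgroup.smul_def, this]
          refine ⟨w, ?_⟩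
          rw [← eq_sum_single, Finset.sum_eq_zero fun g hg => ?_, zero_add] at hw
          · rw [map_sig, hw]; simp
          · have := (Finset.mem_filter.1 hg).2 ⟨z, Subgroup.mem_zpowers z⟩
            exact (hp.out.one_lt.ne' (by rw [← h.ord, show z = 1 from mul_eq_right.1 this, orderOf_one])).elim)
        ((hU v).1 hv).1 ((hU v).1 hv).2 e
      exact ⟨w, (hU w).2 h1, by rw [← map_pow]; exact h2⟩) _ le_rfl (f * a)
    ⟨mul_mem h.fS (s := SC F z) ha, sub_eq_zero.2 (show f * (f * a) = f * a by rw [← mul_assoc, h.ff])⟩ (by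
      rw [← map_pow]
      show t ^ _ * (f * a) = 0
      rw [← mul_assoc, ← ((h.fc h.tS).pow_right _).eq, mul_assoc, h0, mul_zero])
  exact ⟨c, h1.1, h2⟩

theorem rad (h : CL p r z f t i) (ha : a ∈ SC F z) (h0 : ∀ b ∈ SC F z, IsNilpotent (a * b)) :
    ∃ c ∈ SC F z, f * a = t * c := h.div ha (h.nil a ha h0)

theorem loc' (h : CL p r z f t i) (ha : a ∈ SC F z) : ∃ c : F, ∃ b ∈ SC F z, i * a * i = c • i + t * (i * b * i) := by
  obtain ⟨c, h1⟩ := h.loc a ha
  obtain ⟨b, h2, h3⟩ := h.rad (sub_mem (mul_mem (mul_mem h.iS' ha) h.iS') (Subalgebra.smul_mem _ h.iS' c)) h1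
  refine ⟨c, b, h2, ?_⟩
  rw [← mul_assoc t, ← mul_assoc t, (h.tc h.iS).eq, mul_assoc i t, ← h3]
  simp only [mul_sub, sub_mul, ← mul_assoc, h.if', h.ii, mul_smul_comm, smul_mul_assoc, mul_assoc _ i i]
  abel

theorem mor' (h : CL p r z f t i) : ∃ (n : ℕ) (a b : Fin n → F[G]), (∀ s, a s ∈ SC F z ∧ b s ∈ SC F z) ∧
    ∑ s, a s * i * b s = f := by
  obtain ⟨n, a, b, h1, h2⟩ := h.mor
  obtain ⟨c, h3, h4⟩ := h.rad (sub_mem h.fS (sum_mem fun s _ => mul_mem (mul_mem (h1 s).1 h.iS') (h1 s).2)) h2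
  obtain ⟨N, hN⟩ := h.nil_t h3
  have h5 : ∑ j ∈ Finset.range N, (t * c) ^ j ∈ SC F z := sum_mem fun j _ => pow_mem (mul_mem h.tS h3) j
  refine ⟨n, fun s => (∑ j ∈ Finset.range N, (t * c) ^ j) * (f * a s), b, fun s => ⟨mul_mem h5 (mul_mem h.fS (h1 s).1),
    (h1 s).2⟩, ?_⟩
  simp only [mul_assoc, ← Finset.mul_sum] at h4 ⊢
  rw [mul_sub, h.ff, sub_eq_iff_eq_add', ← sub_eq_iff_eq_add] at h4
  rw [← h4, show f - t * c = (1 - t * c) * f by
    rw [sub_mul, one_mul, ← (h.fc (mul_mem h.tS h3)).eq, ← mul_assoc, h.ft], ← mul_assoc, geom_sum_mul_neg, hN,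
    sub_zero, one_mul]

theorem ne (h : CL p r z f t i) : t ^ (p * r - 1) * i ≠ 0 := fun e =>
  let ⟨_, h1, h2⟩ := h.div h.iS e
  h.i0 (idem_eq_zero_of_isNilpotent h.ii (by rw [← h.fi, h2]; exact h.nil_t h1))

theorem conj_t (h : CL p r z f t i) (hg : g ∈ NS (C1 z)) (hf : cj g f = f) : ∃ c ∈ SC F z, cj g t = t * c := by
  have h1 := cj_mem_ZA' hg h.tZ
  obtain ⟨c, h2, h3⟩ := h.rad h1.2 fun b hb => Commute.isNilpotent_mul_right (ZA_comm_Sup h1 hb)
    ((show IsNilpotent t from ⟨_, h.tq⟩).map (cj g))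
  exact ⟨c, h2, by rw [← h3, ← hf, ← map_mul, h.ft]⟩

end CL

/-- homogeneous of degree `g` -/
def Gr (z g : G) (a : F[G]) : Prop := ∃ c ∈ SC F z, a = single g 1 * c

theorem Gr.mul (h : Gr z g a) (h' : Gr z g' b) (hg : g' ∈ NS (C1 z)) : Gr z (g * g') (a * b) := by
  obtain ⟨c, h1, rfl⟩ := h
  obtain ⟨d, h2, rfl⟩ := h'
  refine ⟨cj g'⁻¹ c * d, mul_mem (cj_mem_Sup' (inv_mem hg) h1) h2, ?_⟩
  simp [cj_eq, ← mul_assoc, single_mul_single_one]

theorem gr_one : Gr z 1 a ↔ a ∈ SC F z :=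
  ⟨fun ⟨_, h, e⟩ => by rwa [e, ← one_def, one_mul], fun h => ⟨a, h, by rw [← one_def, one_mul]⟩⟩

theorem Gr.pow (h : Gr z g a) (hg : g ∈ NS (C1 z)) (n : ℕ) : Gr z (g ^ n) (a ^ n) := by
  induction n with
  | zero => simpa using gr_one.2 (one_mem _)
  | succ n ih => rw [pow_succ, pow_succ]; exact ih.mul h hg

theorem Gr.congr (h : Gr z g a) (e : g'⁻¹ * g ∈ C1 z) : Gr z g' a := by
  obtain ⟨c, h1, rfl⟩ := h
  exact ⟨_, mul_mem (single_mem_Sup e 1) h1, by rw [← mul_assoc, single_mul_single_one, mul_inv_cancel_left]⟩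

theorem Gr.smul (h : Gr z g a) (c : F) : Gr z g (c • a) :=
  let ⟨d, h1, h2⟩ := h; ⟨c • d, Subalgebra.smul_mem _ h1 c, by rw [h2, mul_smul_comm]⟩

theorem Gr.trunc (h : Gr z g a) (hg : g ∉ C1 z) : trunc (C1 z : Set G) a = 0 := by
  obtain ⟨c, h1, rfl⟩ := h
  exact trunc_eq_zero_iff.2 fun x hx => by
    rw [coeff_single_mul]; exact mem_Sup.1 h1 _ fun e => hg (by simpa using mul_mem hx (inv_mem e))

theorem gr_single (z g : G) : Gr z g (single g (1 : F)) := ⟨1, one_mem _, (mul_one _).symm⟩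

namespace CL

theorem pow_eq (h : CL p r z f t i) (h1 : i * a = a) (h2 : a * i = a) {c : F} (hb : b ∈ SC F z)
    (e : a = c • i + t * b) : ∃ n, a ^ p ^ n = c ^ p ^ n • i := by
  obtain ⟨n, hn⟩ := h.nil_t hb
  refine ⟨n, sub_eq_zero.1 ?_⟩
  rw [← sub_smul_pow h.ii h1 h2, e, add_sub_cancel_left]
  exact pow_eq_zero_of_le (Nat.lt_pow_self hp.out.one_lt).le hn

theorem exists_h [IsAlgClosed F] (h : CL p r z f t i) (hg : g ∈ NS (C1 z)) (hf : cj g f = f) {ε : ℕ} (h1 : ε ∣ p - 1)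
    (h2 : g ^ ε ∈ C1 z) : ∃ u, Gr z g u ∧ i * u = u ∧ u * i = u ∧ u ^ ε = i := by
  obtain ⟨n, a, b, h3, h4⟩ := h.mor'
  have k0 := gr_one.2 h.iS'
  have k1 : ∀ s, Gr z g (i * (single g 1 * a s) * i) := fun s => by
    simpa using (k0.mul ⟨_, (h3 s).1, rfl⟩ hg).mul k0 (one_mem _)
  have k2 : ∀ s, Gr z g⁻¹ (b s * single g⁻¹ 1) := fun s => by
    simpa using (gr_one.2 (h3 s).2).mul (gr_single z g⁻¹) (inv_mem hg)
  have k3 : ∀ s, i * (single g 1 * a s) * i * (b s * single g⁻¹ 1) ∈ SC F z := fun s =>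
    gr_one.1 (by simpa using (k1 s).mul (k2 s) (inv_mem hg))
  choose c d h5 h6 using fun s => h.loc' (k3 s)
  obtain ⟨s, hs⟩ : ∃ s, c s ≠ 0 := by
    by_contra! hc
    simp only [hc, zero_smul, zero_add] at h6
    refine h.i0 (idem_eq_zero_of_isNilpotent h.ii ?_)
    have : i = t * ∑ s, i * d s * i := by
      rw [Finset.mul_sum, ← Finset.sum_congr rfl fun s _ => h6 s]
      simp only [← mul_assoc, h.ii]
      refine (show i * cj g f * i = i by rw [hf, h.if', h.ii]).symm.trans ?_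
      rw [cj_eq, ← h4]
      simp [Finset.mul_sum, Finset.sum_mul, mul_assoc]
    rw [this]; exact h.nil_t (sum_mem fun s _ => mul_mem (mul_mem h.iS' (h5 s)) h.iS')
  set u := i * (single g 1 * a s) * i with hu
  have k4 : i * u = u := by simp only [hu, ← mul_assoc, h.ii]
  have k5 : u * i = u := by simp only [hu, mul_assoc, h.ii]
  have hε : ε ≠ 0 := by rintro rfl; have := hp.out.two_le; omega
  obtain ⟨m, hm⟩ := h.pow_eq (by simp only [← mul_assoc, h.ii]) (by simp only [mul_assoc, h.ii])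
    (mul_mem (mul_mem h.iS' (h5 s)) h.iS') (h6 s)
  obtain ⟨w, hw⟩ : ∃ w, u * w = i := by
    obtain ⟨l, hl⟩ := Nat.exists_eq_succ_of_ne_zero (pow_ne_zero m hp.out.ne_zero)
    refine ⟨(c s ^ p ^ m)⁻¹ • (b s * single g⁻¹ 1 * i * (i * (u * (b s * single g⁻¹ 1)) * i) ^ l), ?_⟩
    rw [mul_smul_comm, inv_smul_eq_iff₀ (pow_ne_zero _ hs), ← hm, hl, pow_succ']
    simp only [hu, ← mul_assoc, h.ii]
  have k6 : ∀ n, u ^ n * i * (w * i) ^ n = i := fun n => by
    induction n with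
    | zero => simp
    | succ n ih => rw [pow_succ, pow_succ', mul_assoc _ u, k5, mul_assoc, ← mul_assoc u, ← mul_assoc u, hw, h.ii,
        ← mul_assoc, ih]
  have k7 : ∀ n, n ≠ 0 → i * u ^ n = u ^ n ∧ u ^ n * i = u ^ n := fun n hn => by
    obtain ⟨n, rfl⟩ := Nat.exists_eq_succ_of_ne_zero hn
    exact ⟨by rw [pow_succ', ← mul_assoc, k4], by rw [pow_succ, mul_assoc, k5]⟩
  obtain ⟨l, e, h7, h8⟩ := h.loc' (gr_one.1 (((k1 s).pow hg ε).congr (by simpa using h2)))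
  rw [← hu, (k7 ε hε).1, (k7 ε hε).2] at h8
  obtain ⟨n, hn⟩ := h.pow_eq (k7 ε hε).1 (k7 ε hε).2 (mul_mem (mul_mem h.iS' h7) h.iS') h8
  have h9 : l ^ p ^ n ≠ 0 := fun e => h.i0 (by
    rw [← k6 (ε * p ^ n), pow_mul, hn, e]; simp)
  obtain ⟨μ, hμ⟩ := IsAlgClosed.exists_pow_nat_eq (l ^ p ^ n)⁻¹ (Nat.pos_of_ne_zero hε)
  have k8 := k7 _ (pow_ne_zero n hp.out.ne_zero)
  refine ⟨μ • u ^ p ^ n, (((k1 s).pow hg _).congr ?_).smul μ, by rw [mul_smul_comm, k8.1], by rw [smul_mul_assoc, k8.2],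
    by rw [_root_.smul_pow, hμ, ← pow_mul, mul_comm, pow_mul, hn, smul_smul, inv_mul_cancel₀ h9, one_smul]⟩
  obtain ⟨j, hj⟩ := h1.trans (Nat.sub_one_dvd_pow_sub_one p n)
  rw [show p ^ n = ε * j + 1 by have := Nat.pos_of_ne_zero (pow_ne_zero n hp.out.ne_zero); omega, pow_succ',
    inv_mul_cancel_left, pow_mul]
  exact pow_mem h2 j

theorem comm (h : CL p r z f t i) (ρ : F[G] →ₐ[F] Module.End F V) {ψ : Module.End F V} (h1 : Commute (ρ i) ψ)
    (h2 : Commute (ρ (t * i)) ψ) (ha : a ∈ SC F z) : Commute (ρ (i * a * i)) ψ := by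
  have k1 : ∀ n, Commute (ρ (t ^ n * i)) ψ := fun n => by
    induction n with
    | zero => simpa using h1
    | succ n ih =>
      rw [show t ^ (n + 1) * i = t ^ n * i * (t * i) by
        rw [mul_assoc, ← mul_assoc i, ← (h.tc h.iS).eq, mul_assoc, h.ii, pow_succ, mul_assoc], map_mul]
      exact ih.mul_left h2
  have k2 : ∀ m n, n + m = p * r → ∀ a ∈ SC F z, Commute (ρ (t ^ n * (i * a * i))) ψ := fun m => by
    induction m with
    | zero => exact fun n e a _ => by rw [show n = p * r from e, h.tq]; simp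
    | succ m ih =>
      intro n e a ha
      obtain ⟨c, b, h3, h4⟩ := h.loc' ha
      rw [h4, mul_add, mul_smul_comm, ← mul_assoc, ← pow_succ, map_add, map_smul]
      exact ((k1 n).smul_left c).add_left (ih (n + 1) (by omega) b h3)
  simpa using k2 _ 0 (zero_add _) a ha

theorem extend (h : CL p r z f t i) (ρ : F[G] →ₐ[F] Module.End F V) {ψ : Module.End F V} (h0 : ρ i * ψ = ψ)
    (h1 : ψ * ρ i = ψ) (h2 : Commute (ρ (t * i)) ψ) :
    ∃ φ, (∀ a ∈ SC F z, Commute (ρ a) φ) ∧ ρ f * φ = φ ∧ φ * ρ i = ψ := by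
  obtain ⟨n, a, b, h3, h4⟩ := h.mor'
  have k1 : ∀ x ∈ SC F z, ψ * ρ (x * i) = ρ (i * x * i) * ψ := fun x hx => by
    rw [(h.comm ρ (h0.trans h1.symm) h2 hx).eq, mul_assoc i, map_mul ρ i, ← mul_assoc, h1]
  have k3 : ∀ x ∈ SC F z, (∑ s, ρ (a s) * ψ * ρ (b s)) * ρ (x * i) = ρ (f * x) * ψ := fun x hx => by
    conv_rhs => rw [← h0, ← mul_assoc, ← map_mul, ← h4, Finset.sum_mul, Finset.sum_mul, map_sum, Finset.sum_mul]
    rw [Finset.sum_mul]
    refine Finset.sum_congr rfl fun s _ => ?_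
    rw [mul_assoc, ← map_mul, ← mul_assoc (b s), mul_assoc, k1 _ (mul_mem (h3 s).2 hx), ← mul_assoc, ← map_mul]
    simp only [mul_assoc]
  have k4 : (∑ s, ρ (a s) * ψ * ρ (b s)) * ρ f = ∑ s, ρ (a s) * ψ * ρ (b s) := by
    rw [Finset.sum_mul]
    refine Finset.sum_congr rfl fun s _ => ?_
    rw [mul_assoc, ← map_mul, ← (h.fc (h3 s).2).eq, ← h1, mul_assoc _ _ (ρ (b s)), mul_assoc ψ, mul_assoc, mul_assoc,
      ← map_mul, ← map_mul, ← mul_assoc i, h.if']
  refine ⟨∑ s, ρ (a s) * ψ * ρ (b s), fun x hx => Eq.symm ?_, ?_, by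
    rw [← one_mul i, k3 1 (one_mem _), mul_one, ← h0, ← mul_assoc, ← map_mul, h.fi]⟩
  · conv_lhs => rw [← k4, mul_assoc, ← map_mul, (h.fc hx).eq, ← h4, Finset.mul_sum, map_sum, Finset.mul_sum]
    rw [Finset.mul_sum]
    refine Finset.sum_congr rfl fun s _ => ?_
    rw [← mul_assoc x, map_mul, ← mul_assoc, ← mul_assoc x, k3 _ (mul_mem hx (h3 s).1), (h.fc (mul_mem hx (h3 s).1)).eq,
      map_mul, ← h0, mul_assoc _ (ρ f), ← mul_assoc (ρ f), ← map_mul, h.fi, map_mul]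
    simp only [mul_assoc]
  · rw [Finset.mul_sum]
    refine Finset.sum_congr rfl fun s _ => ?_
    rw [← h0, ← mul_assoc, ← mul_assoc, ← mul_assoc, ← mul_assoc, ← map_mul, ← map_mul, ← map_mul, (h.fc (h3 s).1).eq,
      mul_assoc (a s), h.fi]

end CL

/-- the diagonal action on functions -/
noncomputable def diag {Ω : Type*} [MulAction G Ω] (ρ : G →* Module.End F V) : G →* Module.End F (Ω → V) where
  toFun g := (ρ g).compLeft Ω ∘ₗ LinearMap.funLeft F V (g⁻¹ • ·)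
  map_one' := by ext; simp
  map_mul' a b := by ext; simp [mul_smul]

theorem CL.transfer (h : CL p r z f t i) (ρ : F[G] →ₐ[F] Module.End F V) {P : Subgroup G} [Fintype (G ⧸ P)]
    (T : G ⧸ P → Module.End F V) (hT : ∀ (g : G) q, T (g • q) * repA ρ g = repA ρ g * T q)
    [DecidablePred fun q : G ⧸ P => z • q = q] {v : V} (h1 : ρ f v = v) (h2 : ρ t v = 0) :
    ∃ w, ρ f ((∑ q with ¬ z • q = q, T q) v) = ρ (t ^ (p * r - 1)) w := by
  classical
  have := Fintype.ofFinite (Subgroup.zpowers z)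
  let ρ' := MonoidAlgebra.lift F _ G (diag (Ω := G ⧸ P) (repA ρ))
  have k0 : ∀ g m q, repA ρ' g m q = repA ρ g (m (g⁻¹ • q)) := fun g m q => by simp [ρ', repA_apply, diag]
  have k1 : ∀ g ∈ C1 z, ∀ q : G ⧸ P, z • g • q = g • q ↔ z • q = q := fun g hg q => by
    rw [← mul_smul, (mem_centralizer_singleton.1 hg).eq, mul_smul, smul_left_cancel_iff]
  let π : Module.End F (G ⧸ P → V) := LinearMap.pi fun q => if z • q = q then 0 else LinearMap.proj q
  have k2 : ∀ m q, π m q = if z • q = q then 0 else m q := fun m q => by simp only [π, LinearMap.pi_apply]; split_ifs <;> rfl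
  have k3 : ∀ g ∈ C1 z, ∀ m, π (repA ρ' g m) = repA ρ' g (π m) := fun g hg m => funext fun q => by
    simp only [k0, k2, k1 _ (inv_mem hg)]; split_ifs <;> simp
  let Δ : V →ₗ[F] (G ⧸ P → V) := π ∘ₗ LinearMap.pi fun _ => LinearMap.id
  let S : (G ⧸ P → V) →ₗ[F] V := ∑ q, T q ∘ₗ LinearMap.proj q
  have k4 := fun {a} (ha : a ∈ SC F z) => comm_of_Sup ρ ρ' Δ (fun g hg v => by
    simp only [Δ, LinearMap.comp_apply, ← k3 g hg]; exact congrArg π (funext fun q => by rw [k0]; rfl)) ha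
  have k5 := fun {a} (ha : a ∈ SC F z) => comm_of_Sup ρ' ρ S (fun g _ m => by
    simp only [S, LinearMap.sum_apply, LinearMap.comp_apply, LinearMap.proj_apply, k0, map_sum]
    exact (Fintype.sum_equiv (MulAction.toPerm g) _ _ fun q => by
      simpa using (LinearMap.congr_fun (hT g q) (m q)).symm).symm) ha
  have k6 : ∀ m, π (π m) = π m := fun m => funext fun q => by simp only [k2]; split_ifs <;> rfl
  obtain ⟨w, -, h3⟩ := h.exact ρ' π k6 k3 (fun m e1 e2 => by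
    obtain ⟨w, hw⟩ := orbit_sum (Ω := G ⧸ P) hp.out (by rw [Nat.card_zpowers, h.ord])
      (fun y : Subgroup.zpowers z => (repA ρ' y).toAddMonoidHom) (fun q => Pi.single q (m q)) fun y q => by
        funext q'
        have := congrFun (fixed_zpowers _ e2 y y.2) ((y : G) • q)
        rw [k0, inv_smul_smul] at this
        rw [show y • q = (y : G) • q from Quotient.inductionOn' q fun _ => rfl]
        by_cases e : q' = (y : G) • q
        · simp [e, k0, this]
        · rw [Pi.single_eq_of_ne e, LinearMap.toAddMonoidHom_coe, k0, Pi.single_eq_of_ne fun e' => e (inv_smul_eq_iff.1 e'),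
            map_zero]
    refine ⟨w, ?_⟩
    rw [Finset.univ_sum_single, Finset.sum_eq_zero fun q hq => ?_, zero_add] at hw
    · rw [map_sig, hw]; simp
    · rw [← e1, k2, if_pos (show z • q = q from (Finset.mem_filter.1 hq).2 ⟨z, Subgroup.mem_zpowers z⟩), Pi.single_zero])
    (v := Δ v) (k6 _) (by rw [← k4 h.fS, h1]) (by rw [← k4 h.tS, h2, map_zero])
  refine ⟨ρ f (S w), ?_⟩
  rw [← Module.End.mul_apply (ρ (t ^ _)), ← map_mul, ← ((h.fc h.tS).pow_right _).eq, map_mul, Module.End.mul_apply,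
    ← k5 (pow_mem h.tS _), ← h3]
  simp only [S, Δ, LinearMap.sum_apply, LinearMap.comp_apply, LinearMap.proj_apply, k2, Finset.sum_filter]
  exact congrArg _ (Finset.sum_congr rfl fun q _ => by split_ifs <;> simp)

/-- global data -/
structure CT (p r : ℕ) (z : G) (f t i : F[G]) (P T : Subgroup G) (g : G) (ε : ℕ) (D u : F[G]) : Prop
    extends CL p r z f t i where
  PT : P ≤ T
  out : ∀ x ∉ T, x⁻¹ * z * x ∈ P → f * cj x f = 0
  inn : ∀ x ∈ T, x⁻¹ * z * x ∈ P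
  gen : ∀ x ∈ T, ∃ j : ℕ, (g ^ j)⁻¹ * x ∈ C1 z
  gN : g ∈ NS (C1 z)
  gf : cj g f = f
  ge : ∀ j, g ^ j ∈ C1 z ↔ ε ∣ j
  dvd : ε ∣ p - 1
  DF : D ∈ Fix F P
  tD : Tr P T D = f
  gr : Gr z g u
  iu : i * u = u
  ui : u * i = u
  ue : u ^ ε = i

namespace CT
variable {P T : Subgroup G} {ε : ℕ} {D u : F[G]}

theorem e0 (h : CT p r z f t i P T g ε D u) : (ε : F) ≠ 0 := fun e => by
  have h1 := hp.out.two_le
  have := Nat.le_of_dvd (by omega) (((CharP.cast_eq_zero_iff F p ε).1 e).trans h.dvd)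
  omega

theorem average (h : CT p r z f t i P T g ε D u) (ρ : F[G] →ₐ[F] Module.End F V) {φ : Module.End F V}
    (h1 : ∀ a ∈ SC F z, Commute (ρ a) φ) (h2 : ρ f * φ = φ) : ∃ ψ, (∀ x ∈ T, Commute (repA ρ x) ψ) ∧ ρ f * ψ = ψ ∧
      ψ * ρ i = ∑ j ∈ Finset.range ε, ρ (u ^ j) * φ * ρ (u ^ (ε - j)) := by
  let S : G → Module.End F V := fun x => repA ρ x * φ * repA ρ x⁻¹
  have k1 : ∀ x y, repA ρ x * S y = S (x * y) * repA ρ x := fun x y => by
    simp only [S, map_mul, mul_inv_rev, mul_assoc]; rw [← map_mul _ x⁻¹, inv_mul_cancel, map_one, mul_one]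
  have k2 : ∀ x, ∀ c ∈ C1 z, S (x * c) = S x := fun x c hc => by
    simp only [S, map_mul, mul_inv_rev, mul_assoc]
    rw [← mul_assoc (repA ρ c), repA_apply ρ c, (h1 _ (single_mem_Sup hc 1)).eq, ← repA_apply, mul_assoc, ← mul_assoc
      (repA ρ c), ← map_mul, mul_inv_cancel, map_one, one_mul]
  have k3 : ∀ c ∈ C1 z, Commute (repA ρ c) (∑ j ∈ Finset.range ε, S (g ^ j)) := fun c hc =>
    Commute.sum_right _ _ _ fun j _ => (k1 _ _).trans (by
      rw [show c * g ^ j = g ^ j * ((g ^ j)⁻¹ * c * g ^ j) by group,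
        k2 _ _ ((Subgroup.mem_normalizer_iff''.1 (pow_mem h.gN j) c).1 hc)])
  have k4 : Commute (repA ρ g) (∑ j ∈ Finset.range ε, S (g ^ j)) := by
    show _ * _ = _ * _
    simp only [Finset.mul_sum, k1, ← Finset.sum_mul, ← pow_succ']
    congr 1
    have := Finset.sum_range_succ' (fun j => S (g ^ j)) ε
    rw [Finset.sum_range_succ, ← one_mul (g ^ ε), k2 _ _ ((h.ge ε).2 dvd_rfl), pow_zero] at this
    exact (add_right_cancel this).symm
  refine ⟨∑ j ∈ Finset.range ε, S (g ^ j), fun x hx => ?_, ?_, ?_⟩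
  · obtain ⟨j, hj⟩ := h.gen x hx
    rw [← mul_inv_cancel_left (g ^ j) x, map_mul, map_pow]
    exact (k4.pow_left j).mul_left (k3 _ hj)
  · rw [Finset.mul_sum]
    refine Finset.sum_congr rfl fun j _ => ?_
    have : Commute (ρ f) (repA ρ (g ^ j)) := by
      rw [map_pow]; exact (Commute.map ((cj_eq_iff_commute g f).1 h.gf) ρ).symm.pow_right j
    simp only [S, ← mul_assoc]
    rw [this.eq, mul_assoc _ _ φ, h2]
  · rw [Finset.sum_mul]
    refine Finset.sum_congr rfl fun j hj => ?_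
    obtain ⟨c, h3, h4⟩ := h.gr.pow h.gN j
    rw [← h.ue, ← Nat.add_sub_cancel' (Finset.mem_range.1 hj).le, pow_add, Nat.add_sub_cancel_left, h4, map_mul, map_mul,
      mul_assoc (ρ (single _ 1)) (ρ c) φ, (h1 c h3).eq]
    simp only [S, mul_assoc, ← repA_apply]
    rw [← mul_assoc (repA ρ _⁻¹), ← map_mul, inv_mul_cancel, map_one, one_mul]

theorem transfer (h : CT p r z f t i P T g ε D u) (ρ : F[G] →ₐ[F] Module.End F V)
    (hc : ∀ Φ : Module.End F V, (∀ g, Φ * repA ρ g = repA ρ g * Φ) → ∃ c : F, ∀ v, Φ v = c • v) {ψ : Module.End F V}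
    (h1 : ∀ x ∈ T, Commute (repA ρ x) ψ) (h2 : ρ f * ψ = ψ) :
    ∃ c : F, ∀ v, ρ f v = v → ρ t v = 0 → ∃ w, c • v = ψ v + ρ (t ^ (p * r - 1)) w := by
  classical
  have := Fintype.ofFinite (G ⧸ P)
  let S : G ⧸ P → Module.End F V := fun q => repA ρ q.out * (ψ * ρ D) * repA ρ q.out⁻¹
  have k1 : ∀ x : G, S x = repA ρ x * (ψ * ρ D) * repA ρ x⁻¹ := fun x => by
    obtain ⟨y, hy, e⟩ := exists_out_eq P x
    have : Commute (repA ρ y) (ψ * ρ D) := (h1 y (h.PT hy)).mul_right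
      (Commute.map ((cj_eq_iff_commute y D).1 (mem_Fix.1 h.DF y hy)) ρ)
    simp only [S]
    rw [e, map_mul, mul_assoc (repA ρ x), this.eq, mul_assoc, mul_assoc, ← map_mul, mul_inv_rev, mul_inv_cancel_left,
      mul_assoc (repA ρ x), mul_assoc ψ]
  have k2 : ∀ (x : G) q, S (x • q) * repA ρ x = repA ρ x * S q := fun x q => by
    rw [smul_eq_mk, k1]; simp only [S, map_mul, mul_inv_rev, mul_assoc]
    rw [← map_mul _ x⁻¹, inv_mul_cancel, map_one, mul_one]
  have k3 : ∀ q : G ⧸ P, z • q = q ↔ q.out⁻¹ * z * q.out ∈ P := fun q => by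
    rw [smul_eq_mk, eq_comm, ← q.out_eq', QuotientGroup.eq, q.out_eq', mul_assoc]
  obtain ⟨c, hc⟩ := hc (∑ q, S q) fun x => by
    rw [Finset.mul_sum, Finset.sum_mul]
    exact (Fintype.sum_equiv (MulAction.toPerm x) _ _ fun q => (k2 x q).symm).symm
  refine ⟨c, fun v h3 h4 => ?_⟩
  obtain ⟨w, hw⟩ := h.toCL.transfer ρ S k2 h3 h4
  refine ⟨w, ?_⟩
  rw [← hw, ← h3, ← map_smul, ← hc, ← Finset.sum_filter_add_sum_filter_not Finset.univ fun q : G ⧸ P => z • q = q,
    LinearMap.add_apply, map_add, h3, ← Module.End.mul_apply, Finset.mul_sum,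
    ← Finset.sum_subset (s₁ := cos P T) (fun q hq => by simpa [k3] using h.inn _ (mem_cos.1 hq)) fun q h5 h6 => ?_,
    ← Finset.mul_sum, Finset.sum_congr rfl (g := fun q => ψ * ρ (cj q.out D)) fun q hq => ?_, ← Finset.mul_sum,
    ← map_sum, ← Tr_apply, h.tD, ← mul_assoc, h2, Module.End.mul_apply, h3]
  · simp only [S, cj_eq, map_mul, ← repA_apply, ← mul_assoc, (h1 _ (mem_cos.1 hq)).eq]
  · have := congrArg (fun a => ρ (a * single q.out 1)) (h.out _ (mt mem_cos.2 h6) ((k3 q).1 (Finset.mem_filter.1 h5).2))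
    simp only [cj_eq, mul_assoc, single_inv_mul, mul_one, map_mul, zero_mul, map_zero] at this
    simp only [S]
    rw [← h2, ← mul_assoc, ← mul_assoc, ← mul_assoc, ← mul_assoc, mul_assoc (ρ f), repA_apply, this]; simp

theorem green (h : CT p r z f t i P T g ε D u) (ρ : F[G] →ₐ[F] Module.End F V)
    (hc : ∀ Φ : Module.End F V, (∀ g, Φ * repA ρ g = repA ρ g * Φ) → ∃ c : F, ∀ v, Φ v = c • v) {v v' : V} {ω ω' : F}
    (h1 : ω ^ ε = 1) (h2 : ρ i v = v) (h3 : ρ t v = 0) (h4 : ρ u v = ω • v) (h5 : ∀ w, v ≠ ρ (t ^ (p * r - 1) * i) w)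
    (h1' : ω' ^ ε = 1) (h2' : ρ i v' = v') (h3' : ρ t v' = 0) (h4' : ρ u v' = ω' • v')
    (h5' : ∀ w, v' ≠ ρ (t ^ (p * r - 1) * i) w) : ω = ω' := by
  have k0 : ∀ a b v, ρ a (ρ b v) = ρ (a * b) v := fun a b v => by rw [map_mul]; rfl
  have c0 := h.tc h.iS'
  have k1 : i * (t * i + (1 - i)) = t * i := by rw [mul_add, ← mul_assoc, ← c0.eq, mul_assoc, mul_sub, h.ii]; simp
  have k1' : (t * i + (1 - i)) * i = t * i := by rw [add_mul, mul_assoc, sub_mul, h.ii]; simp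
  have k2 : ∀ n, i * (t * i + (1 - i)) ^ n = t ^ n * i := fun n => by
    induction n with
    | zero => simp
    | succ n ih => rw [pow_succ, ← mul_assoc, ih, mul_assoc, k1, pow_succ, mul_assoc]
  have k3 : ∀ v, ρ i v = v → ρ t v = 0 → ρ (t * i + (1 - i)) v = 0 := fun v e e' => by simp [e, e']
  obtain ⟨l, φ, h6, -, h7, h8⟩ := exists_jordan (ρ (t * i + (1 - i))) (k3 v h2 h3) (n := p * r - 1) fun ⟨w, e⟩ =>
    h5 w (by rw [← h2, ← e, ← map_pow, k0, k2])
  obtain ⟨φ₁, a1, a2, a3⟩ := h.extend ρ (ψ := ρ i * φ * ρ i) (by rw [← mul_assoc, ← mul_assoc, ← map_mul, h.ii])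
    (by rw [mul_assoc, ← map_mul, h.ii]) (by
      show _ * _ = _ * _
      rw [← mul_assoc, ← mul_assoc, ← map_mul, mul_assoc t, h.ii, mul_assoc _ (ρ i), ← map_mul, ← mul_assoc i, ← c0.eq,
        mul_assoc t, h.ii]
      conv_rhs => rw [← k1', map_mul, ← mul_assoc, mul_assoc _ φ, h7, ← mul_assoc, ← map_mul, k1])
  obtain ⟨ψ, b1, b2, b3⟩ := h.average ρ a1 a2
  obtain ⟨c, hc⟩ := h.transfer ρ hc b1 b2
  have k4 : ∀ {v : V} {ω : F}, ρ u v = ω • v → ∀ n, ρ (u ^ n) v = ω ^ n • v := fun {v ω} e n => by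
    induction n with
    | zero => simp
    | succ n ih => rw [pow_succ', ← k0, ih, map_smul, e, smul_smul, pow_succ]
  have k5 : ∀ {y : V} {η : F}, ρ i y = y → ρ t y = 0 → ρ u y = η • y → ∃ w, c • y =
      ((∑ j ∈ Finset.range ε, ω ^ j * η ^ (ε - j)) * l y) • v + ρ (t ^ (p * r - 1) * i) w := fun {y η} e1 e2 e3 => by
    obtain ⟨w, hw⟩ := hc y (by rw [← e1, k0, h.fi]) e2
    have e4 : φ₁ y = l y • v := by
      rw [← e1, ← Module.End.mul_apply, a3, Module.End.mul_apply, Module.End.mul_apply, e1, h8 y (k3 y e1 e2), map_smul, h2]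
    have e5 : ψ y = ((∑ j ∈ Finset.range ε, ω ^ j * η ^ (ε - j)) * l y) • v := by
      rw [← e1, ← Module.End.mul_apply, b3, e1, LinearMap.sum_apply, Finset.sum_mul, Finset.sum_smul]
      refine Finset.sum_congr rfl fun j _ => ?_
      simp only [Module.End.mul_apply, k4 e3, map_smul, e4, k4 h4, smul_smul]; congr 1; ring
    exact ⟨w, by rw [← e1, ← map_smul, hw, map_add, e5, map_smul, h2, k0, (c0.pow_left _).eq, e1]⟩
  obtain ⟨w, hw⟩ := k5 h2 h3 h4
  rw [Finset.sum_congr rfl (g := fun _ => 1) fun j hj => by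
    rw [← pow_add, Nat.add_sub_cancel' (Finset.mem_range.1 hj).le, h1], ← sub_eq_iff_eq_add', ← sub_smul] at hw
  have k6 : ∀ {y w : V} {c : F}, (∀ w, y ≠ ρ (t ^ (p * r - 1) * i) w) → c • y = ρ (t ^ (p * r - 1) * i) w → c = 0 :=
    fun {y w c} e e' => by_contra fun e1 => e (c⁻¹ • w) (by rw [map_smul, ← e', inv_smul_smul₀ e1])
  have k7 := sub_eq_zero.1 (k6 h5 hw)
  obtain ⟨w', hw'⟩ := k5 h2' h3' h4'
  by_contra e
  have k8 : ∑ j ∈ Finset.range ε, ω ^ j * ω' ^ (ε - j) = 0 := by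
    refine mul_right_cancel₀ (sub_ne_zero.2 e) ?_
    rw [Finset.sum_congr rfl (g := fun j => ω' * (ω ^ j * ω' ^ (ε - 1 - j))) fun j hj => by
      have := Finset.mem_range.1 hj
      rw [mul_left_comm, ← pow_succ', show ε - 1 - j + 1 = ε - j by omega], ← Finset.mul_sum, mul_assoc, geom_sum₂_mul,
      h1, h1']; simp
  rw [k8, zero_mul, zero_smul, zero_add] at hw'
  simpa [k6 h5' hw', h.e0, h6] using k7

end CT

theorem CL.ker (h : CL p r z f t i) (ρ : F[G] →ₐ[F] Module.End F V) (hx : t * a = b * t) {v : V}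
    (hv : ρ (t * i + (1 - i)) v = 0) : ρ t (ρ a v) = 0 := by
  have e1 : (1 - i) * (t * i + (1 - i)) = 1 - i := by
    simp [mul_add, (h.tc h.iS).eq, ← mul_assoc, sub_mul, mul_sub, h.ii]
  have e2 : ρ i v = v := by
    have := congrArg (ρ (1 - i)) hv
    rw [← Module.End.mul_apply, ← map_mul, e1, map_zero, map_sub, map_one, LinearMap.sub_apply, sub_eq_zero] at this
    exact this.symm
  have e3 : ρ t v = 0 := by simpa [e2] using hv
  rw [← Module.End.mul_apply, ← map_mul, hx, map_mul, Module.End.mul_apply, e3, map_zero]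

theorem devissage' {A ι : Type*} [Ring A] [Algebra F A] {W : ι → Type*} [∀ i, AddCommGroup (W i)] [∀ i, Module F (W i)]
    (ρ : ∀ i, A →ₐ[F] Module.End F (W i)) (h1 : ∀ f : ∀ i, Module.End F (W i), ∃ a, ∀ i, ρ i a = f i)
    (h2 : ∀ a, (∀ i, ρ i a = 0) → IsNilpotent a) {E E' y S : A} (hE : E * E = E) (hS : E * S = S * E') (hy : y * S = 0)
    (hyE : ∀ m, y * m = 0 → y * (E * m) = 0) (h : ∀ i v, ρ i y v = 0 → ∃ w, ρ i E v = ρ i S w) :
    ∃ a, E * S = S * a * S := by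
  choose Z hZ using fun i => exists_ginv (ρ i y)
  choose S' hS' using fun i => exists_ginv (ρ i S)
  obtain ⟨z, hz⟩ := h1 Z
  obtain ⟨b, hb⟩ := h1 fun i => S' i * (ρ i E * (1 - Z i * ρ i y))
  obtain ⟨n, hn⟩ := h2 (E * (1 - z * y) - S * b) fun i => by
    simp only [map_sub, map_mul, map_one, hz, hb]
    refine sub_eq_zero.2 (LinearMap.ext fun v => ?_)
    obtain ⟨w, hw⟩ := h i ((1 - Z i * ρ i y) v) (by
      rw [← Module.End.mul_apply, mul_sub, ← mul_assoc, hZ, mul_one, sub_self]; rfl)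
    simp only [Module.End.mul_apply] at hw ⊢
    rw [hw]; exact (LinearMap.congr_fun (hS' i) w).symm
  set j := E * (1 - z * y) - S * b with hj
  have key : ∀ n, y * (j ^ n * S) = 0 ∧ ∃ a, E * S = E * (j ^ n * S) + S * a * S := fun n => by
    induction n with
    | zero => exact ⟨by simpa using hy, 0, by simp⟩
    | succ n ih =>
      obtain ⟨e1, a, e2⟩ := ih
      have e3 : j ^ (n + 1) * S = E * (j ^ n * S) - S * (b * j ^ n * S) := by
        rw [pow_succ', mul_assoc]; nth_rw 1 [hj]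
        rw [sub_mul, mul_assoc, sub_mul, mul_assoc z, e1, mul_zero, sub_zero, one_mul, mul_assoc, mul_assoc]
      refine ⟨by rw [e3, mul_sub, hyE _ e1, ← mul_assoc, hy, zero_mul, sub_zero], E' * (b * j ^ n) + a, ?_⟩
      have e4 : E * (S * (b * j ^ n * S)) = S * (E' * (b * j ^ n)) * S := by rw [← mul_assoc, hS]; noncomm_ring
      rw [e3, mul_sub, ← mul_assoc E E, hE, e4, e2]; noncomm_ring
  obtain ⟨-, a, ha⟩ := key n
  exact ⟨a, by rw [ha, hn, zero_mul, mul_zero, zero_add]⟩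

theorem eq_Br_add {P : Subgroup G} [Fintype P] (hP : Nat.card P = p) (ha : a ∈ Fix F P) :
    ∃ w, a = Br P a + ∑ y : P, cj (y : G) w := by
  classical
  have := Fintype.ofFinite G
  letI : MulAction P G := MulAction.compHom G (MulAut.conj.comp P.subtype)
  obtain ⟨w, hw⟩ := orbit_sum (Ω := G) hp.out hP (fun y => (cj (R := F) (y : G)).toAddEquiv.toAddMonoidHom)
    (fun g => a.coeff g • single g (1 : F)) fun y g => by
      show a.coeff (y * g * (y : G)⁻¹) • single (y * g * (y : G)⁻¹) 1 = cj (y : G) (a.coeff g • single g 1)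
      rw [mem_Fix_coeff.1 ha y y.2, map_smul, cj_single]
  refine ⟨w, ?_⟩
  rw [← eq_sum_single, Finset.sum_filter] at hw
  refine hw.trans (congrArg₂ _ ?_ rfl)
  conv_rhs => rw [eq_sum_single (Br P a)]
  refine Finset.sum_congr rfl fun g _ => ?_
  rw [coeff_trunc, ite_smul, zero_smul]
  exact if_congr ⟨fun h z hz => mul_inv_eq_iff_eq_mul.1 (h ⟨z, hz⟩), fun h z => mul_inv_eq_iff_eq_mul.2 (h z z.2)⟩ rfl rfl

namespace CT
variable {P T : Subgroup G} {ε : ℕ} {D u : F[G]}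

theorem exists_vec (h : CT p r z f t i P T g ε D u) {κ : Type*} {W : κ → Type*} [∀ i, AddCommGroup (W i)]
    [∀ i, Module F (W i)] [∀ i, FiniteDimensional F (W i)] (ρ : ∀ i, F[G] →ₐ[F] Module.End F (W i))
    (a1 : ∀ f : ∀ i, Module.End F (W i), ∃ a, ∀ i, ρ i a = f i) (a2 : ∀ a, (∀ i, ρ i a = 0) → IsNilpotent a)
    {e : F[G]} (he : e ∈ Z F G) (hee : e * e = e) (hb : Br (Subgroup.zpowers z) e * f = f) {ω : F} (hω : ω ^ ε = 1) :
    ∃ j v, ρ j e = 1 ∧ ρ j i v = v ∧ ρ j t v = 0 ∧ ρ j u v = ω • v ∧ ∀ w, v ≠ ρ j (t ^ (p * r - 1) * i) w := by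
  classical
  by_contra! hc
  have := Fintype.ofFinite (Subgroup.zpowers z)
  have hε : ε ≠ 0 := fun e => h.e0 (by simp [e])
  have hω0 : ω ≠ 0 := fun e => by simp [e, hε] at hω
  have c0 := h.tc h.iS'
  obtain ⟨n, hn⟩ : ∃ n, p * r = n + 2 := Nat.exists_eq_add_of_le' (hp.out.two_le.trans
    (Nat.le_mul_of_pos_right p (Nat.pos_of_ne_zero h.r0)))
  have hq := h.tq
  have hne := h.ne
  rw [hn] at hq hne hc
  set S := t ^ (n + 2 - 1) * i with hS
  set E := (ε : F)⁻¹ • ∑ j ∈ Finset.range ε, (ω⁻¹ • u) ^ j * i with hE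
  have k1 : u * E = ω • E := by
    have := Finset.sum_range_succ' (fun j => (ω⁻¹ • u) ^ j * i) ε
    rw [Finset.sum_range_succ, _root_.smul_pow, h.ue, inv_pow, hω, inv_one, one_smul, h.ii, pow_zero, one_mul] at this
    rw [hE, mul_smul_comm, smul_comm ω]
    conv_rhs => rw [add_right_cancel this]
    simp only [Finset.mul_sum, Finset.smul_sum, pow_succ', smul_mul_assoc, smul_inv_smul₀ hω0, mul_assoc]
  have k2 : i * E = E := by
    rw [hE, mul_smul_comm, Finset.mul_sum]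
    refine congrArg _ (Finset.sum_congr rfl fun j _ => ?_)
    cases j
    exacts [by simpa using h.ii, by simp only [pow_succ', ← mul_assoc, mul_smul_comm, h.iu]]
  have k3 : E * E = E := by
    have : ∀ j, (ω⁻¹ • u) ^ j * E = E := fun j => by
      induction j with
      | zero => simp
      | succ j ih => rw [pow_succ, mul_assoc, smul_mul_assoc, k1, inv_smul_smul₀ hω0, ih]
    conv_lhs => enter [1]; rw [hE]
    simp [Finset.sum_mul, mul_assoc, k2, this, ← Nat.cast_smul_eq_nsmul F, h.e0]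
  obtain ⟨c, c1, c2⟩ := h.gr
  have k4 : ∃ x, t * E = x * t := by
    obtain ⟨d, d1, d2⟩ := h.conj_t (inv_mem h.gN) (by rw [← h.gf, cj_inv_cj, h.gf])
    have e1 : t * u = single g 1 * d * c * t := by
      rw [mul_assoc, ← (h.tc c1).eq, mul_assoc, ← mul_assoc d, ← (h.tc d1).eq, ← d2, cj_eq, c2]
      simp [← mul_assoc, single_mul_single_one, ← one_def]
    have : ∀ j, ∃ x, t * u ^ j = x * t := fun j => by
      induction j with
      | zero => exact ⟨1, by simp⟩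
      | succ j ih => exact let ⟨x, hx⟩ := ih; ⟨_, by rw [pow_succ, ← mul_assoc, hx, mul_assoc, e1, ← mul_assoc]⟩
    choose x hx using this
    refine ⟨(ε : F)⁻¹ • ∑ j ∈ Finset.range ε, ω⁻¹ ^ j • (x j * i), ?_⟩
    simp only [hE, mul_smul_comm, smul_mul_assoc, Finset.mul_sum, Finset.sum_mul, _root_.smul_pow, ← mul_assoc, hx]
    simp only [mul_assoc, c0.eq]
  have k5 : i * S = S := by rw [hS, ← mul_assoc, ← (c0.pow_left _).eq, mul_assoc, h.ii]
  have k6 : ∃ x, E * S = S * x := by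
    obtain ⟨d, d1, d2⟩ := h.conj_t h.gN h.gf
    have e1 : u * S = S * (d ^ (n + 2 - 1) * u) := by
      rw [hS, ← h.iu, mul_assoc i, ← mul_assoc u, c2, mul_assoc _ c, ← ((h.tc c1).pow_left _).eq, ← mul_assoc _ _ c,
        show single g 1 * t ^ (n + 2 - 1) = cj g t ^ (n + 2 - 1) * single g 1 by
          rw [← map_pow, cj_eq, mul_assoc, single_inv_mul, mul_one], d2, (h.tc d1).mul_pow, (c0.pow_left _).eq,
        ← c2, h.iu, mul_assoc _ _ c, ← c2, mul_assoc, h.ui]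
      simp only [mul_assoc]
    have : ∀ j, ∃ x, u ^ j * S = S * x := fun j => by
      induction j with
      | zero => exact ⟨1, by simp⟩
      | succ j ih => exact let ⟨x, hx⟩ := ih; ⟨_, by rw [pow_succ', mul_assoc, hx, ← mul_assoc, e1, mul_assoc]⟩
    choose x hx using this
    exact ⟨(ε : F)⁻¹ • ∑ j ∈ Finset.range ε, ω⁻¹ ^ j • x j, by simp only [hE, mul_smul_comm, smul_mul_assoc,
      Finset.mul_sum, Finset.sum_mul, _root_.smul_pow, mul_assoc, k5, hx]⟩
  obtain ⟨x, hx⟩ := k4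
  obtain ⟨x', hx'⟩ := k6
  have k7 : t * S = 0 := by rw [hS, ← mul_assoc, ← pow_succ', show n + 2 - 1 + 1 = n + 2 from rfl, hq, zero_mul]
  obtain ⟨a, ha⟩ := devissage' ρ a1 a2 (E := e * E) (E' := e * x') (y := t * i + (1 - i)) (S := S)
    (by rw [mul_assoc, ← mul_assoc E, ← Z_comm he E, mul_assoc, k3, ← mul_assoc, hee])
    (by rw [mul_assoc, hx', ← mul_assoc, Z_comm he S, mul_assoc]) (by rw [add_mul, mul_assoc, sub_mul, k5, k7]; simp)
    (fun m hm => by
      have : t * (E * m) = 0 := h.ker (Algebra.lmul F F[G]) hx hm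
      rw [mul_assoc, ← mul_assoc, ← Z_comm he, mul_assoc, add_mul, mul_assoc, sub_mul, ← mul_assoc i, k2, this]; simp)
    fun j v hv => by
      obtain ⟨l, hl⟩ := scalar_of_surj (ρ j) (fun f => let ⟨a, ha⟩ := a1 (Pi.single j f); ⟨a, by
        rw [ha, Pi.single_eq_same]⟩) (ρ j e) fun g => by rw [repA_apply, ← map_mul, Z_comm he, map_mul]
      by_cases e1 : l = 0
      · exact ⟨0, by simp [hl, e1]⟩
      have e2 : ρ j e = 1 := LinearMap.ext fun v => smul_right_injective _ e1 (by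
        show l • ρ j e v = l • v
        rw [← hl, ← hl, ← Module.End.mul_apply, ← map_mul, hee])
      obtain ⟨w, hw⟩ := hc j (ρ j E v) e2 (by rw [← Module.End.mul_apply, ← map_mul, k2]) (h.ker _ hx hv)
        (by rw [← Module.End.mul_apply, ← map_mul, k1, map_smul, LinearMap.smul_apply])
      exact ⟨w, by rw [map_mul, e2, one_mul, hw]⟩
  have s1 : S ∈ SC F z := mul_mem (pow_mem h.tS _) h.iS'
  have s2 : ∀ m, i * m = m → t * m = 0 → ∀ y : Subgroup.zpowers z, single (y : G) 1 * m = m := fun m e1 e2 y =>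
    fixed_zpowers (repA (Algebra.lmul F F[G])) (sub_eq_zero.1 (show single z 1 * m - m = 0 by
      obtain ⟨s, hs⟩ := Nat.exists_eq_succ_of_ne_zero h.r0
      rw [← sub_one_mul, ← e1, ← h.fi, ← mul_assoc, ← mul_assoc, ← h.tr, mul_assoc, e1, hs, pow_succ, mul_assoc, e2,
        mul_zero])) y y.2
  have s3 : Nat.card (Subgroup.zpowers z) = p := by rw [Nat.card_zpowers, h.ord]
  obtain ⟨w, hw⟩ := eq_Br_add s3 (Z_le_Fix _ he)
  have s4 := s2 (E * S) (by rw [← mul_assoc, k2]) (by rw [← mul_assoc, hx, mul_assoc, k7, mul_zero])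
  have s6 : Br (Subgroup.zpowers z) e * E = E := by rw [← k2, ← h.fi, ← mul_assoc, ← mul_assoc, hb]
  rw [hw, mul_assoc, add_mul, ← mul_assoc _ E S, s6, Finset.sum_mul,
    Finset.sum_congr rfl (g := fun y : Subgroup.zpowers z => single (y : G) 1 * (w * E) * S) fun y _ => by
      rw [cj_eq, mul_assoc, mul_assoc, mul_assoc, ← Subgroup.coe_inv, s4, mul_assoc]] at ha
  have s5 := congrArg (trunc (C1 z : Set G)) ha
  rw [map_add, map_sum, trunc_mul_right s1, trunc_mul_right s1, trunc_mul_left s1, Finset.sum_congr rfl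
    (g := fun _ => trunc (C1 z : Set G) (w * E) * S) fun y _ => by
      have := zpowers_le_C1 z y.2
      rw [trunc_mul_right s1, trunc_mul_left (single_mem_Sup this 1), commute_of_Fix_Sup (single_mem_Fix
        (Subgroup.le_centralizer_iff.1 (H4.centralizer_zpowers z).ge y.2) 1) (trunc_mem_Sup _ _), mul_assoc,
        s2 S k5 k7], Finset.sum_const, Finset.card_univ, ← Nat.card_eq_fintype_card, s3, nsmul_char', add_zero, hE,
    map_smul, map_sum, Finset.sum_eq_single 0 (fun j hj j0 => by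
      rw [trunc_mul_right h.iS, _root_.smul_pow, map_smul, (h.gr.pow h.gN j).trunc fun e =>
        j0 (Nat.eq_zero_of_dvd_of_lt ((h.ge j).1 e) (Finset.mem_range.1 hj))]; simp) (by simp [hε]), pow_zero, one_mul,
    trunc_of_mem_Sup h.iS, smul_mul_assoc, k5] at s5
  refine hne ((smul_eq_zero.1 (s5.trans ?_)).resolve_left (inv_ne_zero h.e0))
  rw [hS, ← mul_assoc, mul_assoc _ i, mul_assoc _ _ (t ^ _), ← ((h.tc (mul_mem h.iS' (trunc_mem_Sup _ _))).pow_left _).eq,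
    ← mul_assoc, ← pow_add, pow_eq_zero_of_le (by omega) hq, zero_mul, zero_mul]

theorem exists_sigma [IsAlgClosed F] (h : CT p r z f t i P T g ε D u) {κ : Type*} {W : κ → Type*}
    [∀ i, AddCommGroup (W i)] [∀ i, Module F (W i)] [∀ i, FiniteDimensional F (W i)]
    (ρ : ∀ i, F[G] →ₐ[F] Module.End F (W i)) (a1 : ∀ f : ∀ i, Module.End F (W i), ∃ a, ∀ i, ρ i a = f i)
    (a2 : ∀ a, (∀ i, ρ i a = 0) → IsNilpotent a) {e : F[G]} (he : e ∈ Z F G) (hee : e * e = e)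
    (hb : Br (Subgroup.zpowers z) e * f = f) : ∃ σ : Fin ε → κ, σ.Injective ∧ ∀ j, ρ (σ j) e = 1 := by
  classical
  have : NeZero (ε : F) := ⟨h.e0⟩
  obtain ⟨ζ, hζ⟩ := HasEnoughRootsOfUnity.exists_primitiveRoot F ε
  have k : ∀ j : Fin ε, (ζ ^ j.1) ^ ε = 1 := fun j => by rw [← pow_mul, mul_comm, pow_mul, hζ.pow_eq_one, one_pow]
  choose σ v h1 h2 using fun j => h.exists_vec ρ a1 a2 he hee hb (k j)
  refine ⟨σ, fun a b e => Fin.ext (hζ.pow_inj a.2 b.2 ?_), h1⟩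
  have : ∀ l (y : W l), l = σ a → ρ l i y = y ∧ ρ l t y = 0 ∧ ρ l u y = ζ ^ b.1 • y ∧
      (∀ w, y ≠ ρ l (t ^ (p * r - 1) * i) w) → ζ ^ a.1 = ζ ^ b.1 := by
    rintro _ y rfl ⟨b1, b2, b3, b4⟩
    exact h.green _ (scalar_of_surj _ fun f => let ⟨x, hx⟩ := a1 (Pi.single _ f); ⟨x, by rw [hx, Pi.single_eq_same]⟩)
      (k a) (h2 a).1 (h2 a).2.1 (h2 a).2.2.1 (h2 a).2.2.2 (k b) b1 b2 b3 b4
  exact this _ _ e.symm (h2 b)

end CT

end H4
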