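import Cfsg.Agent.H4.Maj2

/-!
# Kernels of blocks along Brauer pairs
`fI_mul_single_iff`, `ker_of_sig`, `IsBI.mul_single_of_sig`, `SLE.ker_down`, `SLE.ker_up`, `ker_pair`.
-/

set_option autoImplicit false
set_option linter.unusedSectionVars false

namespace H4
open MonoidAlgebra Cfsg H1
open scoped Pointwise ComplexConjugate

variable {G : Type*} [Group G] [Finite G] {M : Ideal AlgInt} {p : ℕ} [hp : Fact p.Prime]
  {B : Set (IrrCharacter G)} {χ ψ : IrrCharacter G} {H L P Q R D : Subgroup G} {e f g z : (k M)[G]} {x : G}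

theorem blockCoeff_mul_ker (h : ∀ χ ∈ B, χ.1 x = χ.1 1) (g : G) : blockCoeff B (g * x⁻¹) = blockCoeff B g := by
  rw [blockCoeff_eq, blockCoeff_eq]
  refine congrArg _ (Finset.sum_congr rfl fun χ hχ => ?_)
  rw [H3.char_mul_ker (H3.irr_char χ.2) (by rw [irr_inv, h χ (mem_fs.1 hχ), ← irr_inv, inv_one])]

theorem fI_mul_single_iff : fI B * single x 1 = fI B ↔ ∀ χ ∈ B, χ.1 x = χ.1 1 := by
  refine ⟨fun h χ hχ => ?_, fun h => ext_coeff fun g => by simp [blockCoeff_mul_ker h]⟩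
  have := congrArg (ev χ.1) h
  rwa [ev_fI_mul_of_mem hχ, ← mul_one (fI B), ev_fI_mul_of_mem hχ, ev_single, ev_one, one_mul] at this

theorem eB_mul_single (h : ∀ χ ∈ B, χ.1 x = χ.1 1) : eB M B * single x 1 = eB M B :=
  ext_coeff fun g => by simp [blockCoeff_mul_ker h]

theorem aE_mul_single {b : Set (IrrCharacter H)} {x : H} (h : ∀ χ ∈ b, χ.1 x = χ.1 1) :
    aE M H b * single (x : G) 1 = aE M H b := by
  have := congrArg (incA H) (eB_mul_single (M := M) h)
  rwa [map_mul, mapA_single] at this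

theorem mul_sig_of {R : Type*} [CommRing R] {f : R[G]} (h : ∀ x ∈ L, f * single x 1 = f) :
    f * sig R L = (Nat.card L : R) • f := by
  have := Fintype.ofFinite L
  simp [sig_eq_sum, Finset.mul_sum, fun u : L => h u u.2, Nat.cast_smul_eq_nsmul]

theorem incA_sig {R : Type*} [CommRing R] (h : L ≤ H) : incA H (sig R (L.subgroupOf H)) = sig R L := by
  classical
  rw [← incA_resA_of_Sup (Sup_mono h (sig_mem_Sup L))]
  exact congrArg _ (ext_coeff fun g => by simp [coeff_sig, Subgroup.mem_subgroupOf])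

theorem trunc_sig {R : Type*} [CommRing R] (H L : Subgroup G) : trunc (H : Set G) (sig R L) = sig R (L ⊓ H) := by
  classical
  refine ext_coeff fun g => ?_
  by_cases h : g ∈ H
  · simp [coeff_trunc_of_mem _ h, coeff_sig, h]
  · simp [coeff_trunc_of_notMem _ h, coeff_sig, h]

theorem ker_of_sig_top (hM : IsPModular p M) (hB : IsPBlock M B) [L.Normal] (hL : ¬ p ∣ Nat.card L)
    (h : eB M B * sig (k M) L ≠ 0) (hχ : χ ∈ B) : ∀ x ∈ L, χ.1 x = χ.1 1 := by
  have h1 : fI B * fI {χ | ∀ g ∈ L, χ.1 g = χ.1 1} ≠ 0 := fun e => h (by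
    rw [fI_ker (N := L) (B := {χ | ∀ g ∈ L, χ.1 g = χ.1 1}) fun _ => Iff.rfl, mul_smul_comm, smul_eq_zero] at e
    rw [← redA_fI, ← redA_sig, ← redA_mul (fI_mem_IntA hM hB) (sig_mem_IntA L),
      e.resolve_left (inv_ne_zero (H3.card_ne_zero' L)), redA_zero])
  rw [fI_mul_fI] at h1
  obtain ⟨ψ, h2, h3⟩ := Set.nonempty_iff_ne_empty.2 fun e => h1 ((congrArg fI e).trans fI_empty)
  exact ker_of_mem hM hL hB h2 hχ h3

theorem ker_of_sig (hM : IsPModular p M) {b : Set (IrrCharacter H)} (hb : IsPBlock M b) (h1 : L ≤ H) (h2 : H ≤ NS L)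
    (hL : ¬ p ∣ Nat.card L) (h : aE M H b * sig (k M) L ≠ 0) {θ : IrrCharacter H} (hθ : θ ∈ b) {x : H}
    (hx : (x : G) ∈ L) : θ.1 x = θ.1 1 := by
  have := Subgroup.normal_subgroupOf_of_le_normalizer h2
  refine ker_of_sig_top hM hb (L := L.subgroupOf H) (by rwa [card_subgroupOf h1]) (fun e => h ?_) hθ x hx
  rw [← incA_sig h1, ← map_mul, e, map_zero]

theorem IsBI.mul_single_of_sig (hM : IsPModular p M) (hf : IsBI H f) (h1 : L ≤ H) (h2 : H ≤ NS L)
    (hL : ¬ p ∣ Nat.card L) (h : f * sig (k M) L ≠ 0) : ∀ x ∈ L, f * single x 1 = f := by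
  obtain ⟨b, hb, rfl⟩ := hf.exists_block hM
  exact fun x hx => aE_mul_single (x := ⟨x, h1 hx⟩) fun θ hθ => ker_of_sig hM hb h1 h2 hL h hθ hx

theorem mul_sig_ne_zero (hM : IsPModular p M) (hR : IsPGroup p R) (hf : f ∈ Fix (k M) R) (h1 : R ≤ NS L)
    (hL : ¬ p ∣ Nat.card L) (hg : IsBI (CS R) g) (h2 : Br R f * g = g) (h3 : ∀ x ∈ L ⊓ CS R, g * single x 1 = g) :
    f * sig (k M) L ≠ 0 := fun h => by
  have := charP_k hM
  have h4 := congrArg (fun a => Br R a * g) h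
  simp only [Br_mul hR hf (Fix_anti h1 (sig_mem_Fix L)), map_zero, zero_mul, trunc_sig] at h4
  rw [mul_assoc, ← ZA_comm_Sup hg.mem (Sup_mono (SetLike.coe_subset_coe.2 inf_le_right) (sig_mem_Sup _)), mul_sig_of h3, mul_smul_comm, h2,
    smul_eq_zero, natCast_eq_zero_iff hM] at h4
  exact h4.elim (fun e => hL (e.trans (Subgroup.card_dvd_of_le inf_le_left))) hg.ne

theorem mul_single_of_Br (hg : g ∈ ZA (k M) (CS R)) (h : Br R f * g = g) (hx : x ∈ CS R)
    (h1 : f * single x 1 = f) : g * single x 1 = g := by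
  have h2 := single_mem_Sup (R := k M) (S := (CS R : Set G)) hx 1
  conv_lhs => rw [← h, mul_assoc, ZA_comm_Sup hg h2, ← mul_assoc, ← trunc_mul_right h2, h1, h]

theorem SLE.ker_up (h : SLE p Q f P e) {T : G → Prop} (h1 : ∀ x ∈ CS Q, T x → f * single x 1 = f) :
    ∀ x ∈ CS P, T x → e * single x 1 = e := by
  revert h1
  refine h.ind (motive := fun Q f => (∀ x ∈ CS Q, T x → f * single x 1 = f) → _) id fun Q f S g h2 _ ih h1 => ?_
  exact ih fun x hx hx' => mul_single_of_Br h2.be.mem h2.mul hx (h1 x (CS_anti h2.le hx) hx')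

variable {σ : Set ℕ}

theorem piCoreOf_le (σ : Set ℕ) (H : Subgroup G) : piCoreOf σ H ≤ H := Subgroup.map_subtype_le _

theorem NS_le_NS_piCoreOf (σ : Set ℕ) (H : Subgroup G) : NS H ≤ NS (piCoreOf σ H) := map_char_le_normalizer H _

theorem piCoreOf_isPiNum (σ : Set ℕ) (H : Subgroup G) : IsPiNum σ (Nat.card (piCoreOf σ H)) := by
  rw [piCoreOf, Subgroup.card_map_of_injective H.subtype_injective]; exact piCore_isPiNum

theorem inf_le_piCoreOf {K : Subgroup G} (h : K ≤ NS L) (hL : IsPiNum σ (Nat.card L)) : L ⊓ K ≤ piCoreOf σ K :=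
  le_map_subtype_piCore inf_le_right (le_normalizer_inf h Subgroup.le_normalizer)
    (hL.of_dvd (Subgroup.card_dvd_of_le inf_le_left))

theorem mem_piCoreOf {x : H} : (x : G) ∈ piCoreOf σ H ↔ x ∈ piCore σ H :=
  Subgroup.mem_map_iff_mem H.subtype_injective

theorem SLE.ker_down (hM : IsPModular p M) (hσ : p ∉ σ) (h : SLE p Q f P e)
    (h1 : ∀ x ∈ piCoreOf σ (CS P), e * single x 1 = e) : ∀ x ∈ piCoreOf σ (CS Q), f * single x 1 = f := by
  refine h.ind (motive := fun Q f => ∀ x ∈ piCoreOf σ (CS Q), f * single x 1 = f) h1 fun Q f S g h2 _ ih => ?_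
  have h3 : ¬ p ∣ Nat.card (piCoreOf σ (CS Q)) := fun e => hσ (piCoreOf_isPiNum σ _ p hp.out e)
  have h4 := Subgroup.le_normalizer.trans (NS_le_NS_piCoreOf σ (CS Q))
  exact h2.bf.mul_single_of_sig hM (piCoreOf_le σ _) h4 h3 (mul_sig_ne_zero hM h2.isP h2.fix
    (h2.nm.trans ((NS_le_NS_CS Q).trans (NS_le_NS_piCoreOf σ _))) h3 h2.be h2.mul
    fun x hx => ih x (inf_le_piCoreOf ((CS_anti h2.le).trans h4) (piCoreOf_isPiNum σ _) hx))

theorem cj_mul_single {R : Type*} [CommRing R] {f : R[G]} (y : G) (h : cj y f * single (y * x * y⁻¹) 1 = cj y f) :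
    f * single x 1 = f := (cj y).injective (by rwa [map_mul, cj_single])

theorem piCoreOf_conj (σ : Set ℕ) (H : Subgroup G) (y : G) :
    MulAut.conj y • piCoreOf σ H ≤ piCoreOf σ (MulAut.conj y • H) :=
  le_map_subtype_piCore (conj_smul_mono y (piCoreOf_le σ H)) (by
    rw [normalizer_conj_smul]; exact conj_smul_mono y (Subgroup.le_normalizer.trans (NS_le_NS_piCoreOf σ H)))
    (by rw [card_conj_smul]; exact piCoreOf_isPiNum σ H)

theorem aE_eq_Br (hM : IsPModular p M) (hD : IsDefectGroup p M B D) {b : Set (IrrCharacter (NS D))}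
    (hb : IsInducedBlock M (NS D) b B) : aE M (NS D) b = Br D (eB M B) := by
  have h1 := (first_main_top hM (isBI_eB hM hb.2.1) ((dg_iff_ADG_top hM hb.2.1).1 hD)).1
  have h2 := (ind_iff_mul hM (dg_isPGroup hD) Subgroup.le_normalizer (CS_le_NS D) le_rfl hb.1 hb.2.1).1 hb
  exact (h1.eq_of_mul (isBI_aE hM hb.1) (h2.symm ▸ (isBI_aE hM hb.1).ne)).symm

/-- if `O_σ(N(D))` is in the kernel of the Brauer correspondent then `O_σ(C(Q))` is in the kernel of `f` for every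
`B`-pair `(Q, f)` -/
theorem ker_pair (hM : IsPModular p M) (hσ : p ∉ σ) (hD : IsDefectGroup p M B D) {b : Set (IrrCharacter (NS D))}
    (hb : IsInducedBlock M (NS D) b B) (h : ∀ n ∈ piCore σ (NS D), n ∈ blockKer b) (hQ : IsPGroup p Q)
    (hf : IsBI (CS Q) f) (h1 : Br Q (eB M B) * f = f) : ∀ x ∈ piCoreOf σ (CS Q), f * single x 1 = f := by
  have hz := isBI_eB hM hb.2.1
  have hD' := (dg_iff_ADG_top hM hb.2.1).1 hD
  obtain ⟨e, he, h2⟩ := exists_pair hM hD'.isP (Z_le_Fix _ hz.mem_Z) (Z_le_Fix _ hz.mem_Z) hz.idem hD'.ne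
  obtain ⟨y, h3⟩ := (MaxP.mk hz hD' he h2).exists_conj hM hQ hf h1
  refine fun x hx => cj_mul_single y (h3.ker_down hM hσ (fun w hw => ?_) _ ?_)
  · have h4 : piCoreOf σ (CS D) ≤ piCoreOf σ (NS D) :=
      le_map_subtype_piCore ((piCoreOf_le σ _).trans (CS_le_NS D)) ((NS_le_NS_CS D).trans (NS_le_NS_piCoreOf σ _))
        (piCoreOf_isPiNum σ _)
    obtain ⟨n, hn, rfl⟩ := h4 hw
    have h5 := aE_mul_single (M := M) (h n hn)
    rw [aE_eq_Br hM hD hb] at h5
    have h6 := single_mem_Sup (R := k M) (S := (CS D : Set G)) (piCoreOf_le σ _ hw) 1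
    conv_lhs => rw [← h2, mul_assoc, ZA_comm_Sup he.mem h6, ← mul_assoc]
    exact (congrArg (· * e) h5).trans h2
  · rw [CS_conj]; exact piCoreOf_conj σ _ y (conj_mem_conj_smul hx)

theorem ker_of_mul_single (hM : IsPModular p M) {b : Set (IrrCharacter H)} (hb : IsPBlock M b) (h1 : L ≤ H)
    (h2 : H ≤ NS L) (hL : ¬ p ∣ Nat.card L) (h0 : f ≠ 0) (h : aE M H b * f = f) (hf : f ∈ Fix (k M) L)
    (h3 : ∀ x ∈ L, f * single x 1 = f) {θ : IrrCharacter H} (hθ : θ ∈ b) {x : H}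
    (hx : (x : G) ∈ L) : θ.1 x = θ.1 1 := by
  refine ker_of_sig hM hb h1 h2 hL (fun e => ?_) hθ hx
  have h4 := congrArg (· * f) e
  simp only [zero_mul] at h4
  rw [mul_assoc, ← commute_of_Fix_Sup hf (sig_mem_Sup L), mul_sig_of h3, mul_smul_comm, h, smul_eq_zero,
    natCast_eq_zero_iff hM] at h4
  exact h4.elim hL h0

end H4
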