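import Cfsg.Agent.H4.Prin
import Cfsg.Agent.H4.Ker

/-!
# The Alperin-Dade theorem on principal blocks
-/

set_option autoImplicit false
set_option linter.unusedSectionVars false

namespace H4
open MonoidAlgebra Cfsg H1
open scoped Pointwise ComplexConjugate

variable {G : Type*} [Group G] [Finite G] {M : Ideal AlgInt} {p : ℕ} [hp : Fact p.Prime]
  {χ ψ : IrrCharacter G} {N H : Subgroup G}

theorem exists_Br_e0 (hM : IsPModular p M) (P : Sylow p G) : ∃ K ≤ CS (P : Subgroup G), ¬ p ∣ Nat.card K ∧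
    (∀ c ∈ CS (P : Subgroup G), ∃ x ∈ K, ∃ u ∈ P, x * u = c) ∧
    Br P (eB M (principalBlock M G)) = (Nat.card K : k M)⁻¹ • sig (k M) K := by
  obtain ⟨Q⟩ : Nonempty (Sylow p (CS (P : Subgroup G))) := inferInstance
  have h1 : ∀ u : CS (P : Subgroup G), u ∈ Q → (u : G) ∈ P := fun u hu => by
    have h2 : IsPGroup p ((Q : Subgroup _).map (CS (P : Subgroup G)).subtype ⊔ P : Subgroup G) :=
      IsPGroup.to_sup_of_normal_right' (Q.2.map _) P.2 ((Subgroup.map_subtype_le _).trans (CS_le_NS _))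
    exact (P.3 h2 le_sup_right).le (Subgroup.mem_sup_left ⟨u, hu, rfl⟩)
  have h2 := MonoidHom.ker_transferSylow_isComplement' Q fun x _ => Subgroup.mem_centralizer_iff.2 fun u hu =>
    Subtype.ext (x.2 _ (h1 u hu))
  set K := (MonoidHom.transferSylow Q _).ker
  have h3 : ¬ p ∣ Nat.card K := h2.index_eq_card ▸ Q.not_dvd_index
  obtain ⟨n, h4⟩ := IsPGroup.iff_card.1 Q.2
  have h5 := fI_ker fun χ => principal_of_complement hM h3 (h2.symm.index_eq_card.trans h4) (χ := χ)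
  have h6 : Nat.card (K.map (CS (P : Subgroup G)).subtype) = Nat.card K := Subgroup.card_map_of_injective Subtype.val_injective
  refine ⟨K.map (CS (P : Subgroup G)).subtype, Subgroup.map_subtype_le _, h6 ▸ h3, fun c hc => ?_, ?_⟩
  · obtain ⟨⟨x, u⟩, h⟩ := h2.2 ⟨c, hc⟩
    exact ⟨_, ⟨x.1, x.2, rfl⟩, _, h1 _ u.2, congrArg Subtype.val h⟩
  · rw [Br_principal hM P.2, ← redA_aF, aF, h5, ← incA_sig (Subgroup.map_subtype_le K), redA_incA,
      redA_smul (inv_mem_O_of_red_ne_zero (red_natCast_ne_zero hM h3)) (sig_mem_IntA _), map_smul, redA_sig,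
      red_inv (red_natCast_ne_zero hM h3), red_natCast, h6, Subgroup.subgroupOf, Subgroup.comap_map_eq_self_of_injective
        (Subgroup.subtype_injective _)]

theorem trace_eq_one {ι : Type*} [Fintype ι] [DecidableEq ι] {A : Matrix ι ι ℂ} (h : ∀ i j, A i j ∈ O M)
    (h1 : A * A = A) (h0 : (Fintype.card ι : k M) ≠ 0) (h2 : ∀ i j, red M (A i j) = (Fintype.card ι : k M)⁻¹) :
    A.trace = 1 := by
  have h3 : red M (Fintype.card ι : ℂ) ≠ 0 := by rwa [red_natCast]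
  let J : Matrix ι ι ℂ := Matrix.of fun _ _ => (Fintype.card ι : ℂ)⁻¹
  have h4 : ∀ i j, (1 : Matrix ι ι ℂ) i j ∈ O M := fun i j => by
    rw [Matrix.one_apply]; split_ifs; exacts [one_mem _, zero_mem _]
  have h5 : (1 - A + J).map (red M) = 1 := by
    ext i j
    rw [Matrix.map_apply, Matrix.add_apply, Matrix.sub_apply, show J i j = _⁻¹ from rfl, red_add (sub_mem (h4 i j) (h i j))
      (inv_mem_O_of_red_ne_zero h3), red_sub (h4 i j) (h i j), h2, red_inv h3, red_natCast,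
      sub_add_cancel, Matrix.one_apply, Matrix.one_apply]
    split_ifs <;> simp
  have h6 : (1 - A + J).det ≠ 0 := by
    refine ne_zero_of_red_ne_zero (M := M) ?_
    rw [(red_det (A := 1 - A + J) fun i j => add_mem (sub_mem (h4 i j) (h i j)) (inv_mem_O_of_red_ne_zero h3)).2, h5]
    simp
  have h7 : A = A * J * (1 - A + J)⁻¹ := by
    rw [show A * J = A * (1 - A + J) by rw [mul_add, mul_sub, h1, mul_one, sub_self, zero_add],
      Matrix.mul_nonsing_inv_cancel_right _ _ (Ne.isUnit h6)]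
  obtain ⟨a, b, h8⟩ : ∃ a b : ι → ℂ, ∀ i j, A i j = a i * b j := by
    refine ⟨fun i => (∑ q, A i q) * (Fintype.card ι : ℂ)⁻¹, fun j => ∑ q, (1 - A + J)⁻¹ q j, fun i j => ?_⟩
    conv_lhs => rw [h7]
    simp only [Matrix.mul_apply, J, Matrix.of_apply, Finset.mul_sum, Finset.sum_mul]
  have hι : Nonempty ι := by
    by_contra h; rw [not_nonempty_iff] at h; simp at h0
  obtain ⟨i⟩ := hι
  have h9 : A i i ≠ 0 := ne_zero_of_red_ne_zero (M := M) (by rw [h2]; exact inv_ne_zero h0)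
  refine mul_right_cancel₀ h9 ?_
  conv_rhs => rw [one_mul, ← h1]
  simp only [Matrix.trace, Matrix.diag, Matrix.mul_apply, h8, Finset.sum_mul]
  exact Finset.sum_congr rfl fun _ _ => by ring

/-- `ω_θ` of the `N`-component -/
noncomputable def phi (θ : IrrCharacter N) : ℂ[G] →ₗ[ℂ] ℂ := (om θ.1).comp (resA N)

theorem phi_apply (θ : IrrCharacter N) (z : ℂ[G]) : phi θ z = om θ.1 (resA N z) := rfl

theorem phi_ZA_mul (θ : IrrCharacter N) {y : ℂ[G]} (hy : y ∈ ZA ℂ N) (z : ℂ[G]) :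
    phi θ (y * z) = phi θ y * phi θ z := by
  rw [phi_apply, resA_mul_left hy.2, om_mul θ.2 (resA_mem_Z hy.1)]; rfl

theorem phi_aF (θ : IrrCharacter N) : phi θ (aF N {θ}) = 1 := by
  rw [phi_apply, resA_incA, om_fI_of_mem (Set.mem_singleton θ)]

theorem ZA_mul_aF (θ : IrrCharacter N) {y : ℂ[G]} (hy : y ∈ ZA ℂ N) : y * aF N {θ} = phi θ y • aF N {θ} := by
  rw [← incA_resA_of_Sup hy.2, ← map_mul, mul_fI_single (resA_mem_Z hy.1), map_smul, phi_apply, resA_incA]

theorem phi_mem_O (θ : IrrCharacter N) {z : ℂ[G]} (hz : z ∈ Fix ℂ N) (hz' : z ∈ IntA G M) : phi θ z ∈ O M :=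
  om_mem_O θ.2 (resA_mem_Z hz) (resA_mem_IntA N hz')

theorem red_phi (hM : IsPModular p M) [N.Normal] {θ : IrrCharacter N} (hθ : θ ∈ principalBlock M N) {z : ℂ[G]}
    (hz : z ∈ Fix ℂ N) (hz' : z ∈ IntA G M) :
    red M (phi θ z) = (mapA (QuotientGroup.mk' N) (redA M z)).coeff 1 := by
  classical
  cases nonempty_fintype G
  rw [phi_apply, ← lamB_redA hM isPBlock_principal hθ (resA_mem_Z hz) (resA_mem_IntA N hz'),
    lamB_eq hM isPBlock_principal (triv_mem_principal hM), lam_triv (redA_mem_Z (resA_mem_Z hz)), coeff_mapA]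
  simp only [coeff_redA, coeff_resA, QuotientGroup.mk'_apply, QuotientGroup.eq_one_iff]
  exact (Finset.sum_subtype _ (by simp) fun g => red M (z.coeff g)).symm

/-- the fibre over a coset -/
def fib (N : Subgroup G) (q : G ⧸ N) : Set G := {g | (g : G ⧸ N) = q}

theorem mul_mem_fib {R : Type*} [CommRing R] [N.Normal] {q r : G ⧸ N} {a b : R[G]} (ha : a ∈ Sup R (fib N q))
    (hb : b ∈ Sup R (fib N r)) : a * b ∈ Sup R (fib N (q * r)) :=
  mul_mem_Sup ha hb fun s hs t ht => by rw [fib, Set.mem_setOf_eq, QuotientGroup.mk_mul, hs, ht]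

theorem fib_one [N.Normal] : fib N 1 = N := Set.ext fun g => QuotientGroup.eq_one_iff g

theorem phi_fib [N.Normal] (θ : IrrCharacter N) {q : G ⧸ N} (hq : q ≠ 1) {a : ℂ[G]} (ha : a ∈ Sup ℂ (fib N q)) :
    phi θ a = 0 := by
  rw [phi_apply, show resA N a = 0 from ext_coeff fun n => mem_Sup.1 ha _ fun h =>
    hq (h.symm.trans ((QuotientGroup.eq_one_iff _).2 n.2)), map_zero]

theorem sum_trunc_fib {R : Type*} [CommRing R] [Fintype (G ⧸ N)] (a : R[G]) : ∑ q, trunc (fib N q) a = a := by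
  classical
  refine ext_coeff fun g => ?_
  rw [coeff_sum', Finset.sum_eq_single (g : G ⧸ N) (fun q _ h => coeff_trunc_of_notMem _ fun e => h e.symm) (by simp)]
  exact coeff_trunc_of_mem _ rfl

theorem trunc_fib_mem_Fix {R : Type*} [CommRing R] [N.Normal] (q : G ⧸ N) {a : R[G]} (ha : a ∈ Fix R N) :
    trunc (fib N q) a ∈ Fix R N :=
  trunc_mem_Fix (fun h hh g => by
    simp [fib, (QuotientGroup.eq_one_iff h).2 hh]) ha

theorem mem_ZA_fib {R : Type*} [CommRing R] [N.Normal] {q r : G ⧸ N} {a b : R[G]} (ha : a ∈ Sup R (fib N q))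
    (hb : b ∈ Sup R (fib N r)) (ha' : a ∈ Fix R N) (hb' : b ∈ Fix R N) (h : q * r = 1) : a * b ∈ ZA R N :=
  ⟨mul_mem ha' hb', by rw [← fib_one, ← h]; exact mul_mem_fib ha hb⟩

theorem phi_mul_trunc [N.Normal] (θ : IrrCharacter N) {q : G ⧸ N} {a : ℂ[G]} (ha : a ∈ Sup ℂ (fib N q⁻¹)) (w : ℂ[G]) :
    phi θ (a * trunc (fib N q) w) = phi θ (a * w) := by
  cases nonempty_fintype (G ⧸ N)
  conv_rhs => rw [← sum_trunc_fib (N := N) w, Finset.mul_sum, map_sum]
  exact (Finset.sum_eq_single q (fun r _ h => phi_fib θ (fun e => h (inv_mul_eq_one.1 e).symm)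
    (mul_mem_fib ha (trunc_mem_Sup _ _))) (by simp)).symm

/-- a system of graded units for the principal block -/
structure GU (M : Ideal AlgInt) (N : Subgroup G) [N.Normal] (c : G ⧸ N → ℂ[G]) : Prop where
  int : ∀ q, c q ∈ IntA G M
  fix : ∀ q, c q ∈ Fix ℂ N
  sup : ∀ q, c q ∈ Sup ℂ (fib N q)
  map : ∀ q, mapA (QuotientGroup.mk' N) (redA M (c q)) = single q 1

theorem exists_GU (hM : IsPModular p M) [N.Normal] {P : Subgroup G} (h1 : P ≤ N) (h2 : ¬ p ∣ P.relIndex N)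
    (h : N ⊔ CS P = ⊤) : ∃ c, GU M N c := by
  have h3 : ∀ q : G ⧸ N, ∃ x ∈ CS P, (x : G ⧸ N) = q := fun q => by
    obtain ⟨g, rfl⟩ := QuotientGroup.mk_surjective q
    obtain ⟨n, hn, x, hx, rfl⟩ := Subgroup.mem_sup_of_normal_left.1 (h.ge (Subgroup.mem_top g))
    exact ⟨x, hx, by simp [(QuotientGroup.eq_one_iff n).2 hn]⟩
  choose s h4 h5 using h3
  have h6 := red_natCast_ne_zero hM h2
  have h7 : ∀ q, Tr P N (single (s q) (1 : ℂ)) ∈ IntA G M := fun q => Tr_mem_IntA _ _ (single_mem_IntA _ (one_mem _))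
  refine ⟨fun q => (P.relIndex N : ℂ)⁻¹ • Tr P N (single (s q) 1), fun q => smul_mem_IntA
    (inv_mem_O_of_red_ne_zero h6) (h7 q), fun q => Subalgebra.smul_mem _ (Tr_mem_Fix h1 (single_mem_Fix (h4 q) _)) _,
    fun q => Submodule.smul_mem _ _ (Tr_mem fun x hx => ?_), fun q => ?_⟩
  · rw [cj_single]
    exact single_mem_Sup (by simp [fib, (QuotientGroup.eq_one_iff x).2 hx, h5]) _
  · rw [redA_smul (inv_mem_O_of_red_ne_zero h6) (h7 q), Tr_apply, redA_sum _ _ fun _ _ =>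
      cj_mem_IntA _ (single_mem_IntA _ (one_mem _)), map_smul, map_sum, Finset.sum_congr rfl (g := fun _ => single q 1),
      Finset.sum_const, card_cos h1, red_inv h6, red_natCast, ← Nat.cast_smul_eq_nsmul (k M), smul_smul,
      inv_mul_cancel₀ (by rwa [red_natCast] at h6), one_smul]
    intro x hx
    simp [(QuotientGroup.eq_one_iff _).2 (mem_cos.1 hx), h5]

variable [N.Normal] {c : G ⧸ N → ℂ[G]} {θ : IrrCharacter N}

theorem GU.red_two (hM : IsPModular p M) (hc : GU M N c) (hθ : θ ∈ principalBlock M N) {q r : G ⧸ N} (h : q * r = 1) :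
    red M (phi θ (c q * c r)) = 1 := by
  rw [red_phi hM hθ (mul_mem (hc.fix _) (hc.fix _)) (mul_mem (hc.int _) (hc.int _)), redA_mul (hc.int _) (hc.int _),
    map_mul, hc.map, hc.map, single_mul_single_one, h]
  simp

theorem GU.ne_zero (hM : IsPModular p M) (hc : GU M N c) (hθ : θ ∈ principalBlock M N) {q r : G ⧸ N} (h : q * r = 1) :
    phi θ (c q * c r) ≠ 0 :=
  ne_zero_of_red_ne_zero (M := M) (by rw [hc.red_two hM hθ h]; exact one_ne_zero)

theorem GU.expand (hM : IsPModular p M) [Fintype (G ⧸ N)] (hc : GU M N c) (hθ : θ ∈ principalBlock M N) {u w : ℂ[G]}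
    (hu : u ∈ Fix ℂ N) (hw : w ∈ Fix ℂ N) :
    phi θ (u * w) = ∑ q, phi θ (u * c q) * (phi θ (c q⁻¹ * w) / phi θ (c q * c q⁻¹)) := by
  conv_lhs => rw [← sum_trunc_fib (N := N) w, Finset.mul_sum, map_sum]
  refine Finset.sum_congr rfl fun q _ => ?_
  have h1 := trunc_fib_mem_Fix q hw
  have h2 := mem_ZA_fib (hc.sup q) (hc.sup q⁻¹) (hc.fix _) (hc.fix _) (mul_inv_cancel q)
  have h3 := mem_ZA_fib (hc.sup q⁻¹) (trunc_mem_Sup (fib N q) w) (hc.fix _) h1 (inv_mul_cancel q)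
  rw [← mul_div_assoc, eq_div_iff (hc.ne_zero hM hθ (mul_inv_cancel q)), ← phi_mul_trunc θ (hc.sup q⁻¹), mul_comm,
    ← phi_ZA_mul θ h2, mul_comm, ← phi_ZA_mul θ h3, ZA_comm_Fix h3 (mul_mem hu (hc.fix _)), ← mul_assoc,
    ZA_comm_Fix h2 hu]
  simp only [mul_assoc]

theorem GU.phi_comm (hM : IsPModular p M) (hc : GU M N c) (hθ : θ ∈ principalBlock M N) (q : G ⧸ N) :
    phi θ (c q⁻¹ * c q) = phi θ (c q * c q⁻¹) := by
  cases nonempty_fintype (G ⧸ N)
  have := hc.expand hM hθ (hc.fix q⁻¹) (hc.fix q)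
  rw [Finset.sum_eq_single q (fun r _ h => by
    rw [phi_fib θ (fun e => h (inv_mul_eq_one.1 e).symm) (mul_mem_fib (hc.sup _) (hc.sup _)), zero_mul]) (by simp),
    left_eq_mul₀ (hc.ne_zero hM hθ (inv_mul_cancel q)), div_eq_one_iff_eq (hc.ne_zero hM hθ (mul_inv_cancel q))] at this
  exact this

theorem map_e0 (hM : IsPModular p M) (P : Sylow p G) (h1 : (P : Subgroup G) ≤ N) (h : N ⊔ CS P = ⊤) (q : G ⧸ N) :
    (N.index : k M) * (mapA (QuotientGroup.mk' N) (eB M (principalBlock M G))).coeff q = 1 := by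
  classical
  cases nonempty_fintype G
  haveI := charP_k hM
  obtain ⟨K, h2, -, h3, h4⟩ := exists_Br_e0 hM P
  have h5 := Br_mapA (QuotientGroup.mk' N) P.2 (Z_le_Fix _ (eB_mem_Z (M := M) (principalBlock M G)))
  rw [(Subgroup.map_eq_bot_iff _).2 (by rwa [QuotientGroup.ker_mk']), Br_bot] at h5
  have h6 : ∀ r, (mapA (QuotientGroup.mk' N) (eB M (principalBlock M G))).coeff r =
      (mapA (QuotientGroup.mk' N) (eB M (principalBlock M G))).coeff q := fun r => by
    obtain ⟨g, hg⟩ := QuotientGroup.mk_surjective (q * r⁻¹)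
    obtain ⟨n, hn, y, hy, rfl⟩ := Subgroup.mem_sup_of_normal_left.1 (h.ge (Subgroup.mem_top g))
    obtain ⟨x, hx, u, hu, rfl⟩ := h3 y hy
    have h7 : (x : G ⧸ N) = q * r⁻¹ := by
      simpa [(QuotientGroup.eq_one_iff n).2 hn, (QuotientGroup.eq_one_iff u).2 (h1 hu)] using hg
    conv_rhs => rw [h5, h4, ← single_mul_sig hx, ← mul_smul_comm, map_mul, mapA_single, coeff_single_mul, ← h4, ← h5]
    simp [h7]
  have h7 := lam_eB_of_mem hM isPBlock_principal (triv_mem_principal (G := G) hM)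
  rw [lam_triv (eB_mem_Z _), ← Finset.sum_fiberwise (g := QuotientGroup.mk' N)] at h7
  simp only [← coeff_mapA, h6, Finset.sum_const, Finset.card_univ, nsmul_eq_mul] at h7
  rw [← h7, Subgroup.index, Nat.card_eq_fintype_card]

theorem index_mul_phi (hM : IsPModular p M) (P : Sylow p G) (hN : ¬ p ∣ N.index) (h : N ⊔ CS P = ⊤)
    (hθ : θ ∈ principalBlock M N) : N.index * phi θ (fI (principalBlock M G)) = 1 := by
  classical
  cases nonempty_fintype (G ⧸ N)
  have h1 : (P : Subgroup G) ≤ N := by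
    have := (P.2.map (QuotientGroup.mk' N)).card_eq_or_dvd.resolve_right fun e =>
      hN (e.trans (Subgroup.card_subgroup_dvd_card _))
    rwa [Subgroup.card_eq_one, Subgroup.map_eq_bot_iff, QuotientGroup.ker_mk'] at this
  obtain ⟨c, hc⟩ := exists_GU hM h1 (fun e => P.not_dvd_index (e.trans (Subgroup.relIndex_dvd_index_of_le h1))) h
  set E := fI (principalBlock M G)
  have hE : E ∈ Z ℂ G := fI_mem_Z _
  have hE' : E ∈ IntA G M := fI_mem_IntA hM isPBlock_principal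
  have h0 : (N.index : k M) ≠ 0 := by rwa [Ne, natCast_eq_zero_iff hM]
  have h2 : N.index = Fintype.card (G ⧸ N) := Nat.card_eq_fintype_card
  have h3 : ∀ q, red M (phi θ (c q * c q⁻¹)) ≠ 0 := fun q => by
    rw [hc.red_two hM hθ (mul_inv_cancel q)]; exact one_ne_zero
  have h4 : ∀ q r, phi θ (c q * E * c r) ∈ O M := fun q r => phi_mem_O θ
    (mul_mem (mul_mem (hc.fix _) (Z_le_Fix _ hE)) (hc.fix _)) (mul_mem (mul_mem (hc.int _) hE') (hc.int _))
  have := trace_eq_one (M := M) (A := Matrix.of fun q r => phi θ (c q⁻¹ * E * c r) / phi θ (c q * c q⁻¹))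
    (fun q r => div_mem_O (h4 _ _) (h3 _)) (Matrix.ext fun q r => ?_) (h2 ▸ h0) fun q r => ?_
  · rw [← this, Matrix.trace, Finset.sum_congr rfl (g := fun _ => phi θ E), Finset.sum_const, Finset.card_univ, h2,
      nsmul_eq_mul]
    intro q _
    rw [Matrix.diag_apply, Matrix.of_apply, mul_assoc, Z_comm hE, ← mul_assoc, phi_ZA_mul θ (mem_ZA_fib (hc.sup _)
      (hc.sup _) (hc.fix _) (hc.fix _) (inv_mul_cancel q)), hc.phi_comm hM hθ,
      mul_div_cancel_left₀ _ (hc.ne_zero hM hθ (mul_inv_cancel q))]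
  · rw [Matrix.of_apply, show c q⁻¹ * E * c r = c q⁻¹ * E * (E * c r) by
      rw [mul_assoc _ E (E * _), ← mul_assoc E, fI_mul_self, mul_assoc], hc.expand hM hθ
      (mul_mem (hc.fix _) (Z_le_Fix _ hE)) (mul_mem (Z_le_Fix _ hE) (hc.fix _)), Matrix.mul_apply, Finset.sum_div]
    refine Finset.sum_congr rfl fun s _ => ?_
    simp only [Matrix.of_apply, mul_assoc]
    ring
  · rw [Matrix.of_apply, red_div (h4 _ _) (h3 _), hc.red_two hM hθ (mul_inv_cancel q), div_one,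
      red_phi hM hθ (mul_mem (mul_mem (hc.fix _) (Z_le_Fix _ hE)) (hc.fix _))
      (mul_mem (mul_mem (hc.int _) hE') (hc.int _)), redA_mul (mul_mem (hc.int _) hE') (hc.int _),
      redA_mul (hc.int _) hE', map_mul, map_mul, hc.map, hc.map, coeff_mul_single, coeff_single_mul, redA_fI, ← h2]
    exact eq_inv_of_mul_eq_one_right (map_e0 hM P h1 h _)

theorem dade (hM : IsPModular p M) [Fintype N] (P : Sylow p G) (hN : ¬ p ∣ N.index) (h : N ⊔ CS P = ⊤)
    (hθ : θ ∈ principalBlock M N) : ∃ χ ∈ principalBlock M G, (∀ n : N, χ.1 n = θ.1 n) ∧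
      ∀ ψ ∈ principalBlock M G, classInner (fun n : N => ψ.1 n) θ.1 ≠ 0 → ψ = χ := by
  classical
  cases nonempty_fintype G
  have h1 := sum_over θ (principalBlock M G)
  rw [mul_right_comm, ← phi_apply, index_mul_phi hM P hN h hθ, one_mul] at h1
  choose m hm using fun χ : IrrCharacter G => H3.inner_char_nat (H3.char_restrict (H3.irr_char χ.2) N) (H3.irr_char θ.2)
  have h2 : (∑ χ ∈ fs (principalBlock M G), m χ * m χ) * (H3.inertia N θ.1).index = 1 := by
    refine Nat.cast_injective (R := ℂ) (mul_right_cancel₀ (H3.irr_one_ne_zero θ.2) ?_)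
    rw [Nat.cast_one, one_mul]
    conv_rhs => rw [← h1]
    push_cast
    rw [Finset.sum_mul, Finset.sum_mul]
    refine Finset.sum_congr rfl fun χ _ => ?_
    rw [H3.inner_char_symm (H3.irr_char θ.2) (H3.char_restrict (H3.irr_char χ.2) N)]
    by_cases e : classInner (fun n : N => χ.1 n) θ.1 = 0
    · rw [← hm, e]; simp
    · rw [H3.clifford_degree N χ.2 θ.2 e, hm]; ring
  obtain ⟨h3, h4⟩ := mul_eq_one.1 h2
  obtain ⟨χ, h5, h6⟩ := Finset.exists_ne_zero_of_sum_ne_zero (h3.trans_ne one_ne_zero)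
  rw [← Finset.add_sum_erase _ _ h5] at h3
  have h7 : m χ = 1 := Nat.eq_one_of_mul_eq_one_right (show m χ * m χ = 1 by omega)
  refine ⟨χ, mem_fs.1 h5, fun n => ?_, fun ψ hψ h8 => by_contra fun e => h8 ?_⟩
  · have := congrFun (H3.clifford_invariant N χ.2 θ.2 (fun g => (H3.mem_inertia N).1
      (Subgroup.index_eq_one.1 h4 ▸ Subgroup.mem_top g)) (by rw [hm, h7]; simp)) n
    simpa [hm, h7] using this
  · rw [hm, mul_self_eq_zero.1 (Finset.sum_eq_zero_iff.1 (show ∑ x ∈ (fs (principalBlock M G)).erase χ, m x * m x = 0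
      by omega) ψ (Finset.mem_erase.2 ⟨e, mem_fs.2 hψ⟩)), Nat.cast_zero]

theorem om_Fix_mul {ψ : G → ℂ} (hψ : IsCharacter G ψ) (h : IsIrrCharacter H fun n : H => ψ n) {a : ℂ[G]}
    (ha : a ∈ Fix ℂ H) (b : ℂ[G]) : om ψ (a * b) = om ψ a * om ψ b := by
  cases nonempty_fintype H
  have h0 : ψ 1 ≠ 0 := H3.irr_one_ne_zero (G := H) h
  obtain ⟨n, ρ, rfl⟩ := hψ
  have h1 : ∀ z, ev ρ.character z = LinearMap.trace ℂ _ (ρ.asAlgebraHom z) := fun z => by
    induction z using MonoidAlgebra.induction_linear with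
    | zero => simp
    | add a b h1 h2 => simp [h1, h2]
    | single g c => simp [Representation.character]
  have h2 := (H3.inner_character_eq_finrank (ρ.comp H.subtype) (ρ.comp H.subtype)).symm.trans (H3.irr_inner_self h)
  rw [Nat.cast_eq_one] at h2
  obtain ⟨t, ht⟩ : ∃ t : ℂ, ρ.asAlgebraHom a = t • 1 := by
    let F : Representation.IntertwiningMap (ρ.comp H.subtype) (ρ.comp H.subtype) := ⟨ρ.asAlgebraHom a, fun g => by
      have := congrArg ρ.asAlgebraHom ((cj_eq_iff_commute _ _).1 (mem_Fix.1 ha g g.2))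
      simp only [map_mul, Representation.asAlgebraHom_single, one_smul] at this
      exact this.symm⟩
    obtain ⟨t, ht⟩ := (finrank_eq_one_iff_of_nonzero' (1 : Representation.IntertwiningMap (ρ.comp H.subtype)
      (ρ.comp H.subtype)) fun e => h0 (by
        have : (1 : Module.End ℂ (Fin n → ℂ)) = 0 := congrArg (·.toLinearMap) e
        rw [Representation.character, map_one, this, map_zero])).1 h2 F
    exact ⟨t, (congrArg (·.toLinearMap) ht).symm⟩
  simp only [om_apply, h1, map_mul, ht, smul_mul_assoc, one_mul, map_smul, smul_eq_mul]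
  rw [Representation.character, map_one] at h0 ⊢
  field_simp

theorem red_root_inj (hM : IsPModular p M) {m : ℕ} (hm : ¬ p ∣ m) {z : ℂ} (h : z ^ m = 1) (h1 : red M z = 1) : z = 1 := by
  by_contra e
  have h2 := mem_O_of_red_ne_zero (h1.trans_ne one_ne_zero)
  have h3 := congrArg (red M) ((mul_eq_zero.1 ((geom_sum_mul z m).trans (sub_eq_zero.2 h))).resolve_right (sub_ne_zero.2 e))
  rw [red_sum _ _ fun i _ => pow_mem h2 i] at h3
  simp only [red_pow h2, h1, one_pow, Finset.sum_const, Finset.card_range, nsmul_eq_mul, mul_one, red_zero] at h3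
  exact hm ((natCast_eq_zero_iff hM m).1 h3)

theorem red_root_surj {m : ℕ} (hm : m ≠ 0) {t : k M} (h : t ^ m = 1) : ∃ z : ℂ, z ^ m = 1 ∧ red M z = t := by
  have h1 := congrArg (fun f => red M (Polynomial.eval (sec M t) f))
    (Polynomial.X_pow_sub_one_eq_prod hm.bot_lt (Complex.isPrimitiveRoot_exp m hm))
  have h2 : ∀ z ∈ Polynomial.nthRootsFinset m (1 : ℂ), z ^ m = 1 := fun z hz =>
    (Polynomial.mem_nthRootsFinset hm.bot_lt 1).1 hz
  simp only [Polynomial.eval_sub, Polynomial.eval_pow, Polynomial.eval_X, Polynomial.eval_one, Polynomial.eval_prod,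
    Polynomial.eval_C] at h1
  rw [red_sub (pow_mem (sec_mem t) m) (one_mem _), red_pow (sec_mem t), red_sec, h, red_one, sub_self,
    red_prod _ _ fun z hz => sub_mem (sec_mem t) (mem_O_of_pow_eq_one hm (h2 z hz)), eq_comm,
    Finset.prod_eq_zero_iff] at h1
  obtain ⟨z, hz, h3⟩ := h1
  rw [red_sub (sec_mem t) (mem_O_of_pow_eq_one hm (h2 z hz)), red_sec, sub_eq_zero] at h3
  exact ⟨z, h2 z hz, h3.symm⟩

theorem exists_lift_hom (hM : IsPModular p M) (ν : G →* k M) : ∃ μ : G →* ℂˣ, ∀ g, red M (μ g) = ν g := by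
  haveI := charP_k hM
  obtain ⟨a, m, hm, hG⟩ := Nat.exists_eq_pow_mul_and_not_dvd (Nat.card_pos (α := G)).ne' p hp.out.ne_one
  have h0 : m ≠ 0 := fun e => hm (e ▸ dvd_zero p)
  choose z h1 h2 using fun g => red_root_surj (t := ν g) h0 ((ExpChar.pow_prime_pow_mul_eq_one_iff p a m _).1
    (by rw [← hG, ← map_pow, pow_card_eq_one', map_one]))
  have h3 : ∀ g, z g ∈ O M := fun g => mem_O_of_pow_eq_one h0 (h1 g)
  have h4 : ∀ g, red M (z g) ≠ 0 := fun g e => by
    have := congrArg (red M) (h1 g)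
    rw [red_pow (h3 g), e, zero_pow h0, red_one] at this
    exact zero_ne_one this
  refine ⟨MonoidHom.toHomUnits ⟨⟨z, red_root_inj hM hm (h1 1) ((h2 1).trans (map_one ν))⟩, fun g h => ?_⟩, h2⟩
  refine (div_eq_one_iff_eq (mul_ne_zero (ne_zero_of_red_ne_zero (h4 g)) (ne_zero_of_red_ne_zero (h4 h)))).1
    (red_root_inj hM hm (by simp [div_pow, mul_pow, h1]) ?_)
  have h5 : red M (z g * z h) ≠ 0 := by rw [red_mul (h3 g) (h3 h)]; exact mul_ne_zero (h4 g) (h4 h)
  rw [red_div (h3 _) h5, div_eq_one_iff_eq h5, red_mul (h3 g) (h3 h), h2, h2, h2, map_mul]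

theorem om_eq_phi (h : ∀ n : N, ψ.1 n = θ.1 n) {a : ℂ[G]} (ha : a ∈ Sup ℂ (N : Set G)) : om ψ.1 a = phi θ a := by
  rw [phi_apply, om_apply, om_apply, ← incA_resA_of_Sup ha, ev_incA, resA_incA, funext h, ← h 1]; rfl

theorem GU.red_om_ne_zero (hM : IsPModular p M) (hc : GU M N c) (hθ : θ ∈ principalBlock M N)
    (h : ∀ n : N, ψ.1 n = θ.1 n) (q : G ⧸ N) : red M (om ψ.1 (c q)) ≠ 0 := by
  have h1 : ∀ n : ℕ, om ψ.1 (c q ^ n) = om ψ.1 (c q) ^ n ∧ c q ^ n ∈ Sup ℂ (fib N (q ^ n)) := fun n => by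
    induction n with
    | zero => exact ⟨by simpa using om_one ψ.2, by simpa [fib_one] using one_mem_Sup N⟩
    | succ n ih => exact ⟨by rw [pow_succ', om_Fix_mul (H3.irr_char ψ.2) (funext h ▸ θ.2) (hc.fix q), ih.1, pow_succ'],
        by rw [pow_succ, pow_succ]; exact mul_mem_fib ih.2 (hc.sup q)⟩
  obtain ⟨h2, h3⟩ := h1 (Nat.card (G ⧸ N))
  rw [pow_card_eq_one', fib_one] at h3
  have h4 := red_phi hM hθ (pow_mem (hc.fix q) (Nat.card (G ⧸ N))) (pow_mem (hc.int q) _)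
  rw [← om_eq_phi h h3, h2, redA_pow (hc.int q), map_pow, hc.map, single_pow, pow_card_eq_one', one_pow] at h4
  have h5 : red M (om ψ.1 (c q) ^ Nat.card (G ⧸ N)) ≠ 0 := by rw [h4]; simp
  rwa [red_ne_zero_iff, map_pow, pow_eq_one_iff_left Nat.card_pos.ne', ← red_ne_zero_iff] at h5

theorem GU.red_om (hM : IsPModular p M) (hc : GU M N c) (hθ : θ ∈ principalBlock M N)
    (h : ∀ n : N, ψ.1 n = θ.1 n) {q : G ⧸ N} {a : ℂ[G]} (h1 : a ∈ Fix ℂ N) (h2 : a ∈ IntA G M)
    (h3 : a ∈ Sup ℂ (fib N q)) : om ψ.1 a ∈ O M ∧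
      red M (om ψ.1 a) * red M (om ψ.1 (c q⁻¹)) = (mapA (QuotientGroup.mk' N) (redA M a)).coeff q := by
  have h4 := om_Fix_mul (H3.irr_char ψ.2) (funext h ▸ θ.2) h1 (c q⁻¹)
  have h5 := hc.red_om_ne_zero hM hθ h q⁻¹
  rw [om_eq_phi h (mem_ZA_fib h3 (hc.sup _) h1 (hc.fix _) (mul_inv_cancel q)).2] at h4
  have h6 : om ψ.1 a ∈ O M := by
    rw [eq_div_of_mul_eq (ne_zero_of_red_ne_zero h5) h4.symm]
    exact div_mem_O (phi_mem_O θ (mul_mem h1 (hc.fix _)) (mul_mem h2 (hc.int _))) h5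
  rw [← red_mul h6 (mem_O_of_red_ne_zero h5), ← h4, red_phi hM hθ (mul_mem h1 (hc.fix _)) (mul_mem h2 (hc.int _)),
    redA_mul h2 (hc.int _), map_mul, hc.map, coeff_mul_single, inv_inv, one_mul]
  exact ⟨h6, rfl⟩

theorem GU.exists_twist (hM : IsPModular p M) (hc : GU M N c) (hθ : θ ∈ principalBlock M N)
    (h : ∀ n : N, ψ.1 n = θ.1 n) :
    ∃ χ : IrrCharacter G, (∀ n : N, χ.1 n = θ.1 n) ∧ ∀ q, red M (om χ.1 (c q)) = 1 := by
  cases nonempty_fintype G
  have h0 := hc.red_om_ne_zero hM hθ h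
  have h1 : ∀ q, red M (om ψ.1 (c q)) * red M (om ψ.1 (c q⁻¹)) = 1 := fun q => by
    rw [(hc.red_om hM hθ h (hc.fix q) (hc.int q) (hc.sup q)).2, hc.map]; simp
  have h2 : ∀ q r, red M (om ψ.1 (c (q * r))) = red M (om ψ.1 (c q)) * red M (om ψ.1 (c r)) := fun q r => by
    refine mul_right_cancel₀ (h0 (q * r)⁻¹) ?_
    rw [h1, ← red_mul (mem_O_of_red_ne_zero (h0 _)) (mem_O_of_red_ne_zero (h0 _)),
      ← om_Fix_mul (H3.irr_char ψ.2) (funext h ▸ θ.2) (hc.fix q), (hc.red_om hM hθ h (mul_mem (hc.fix q) (hc.fix r))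
      (mul_mem (hc.int q) (hc.int r)) (mul_mem_fib (hc.sup q) (hc.sup r))).2, redA_mul (hc.int q) (hc.int r),
      map_mul (mapA _), hc.map, hc.map, single_mul_single_one]
    simp
  obtain ⟨μ, h3⟩ := exists_lift_hom hM (G := G ⧸ N) ⟨⟨fun q => red M (om ψ.1 (c q)),
    mul_right_cancel₀ (h0 1) (by rw [← h2, one_mul, one_mul])⟩, h2⟩
  refine ⟨⟨_, H3.irr_mul_hom ψ.2 (μ⁻¹.comp (QuotientGroup.mk' N))⟩, fun n => by
    simp [(QuotientGroup.eq_one_iff n.1).2 n.2, h], fun q => ?_⟩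
  have h4 : om (ψ.1 * fun g => ((μ⁻¹.comp (QuotientGroup.mk' N)) g : ℂ)) (c q) = om ψ.1 (c q) / μ q := by
    rw [om_apply_sum, om_apply_sum, Finset.sum_div]
    refine Finset.sum_congr rfl fun g _ => ?_
    by_cases e : (c q).coeff g = 0
    · simp [e]
    · simp [show (g : G ⧸ N) = q from mem_of_coeff_ne_zero (hc.sup q) e]
      ring
  have h5 : red M (μ q) = red M (om ψ.1 (c q)) := h3 q
  rw [h4, red_div (mem_O_of_red_ne_zero (h0 q)) (h5 ▸ h0 q), h5, div_self (h0 q)]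

theorem GU.principal (hM : IsPModular p M) (hc : GU M N c) (hθ : θ ∈ principalBlock M N)
    (h : ∀ n : N, χ.1 n = θ.1 n) (h1 : ∀ q, red M (om χ.1 (c q)) = 1) {J : Type*} [Group J] [Finite J] (f : J →* G)
    (hf : ∀ a ∈ Z ℂ J, mapA f a ∈ Fix ℂ N) {ξ : IrrCharacter J} (hξ : ∀ y, ξ.1 y = χ.1 (f y)) :
    ξ ∈ principalBlock M J := by
  classical
  cases nonempty_fintype G
  cases nonempty_fintype J
  refine sameBlock_of_lam_Z hM (triv J).2 ξ.2 fun z hz => ?_
  have h2 := hf _ (secA_mem_Z hz)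
  have h3 := mapA_mem_IntA f (secA_mem_IntA z)
  have h4 := fun q => hc.red_om hM hθ h (trunc_fib_mem_Fix q h2) (trunc_mem_IntA _ h3) (trunc_mem_Sup _ _)
  change lam M (triv J).1 z = _
  rw [lam_triv hz, lam_eq_red_om ξ.2 hz, show om ξ.1 (secA M z) = om χ.1 (mapA f (secA M z)) by
    rw [om_apply, om_apply, ev_mapA, hξ, map_one, funext hξ], ← sum_trunc_fib (N := N) (mapA f _), map_sum,
    red_sum _ _ fun q _ => (h4 q).1]
  simp only [h1, mul_one] at h4
  simp only [(h4 _).2, redA_trunc, redA_mapA f (secA_mem_IntA z), redA_secA]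
  rw [← Finset.sum_fiberwise (g := f), ← Finset.sum_fiberwise (g := QuotientGroup.mk' N)]
  refine Finset.sum_congr rfl fun q _ => ?_
  rw [coeff_mapA]
  refine Finset.sum_congr rfl fun g hg => ?_
  rw [coeff_trunc_of_mem (S := fib N q) _ (Finset.mem_filter.1 hg).2, coeff_mapA]

theorem inner_trans {A C : Type*} [Group A] [Fintype A] [Group C] [Fintype C] (f : A →* C) {a η : C → ℂ} {ϑ : A → ℂ}
    (ha : IsCharacter C a) (hη : IsIrrCharacter C η) (hϑ : IsCharacter A ϑ) (h1 : classInner a η ≠ 0)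
    (h2 : classInner (fun x => η (f x)) ϑ ≠ 0) : classInner (fun x => a (f x)) ϑ ≠ 0 :=
  H3.constituent_of_sub (H3.char_comp (H3.char_sub_of_inner_ne_zero ha hη h1) f) (H3.char_comp (H3.irr_char hη) f) hϑ h2

end H4
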