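import Cfsg.Agent.H4.Frob2
import Cfsg.Agent.H4.Dade

/-!
# Watanabe's theorem on subsections fixed by the inertial group (abelian defect groups)
-/

set_option autoImplicit false
set_option linter.unusedSectionVars false

namespace H4
open MonoidAlgebra Cfsg H1
open scoped Pointwise ComplexConjugate

universe u
variable {G : Type u} [Group G] [Finite G] {M : Ideal AlgInt} {p : ℕ} [hp : Fact p.Prime]
  {H K P T : Subgroup G} {e f f' j : (k M)[G]} {b : Set (IrrCharacter H)} {B : Set (IrrCharacter G)}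

theorem card_tb {G' : Type*} [Group G'] [Finite G'] (σ : G ≃* G') (B : Set (IrrCharacter G)) :
    Nat.card (tb σ B) = Nat.card B :=
  (Nat.card_congr ((irrMap σ).subtypeEquiv fun _ => irrMap_mem_tb.symm)).symm

theorem rank_tb {G' : Type*} [Group G'] [Finite G'] (σ : G ≃* G') (B : Set (IrrCharacter G)) :
    blockRank p (tb σ B) = blockRank p B := by
  rw [blockRank_eq, blockRank_eq, ← (LinearEquiv.funCongrLeft ℂ ℂ σ.toEquiv).finrank_map_eq, Submodule.map_span]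
  refine congrArg (fun s => Module.finrank ℂ (Submodule.span ℂ s)) ?_
  have h : ∀ χ : IrrCharacter G', LinearEquiv.funCongrLeft ℂ ℂ σ.toEquiv (reg p χ.1) = reg p ((irrMap σ).symm χ).1 :=
    fun χ => funext fun g => by
      by_cases hg : p ∣ orderOf g
      · exact (reg_of_dvd _ (by rwa [MulEquiv.toEquiv_eq_coe, EquivLike.coe_coe, σ.orderOf_eq])).trans (reg_of_dvd _ hg).symm
      · exact (reg_of_not_dvd _ (by rwa [MulEquiv.toEquiv_eq_coe, EquivLike.coe_coe, σ.orderOf_eq])).trans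
          (reg_of_not_dvd (p := p) ((irrMap σ).symm χ).1 hg).symm
  ext θ
  exact ⟨fun ⟨_, ⟨χ, h1, h2⟩, h3⟩ => ⟨_, mem_tb.1 h1, by rw [← h3, ← h2]; exact (h χ).symm⟩,
    fun ⟨χ, h1, h2⟩ => ⟨_, ⟨_, irrMap_mem_tb.2 h1, rfl⟩, (h _).trans (by rw [← h2]; simp)⟩⟩

/-- the block of `H` with a given idempotent -/
noncomputable def ab (H : Subgroup G) (f : (k M)[G]) : Set (IrrCharacter H) :=
  Classical.epsilon fun b => IsPBlock M b ∧ aE M H b = f

theorem ab_aE (hM : IsPModular p M) (hb : IsPBlock M b) : ab H (aE M H b) = b :=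
  have := Classical.epsilon_spec (p := fun c => IsPBlock M c ∧ aE M H c = aE M H b) ⟨b, hb, rfl⟩
  aE_inj hM this.1 hb this.2

theorem ab_map (hM : IsPModular p M) {A : Type u} [Group A] [Finite A] (φ : A →* G) (hφ : Function.Injective φ)
    (h : φ.range = H) {c : Set (IrrCharacter A)} (hc : IsPBlock M c) :
    blockRank p (ab H (mapA φ (eB M c))) = blockRank p c := by
  subst h
  rw [← rank_tb (MonoidHom.ofInjective hφ) c, ← ab_aE hM (isPBlock_tb (MonoidHom.ofInjective hφ) hc), aE,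
    eB_tb hM _ hc, incA, mapA_mapA]
  rfl

/-- block idempotents of overgroups of `C(P)` lying under `(P, e)` -/
def Loc (P : Subgroup G) (e : (k M)[G]) (K : Subgroup G) (f : (k M)[G]) : Prop := IsBI K f ∧ Br P f * e = e

theorem Loc.unique (hM : IsPModular p M) (hm : MaxP p j P e) (h1 : P ≤ K) (h : Loc P e K f) (h' : Loc P e K f') :
    f = f' :=
  h.1.eq_of_Br hM h'.1 h1 hm.dg.isP fun h2 => hm.be.ne (by rw [← h.2, ← h'.2, ← mul_assoc, h2, zero_mul])

theorem MaxP.le_C1 (hab : P ≤ CS P) (t : P) : CS P ≤ C1 (t : G) ∧ P ≤ C1 (t : G) :=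
  have : CS P ≤ C1 (t : G) := fun g hg => mem_centralizer_singleton.2 (hg t t.2)
  ⟨this, hab.trans this⟩

theorem MaxP.loc_lb (hM : IsPModular p M) (hB : IsPBlock M B) (hm : MaxP p (eB M B) P e) (hab : P ≤ CS P) (t : P) :
    Loc P e (C1 (t : G)) (aE M _ (H4.lb p P e t)) :=
  have := hm.lb hM hB t
  ⟨isBI_aE hM this.1.1, (this.2.nsub hM ((hab.trans (CS_anti this.2.le)).trans (CS_le_NS _))).mul⟩

theorem MaxP.down (hM : IsPModular p M) (hm : MaxP p j P e) (h1 : CS P ≤ H) (hb : IsPBlock M b)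
    (h2 : ADG p H (aE M H b) P) (h3 : Br P (aE M H b) * e = e) :
    MaxP p (eB M b) (P.subgroupOf H) (resA H e) ∧ incA H (resA H e) = e ∧
      ∀ y : H, y ∈ Stab (NS (P.subgroupOf H)) (resA H e) ↔ (y : G) ∈ Stab (NS P) e := by
  have h4 := Subgroup.map_subgroupOf_eq_of_le h2.le
  have h5 : incA H (resA H e) = e := incA_resA_of_Sup (Sup_mono h1 hm.be.mem.2)
  refine ⟨⟨isBI_eB hM hb, (dg_iff_ADG_top hM hb).1 ((dg_iff_ADG hM hb h2.le).2 h2), isBI_incA.1 ?_,
    incA_injective ?_⟩, h5, fun y => and_congr ?_ ?_⟩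
  · rw [CS_map_subtype, h4, inf_eq_left.2 h1, h5]; exact hm.be
  · rw [map_mul, ← Br_incA, h4, h5, h3]
  · rw [← Subgroup.mem_map_iff_mem H.subtype_injective, NS_subgroupOf_map h2.le]; exact and_iff_left y.2
  · rw [← incA_injective.eq_iff, ← cj_incA, h5]

theorem MaxP.down_lb (hM : IsPModular p M) (hm : MaxP p j P e) (hab : P ≤ CS P) (h1 : CS P ≤ H) (hb : IsPBlock M b)
    (h2 : ADG p H (aE M H b) P) (h3 : Br P (aE M H b) * e = e) (t : P.subgroupOf H) :
    ∃ f, Loc P e (H ⊓ C1 (t : G)) f ∧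
      blockRank p (H4.lb p (P.subgroupOf H) (resA H e) t) = blockRank p (ab (H ⊓ C1 (t : G)) f) := by
  obtain ⟨h4, h5, -⟩ := hm.down hM h1 hb h2 h3
  have h6 := h4.loc_lb hM hb (fun x hx y hy => Subtype.ext (hab hx y hy)) t
  have h7 : (C1 (t : H)).map H.subtype = H ⊓ C1 (t : G) := by
    ext y
    simp only [Subgroup.mem_map, Subgroup.mem_inf, mem_centralizer_singleton]
    exact ⟨fun ⟨y, h, e⟩ => e ▸ ⟨y.2, congrArg Subtype.val h⟩, fun h => ⟨⟨y, h.1⟩, Subtype.ext h.2, rfl⟩⟩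
  refine ⟨incA H (aE M _ (H4.lb p (P.subgroupOf H) (resA H e) t)), ⟨h7 ▸ isBI_incA.2 h6.1, ?_⟩, ?_⟩
  · have := congrArg (incA H) h6.2
    rwa [map_mul, ← Br_incA, Subgroup.map_subgroupOf_eq_of_le h2.le, h5] at this
  · rw [aE, incA, incA, mapA_mapA, ab_map hM (H.subtype.comp (C1 (t : H)).subtype)
      (H.subtype_injective.comp (C1 (t : H)).subtype_injective)
      (by rw [MonoidHom.range_comp, Subgroup.range_subtype, h7]) (h4.lb hM hb t).1.1]

theorem sum_hom_ab [Fintype P] (hM : IsPModular p M) (hB : IsPBlock M B) (hm : MaxP p (eB M B) P e) (hab : P ≤ CS P)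
    {l : P →* ℂˣ} (h : TI (Stab (NS P) e) fun t => (l t : ℂ)) (hl : l ≠ 1) :
    ∑ t, (l t : ℂ) * (Nat.card (Stab (NS P) e ⊓ C1 (t : G) : Subgroup G) * blockRank p (lb p P e t)) = 0 := by
  cases nonempty_fintype G
  rw [← sum_inner_star_ab hM hB hm hab h, Finset.sum_eq_zero fun χ hχ => ?_, mul_zero]
  have h1 := mem_fs.1 hχ
  obtain ⟨ψ, -, h4, -⟩ := irr_star hM hB hm h1 (h.st hM hm hab) (H3.char_hom l) (by
    rw [inner_star_star hM (H3.irr_class χ.2) (H3.irr_class χ.2), ← H3.irr_inner_self χ.2]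
    convert congrArg (classInner · χ.1) (star_const hM hB hm h1)
    funext t
    simp [Complex.mul_conj, Complex.normSq_eq_norm_sq, H3.norm_hom])
  rw [← h4]
  refine H3.irr_inner_ne ψ.2 χ.2 fun h5 => hl (MonoidHom.ext fun t => Units.ext ?_)
  obtain ⟨h6, h7⟩ := hm.lb hM hB t
  have := Fintype.ofFinite (C1 (t : G))
  exact (h.st hM hm hab).eq_one hM (H3.irr_class χ.2) (h4.symm.trans h5) hm.dg.isP h6.1 h7
    ((sec_cEl (isPElt_of_mem hp.out hm.dg.isP t.2)).sb_ne_zero hM h6 (hm.dg_lb hM hB hab t).2 h1)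

theorem sum_coset {A : Type*} [Group A] [Fintype A] (L : Subgroup (A →* ℂˣ)) (w : A → ℂ)
    (h : ∀ l ∈ L, l ≠ 1 → ∑ t, (l t : ℂ) * w t = 0) (a : A) [DecidablePred fun t : A => ∀ l ∈ L, l t = 1] :
    ∑ t with ∀ l ∈ L, l t = 1, w (a * t) = ∑ t with ∀ l ∈ L, l t = 1, w t := by
  classical
  cases nonempty_fintype L
  have h1 : ∀ t, ∑ l : L, (l.1 t : ℂ) = if ∀ l ∈ L, l t = 1 then (Nat.card L : ℂ) else 0 := fun t => by
    split_ifs with e
    · simp [e _ (Subtype.prop _)]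
    · push Not at e
      obtain ⟨m, h1, h2⟩ := e
      have : ∑ l : L, (l.1 t : ℂ) = m t * ∑ l : L, (l.1 t : ℂ) := by
        rw [Finset.mul_sum]
        exact (Fintype.sum_equiv (Equiv.mulLeft ⟨m, h1⟩) _ _ fun φ => by simp).symm
      by_contra h
      exact h2 (Units.ext (mul_right_cancel₀ h ((one_mul _).trans this)).symm)
  have h2 : ∀ a : A, Nat.card L * ∑ t with ∀ l ∈ L, l t = 1, w (a * t) = ∑ t, w t := fun a => by
    have : ∑ l : L, (l.1 a⁻¹ : ℂ) * ∑ t, (l.1 t : ℂ) * w t = ∑ t, w t := by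
      rw [Finset.sum_eq_single 1 (fun l _ hl => by rw [h l l.2 (by simpa using hl), mul_zero]) (by simp)]
      simp
    rw [← this, Finset.sum_filter, Finset.mul_sum]
    simp only [Finset.mul_sum]
    rw [Finset.sum_comm]
    refine Fintype.sum_equiv (Equiv.mulLeft a) _ _ fun t => ?_
    simp only [Equiv.coe_mulLeft, ← mul_assoc, ← Units.val_mul, ← map_mul, inv_mul_cancel, one_mul, ← Finset.sum_mul, h1]
    split_ifs <;> simp
  refine mul_left_cancel₀ (H3.card_ne_zero' L) ((h2 a).trans ?_)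
  simpa using (h2 1).symm

theorem exists_inv_hom (hP : IsPGroup p P) (hab : P ≤ CS P) (h1 : T ≤ NS P) (h2 : ¬ p ∣ (CS P).relIndex T) {y : P}
    (hy : y ≠ 1) (h : T ≤ C1 (y : G)) : ∃ l : P →* ℂˣ, TI T (fun t => (l t : ℂ)) ∧ l y ≠ 1 := by
  obtain ⟨m, hm⟩ := H3.exists_hom_ne_one (g := y) (by
    rwa [(commutator_eq_bot_iff _).mpr ⟨⟨fun a c => Subtype.ext (hab c.2 a a.2)⟩⟩, Subgroup.mem_bot])
  cases nonempty_fintype (ga P T)
  refine ⟨∏ γ : ga P T, m.comp γ.1.toMonoidHom, (ai_ga h1).1 fun γ hγ t => congrArg Units.val ?_, fun e => hm ?_⟩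
  · simp only [MonoidHom.finsetProd_apply]
    exact Fintype.prod_equiv (Equiv.mulRight ⟨γ, hγ⟩) _ _ fun _ => rfl
  · rw [MonoidHom.finsetProd_apply, Finset.prod_congr rfl (g := fun _ => m y) fun γ _ => ?_, Finset.prod_const,
      Finset.card_univ, ← Nat.card_eq_fintype_card, card_ga h1] at e
    · obtain ⟨n, hn⟩ := hP y
      exact H3.eq_one_of_pow_coprime (Nat.Coprime.pow_right n ((hp.out.coprime_iff_not_dvd.2 h2).symm)) e
        (by rw [← map_pow, hn, map_one])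
    · obtain ⟨x, h3, h4⟩ := (mem_ga h1).1 γ.2
      exact congrArg m (Subtype.ext ((h4 y).trans (mul_inv_eq_iff_eq_mul.2 (mem_centralizer_singleton.1 (h h3)).symm)))

variable (p M) in
/-- Watanabe's statement for a group -/
def Wat (G : Type u) [Group G] [Finite G] : Prop := ∀ (B : Set (IrrCharacter G)) P e, IsPBlock M B →
  MaxP p (eB M B) P e → P ≤ CS P → ∀ u : P, Stab (NS P) e ≤ C1 (u : G) → blockRank p B = blockRank p (lb p P e u)

theorem Wat.step (hM : IsPModular p M) (hB : IsPBlock M B) (hm : MaxP p (eB M B) P e) (hab : P ≤ CS P) {y u : P}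
    (W : Wat M p (C1 (y : G))) (h : Stab (NS P) e ⊓ C1 (y : G) ≤ C1 (u : G)) :
    ∃ f, Loc P e (C1 (y : G) ⊓ C1 (u : G)) f ∧
      blockRank p (lb p P e y) = blockRank p (ab (C1 (y : G) ⊓ C1 (u : G)) f) := by
  obtain ⟨h1, h2⟩ := MaxP.le_C1 hab y
  have h3 := (hm.lb hM hB y).1.1
  have h4 := (dg_iff_ADG hM h3 h2).1 (hm.dg_lb hM hB hab y).1
  have h5 := (hm.loc_lb hM hB hab y).2
  obtain ⟨h6, -, h7⟩ := hm.down hM h1 h3 h4 h5
  obtain ⟨f, h8, h9⟩ := hm.down_lb hM hab h1 h3 h4 h5 ⟨⟨u, h2 u.2⟩, u.2⟩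
  exact ⟨f, h8, (W _ _ _ h3 h6 (fun x hx y hy => Subtype.ext (hab hx y hy)) ⟨⟨u, h2 u.2⟩, u.2⟩ fun x hx =>
    mem_centralizer_singleton.2 (Subtype.ext (mem_centralizer_singleton.1 (h ⟨(h7 x).1 hx, x.2⟩)))).trans h9⟩

theorem wat (hM : IsPModular p M) (G : Type u) [Group G] [Finite G] : Wat M p G := by
  classical
  induction hn : Nat.card G using Nat.strong_induction_on generalizing G with
  | _ n ih =>
  intro B P e hB hm hab u hu
  cases nonempty_fintype P
  let L : Subgroup (P →* ℂˣ) := ⟨⟨⟨{l | TI (Stab (NS P) e) fun t => (l t : ℂ)}, fun h h' y hy t t' e => by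
    simp only [MonoidHom.mul_apply, Units.val_mul]
    exact congrArg₂ _ (h y hy t t' e) (h' y hy t t' e)⟩, fun _ _ _ _ _ => rfl⟩, fun h y hy t t' e => by
    simp only [MonoidHom.inv_apply, Units.val_inv_eq_inv_val]
    exact congrArg _ (h y hy t t' e)⟩
  have h1 := sum_coset L _ (fun l hl => sum_hom_ab hM hB hm hab hl) u
  have h2 : ∀ a t : P, C1 ((a * t : P) : G) ⊓ C1 (a : G) = C1 (t : G) ⊓ C1 (a : G) := fun a t => by
    ext x
    simp only [Subgroup.mem_inf, mem_centralizer_singleton]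
    exact and_congr_left fun h => ⟨fun h' => by simpa using h.inv_left.mul_left h', h.mul_left⟩
  have h3 : ∀ t : P, Stab (NS P) e ⊓ C1 ((u * t : P) : G) = Stab (NS P) e ⊓ C1 (t : G) := fun t => by
    rw [← inf_eq_left.2 hu, inf_assoc, inf_assoc, inf_comm (C1 _), h2, inf_comm (C1 _)]
  have h0 : (1 : P) ∈ Finset.univ.filter fun t : P => ∀ l ∈ L, l t = 1 := by simp
  rw [← Finset.add_sum_erase _ _ h0, ← Finset.add_sum_erase _ _ h0] at h1
  have h1' := h1.trans (congrArg _ (Finset.sum_congr rfl fun t ht => ?_ : ∑ t ∈ _, ((Nat.card (Stab (NS P) e ⊓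
    C1 ((u * t : P) : G) : Subgroup G) : ℂ) * blockRank p (lb p P e ((u * t : P) : G))) = _).symm)
  · rw [add_left_inj, h3, mul_right_inj' (H3.card_ne_zero' _), Nat.cast_inj, mul_one, OneMemClass.coe_one,
      rank_lb_one hM hB hm] at h1'
    exact h1'.symm
  obtain ⟨h4, h5⟩ := Finset.mem_erase.1 ht
  have h6 : ¬ Stab (NS P) e ≤ C1 (t : G) := fun h => by
    obtain ⟨l, h6, h7⟩ := exists_inv_hom hm.dg.isP hab (Stab_le _ _) (hm.not_dvd' hM hab) h4 h
    exact h7 ((Finset.mem_filter.1 h5).2 l h6)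
  have h7 : ∀ s : P, Stab (NS P) e ⊓ C1 (s : G) = Stab (NS P) e ⊓ C1 (t : G) → Wat M p (C1 (s : G)) := fun s h =>
    ih _ (hn ▸ (Subgroup.card_le_card_group _).lt_of_ne fun e' => h6 (by
      rw [Subgroup.eq_top_of_card_eq _ e', inf_top_eq] at h
      exact h.le.trans inf_le_right)) _ rfl
  obtain ⟨f, h8, h9⟩ := (h7 t rfl).step hM hB hm hab (inf_le_left.trans hu)
  obtain ⟨f', h10, h11⟩ := (h7 _ (h3 t)).step hM hB hm hab (inf_le_left.trans hu)
  rw [h2] at h10 h11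
  rw [h3, h9, h11, h8.unique hM hm (le_inf (MaxP.le_C1 hab t).2 (MaxP.le_C1 hab u).2) h10]

theorem wat_card (hM : IsPModular p M) (hB : IsPBlock M B) (hm : MaxP p (eB M B) P e) (hab : P ≤ CS P) {u : P}
    (hu : Stab (NS P) e ≤ C1 (u : G)) : Nat.card B = Nat.card (lb p P e u) := by
  cases nonempty_fintype P
  cases nonempty_fintype (P.subgroupOf (C1 (u : G)))
  obtain ⟨h1, h2⟩ := MaxP.le_C1 hab u
  have h3 := (hm.lb hM hB u).1.1
  have h4 := (dg_iff_ADG hM h3 h2).1 (hm.dg_lb hM hB hab u).1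
  have h5 := (hm.loc_lb hM hB hab u).2
  obtain ⟨h6, -, h7⟩ := hm.down hM h1 h3 h4 h5
  have h8 : ∀ {K : Subgroup (C1 (u : G))} {K' : Subgroup G}, K' ≤ C1 (u : G) → (∀ y, y ∈ K ↔ y.1 ∈ K') →
      Nat.card K = Nat.card K' := fun {K K'} h h' => by
    rw [← Nat.card_congr (Subgroup.subgroupOfEquivOfLe h).toEquiv, show K = K'.subgroupOf _ from Subgroup.ext h']
  refine Nat.eq_of_mul_eq_mul_left (Nat.card_pos (α := Stab (NS P) e)) ?_
  rw [card_mul_card_ab hM hB hm hab, ← h8 hu h7, card_mul_card_ab hM h3 h6 fun x hx y hy => Subtype.ext (hab hx y hy)]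
  refine (Fintype.sum_equiv (Subgroup.subgroupOfEquivOfLe h2).toEquiv _ _ fun t => ?_).symm
  obtain ⟨f, h9, h10⟩ := hm.down_lb hM hab h1 h3 h4 h5 t
  obtain ⟨f', h11, h12⟩ := (wat hM _).step hM hB hm hab (y := Subgroup.subgroupOfEquivOfLe h2 t) (inf_le_left.trans hu)
  rw [inf_comm] at h11 h12
  refine congrArg₂ _ (h8 (inf_le_left.trans hu) fun y => and_congr (h7 y) ?_) (h10.trans (.trans ?_ h12.symm))
  · exact mem_centralizer_singleton.trans (.trans ⟨congrArg Subtype.val, Subtype.ext⟩ mem_centralizer_singleton.symm)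
  · rw [h9.unique hM hm (le_inf h2 (MaxP.le_C1 hab (Subgroup.subgroupOfEquivOfLe h2 t)).2) h11]; rfl

end H4
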