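import Cfsg.Agent.H4.Cyc
import Cfsg.Agent.H4.Wat

/-!
# Blocks with cyclic defect groups
`fb_cyc`, `cyc_rank`, `cyc_fs`, `cyc_dade`.
-/

set_option autoImplicit false
set_option linter.unusedSectionVars false

namespace H4
open MonoidAlgebra Cfsg H1 H3
open scoped Pointwise ComplexConjugate

variable {G : Type*} [Group G] [Finite G] {M : Ideal AlgInt} {p : ℕ} [hp : Fact p.Prime] {P T : Subgroup G}
  {e : (k M)[G]} {B : Set (IrrCharacter G)} {χ ψ : IrrCharacter G}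

theorem v_ev_nil {θ : G → ℂ} (hθ : IsCharacter G θ) {a : ℂ[G]} (ha : a ∈ IntA G M) (h : IsNilpotent (redA M a)) :
    v M (ev θ a) < 1 := by
  obtain ⟨n, ρ, rfl⟩ := hθ
  obtain ⟨m, hm⟩ := h
  let ρ' := MonoidAlgebra.lift ℂ _ G ρ
  have h1 : ρ.character = fun g => LinearMap.trace ℂ _ (repA ρ' g) := funext fun g => by
    simp [ρ', repA_apply, Representation.character]
  rw [h1, ev_trace, Module.End.trace_eq_sum_roots_charpoly_of_splits (IsAlgClosed.splits _)]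
  refine Multiset.sum_induction (fun x => v M x < 1) _ (fun a b h h' => Valuation.map_add_lt (v M) (x := a) (y := b) h h')
    (show v M 0 < 1 by simp) fun μ hμ => ?_
  obtain ⟨w, hw⟩ := ((Module.End.hasEigenvalue_iff_isRoot_charpoly _ _).2 (Polynomial.isRoot_of_mem_roots hμ)).exists_hasEigenvector
  by_contra! h2
  have h3 : μ ≠ 0 := fun e => by simp [e] at h2
  have h4 : (μ ^ m)⁻¹ ∈ O M := mem_O_iff.2 (by rw [map_inv₀, map_pow]; exact inv_le_one_of_one_le₀ (one_le_pow₀ h2))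
  have h5 := smul_mem_IntA h4 (pow_mem ha m)
  obtain ⟨b, -, -, h6⟩ := exists_inv_of_redA_eq_one (sub_mem (one_mem _) h5) (by
    rw [redA_sub (one_mem _) h5, redA_smul h4 (pow_mem ha m), redA_pow ha, hm]; simp)
  have := congrArg (fun x => ρ' x w) h6
  simp [hw.pow_apply, smul_smul, h3] at this
  exact hw.2 this.symm

theorem card_le_rank_sigma (hM : IsPModular p M) (hB : IsPBlock M B) {ι κ : Type*} [Fintype ι] {d : κ → ℕ}
    (ρ : ∀ i, (k M)[G] →ₐ[k M] Module.End (k M) (Fin (d i) → k M)) (a0 : ∀ i, d i ≠ 0)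
    (a1 : ∀ f : ∀ i, Module.End (k M) (Fin (d i) → k M), ∃ a, ∀ i, ρ i a = f i) {σ : ι → κ} (hσ : σ.Injective)
    (h : ∀ j, ρ (σ j) (eB M B) = 1) : Fintype.card ι ≤ blockRank p B := by
  haveI := charP_k hM
  refine card_le_rank_of hM hB (fun j g => LinearMap.trace _ _ (repA (ρ (σ j)) g)) (fun j g x => ?_) (fun j g => ?_)
    fun c hc => trace_indep ρ a0 a1 hσ hc
  · rw [map_mul, LinearMap.trace_mul_comm, ← map_mul, inv_mul_cancel_left]
  · rw [ev_trace, map_mul, h, one_mul, repA_apply]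

theorem exists_prim (hM : IsPModular p M) (hB : IsPBlock M B) (h : blockRank p B = 1) : ∃ i : (k M)[G], i * i = i ∧
    eB M B * i = i ∧ i ≠ 0 ∧ (∀ a, ∃ c : k M, ∀ b, IsNilpotent ((i * a * i - c • i) * b)) ∧
      ∃ (n : ℕ) (a b : Fin n → (k M)[G]), ∀ y, IsNilpotent ((eB M B - ∑ s, a s * i * b s) * y) := by
  classical
  obtain ⟨n, d, ρ, a0, a1, a2⟩ := wedderburn (k M) (k M)[G]
  have hee := eB_mul_self hM hB
  have k1 : ∀ j, ρ j (eB M B) = 0 ∨ ρ j (eB M B) = 1 := fun j => by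
    obtain ⟨l, hl⟩ := scalar_of_surj (ρ j) (fun f => let ⟨a, ha⟩ := a1 (Pi.single j f); ⟨a, by
      rw [ha, Pi.single_eq_same]⟩) (ρ j (eB M B)) fun g => by rw [repA_apply, ← map_mul, Z_comm (eB_mem_Z B), map_mul]
    by_cases e1 : l = 0
    · exact .inl (LinearMap.ext fun v => by simp [hl, e1])
    · exact .inr (LinearMap.ext fun v => smul_right_injective _ e1 (by
        show l • ρ j (eB M B) v = l • v
        rw [← hl, ← hl, ← Module.End.mul_apply, ← map_mul, hee]))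
  obtain ⟨j, hj⟩ : ∃ j, ρ j (eB M B) = 1 := by
    by_contra! hc
    exact eB_ne_zero hM hB (idem_eq_zero_of_isNilpotent hee (a2 _ fun j => (k1 j).resolve_right (hc j)))
  have k2 : ∀ l, l ≠ j → ρ l (eB M B) = 0 := fun l hl => (k1 l).resolve_right fun e => by
    have := card_le_rank_sigma hM hB ρ a0 a1 (σ := ![l, j]) (by
      intro x y; fin_cases x <;> fin_cases y <;> simp [hl, hl.symm]) fun x => by fin_cases x <;> assumption
    simp [h] at this
  let i0 : Fin (d j) := ⟨0, Nat.pos_of_ne_zero (a0 _)⟩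
  let U : Fin (d j) → Fin (d j) → Module.End (k M) (Fin (d j) → k M) := fun a b =>
    (LinearMap.proj b).smulRight (Pi.single a 1)
  choose A hA using fun a b => a1 (Pi.single j (U a b))
  obtain ⟨i, h1, h2⟩ := exists_isIdempotentElem_eq_of_ker_isNilpotent (Pi.ringHom fun l => (ρ l).toRingHom)
    (fun x hx => a2 x fun l => congrFun (RingHom.mem_ker.1 hx) l) (Pi.single j (U i0 i0)) ⟨A i0 i0, funext (hA _ _)⟩ (by
      rw [IsIdempotentElem, ← Pi.single_mul]; congr 1; ext; simp [U])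
  have k3 : ρ j (eB M B * i) = U i0 i0 := by
    rw [map_mul, hj, one_mul]; exact (congrFun h2 j).trans (Pi.single_eq_same _ _)
  have k4 : ∀ l, l ≠ j → ρ l (eB M B * i) = 0 := fun l hl => by rw [map_mul, k2 l hl, zero_mul]
  refine ⟨eB M B * i, by rw [mul_assoc, ← mul_assoc i, ← Z_comm (eB_mem_Z B) i, mul_assoc, h1, ← mul_assoc, hee],
    by rw [← mul_assoc, hee], fun e => ?_, fun a => ⟨ρ j a (Pi.single i0 1) i0, fun b => a2 _ fun l => ?_⟩,
    d j, fun s => A s i0, fun s => A i0 s, fun y => a2 _ fun l => ?_⟩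
  · simpa [e, U] using congrFun (LinearMap.congr_fun k3 (Pi.single i0 1)) i0
  · rw [map_mul, map_sub, map_smul, map_mul _ _ (eB M B * i), map_mul _ _ a]
    by_cases e : l = j
    · subst e
      rw [k3, show U i0 i0 * ρ l a * U i0 i0 - _ = 0 from sub_eq_zero.2 (LinearMap.ext fun w => by
        simp [U, smul_smul, mul_comm]), zero_mul]
    · simp [k4 l e]
  · simp only [map_mul _ _ y, map_sub, map_sum, map_mul _ _ (A _ _), map_mul _ (A _ _), hA]
    by_cases e : l = j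
    · subst e
      rw [k3, hj, show (1 : Module.End (k M) _) - _ = 0 from sub_eq_zero.2 (LinearMap.ext fun w => by
        simp [U, ← Pi.single_smul', Finset.univ_sum_single]), zero_mul]
    · simp [k4 l e, k2 l e]

theorem ANil.lin (hM : IsPModular p M) (hB : IsPBlock M B) (hN : ANil p ⊤ (eB M B)) (hm : MaxP p (eB M B) P e)
    (hab : P ≤ CS P) (hχ : χ ∈ B) : ∃ Φ : (P →* ℂˣ) ≃ B, ∀ l, (Φ l).1.1 = star p e χ.1 (hf l) := by
  have := Fintype.ofFinite G
  obtain ⟨Φ, h⟩ := hN.bij hM hB hm hχ (hN.ab hM hB ((dg_iff_ADG_top hM hB).2 hm.dg) hab hχ).2.1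
  exact ⟨(Equiv.ofBijective (fun l => (⟨hf l, isIrr_hom l⟩ : IrrCharacter P)) ⟨fun a b e => MonoidHom.ext fun t =>
    Units.ext (congrFun (congrArg Subtype.val e) t), fun η => (irr_exists_hom_of_comm η.2 fun a b =>
      Subtype.ext (hab b.2 a a.2)).imp fun l hl => Subtype.ext hl.symm⟩).trans Φ, fun l => (h _).1⟩

theorem geom_char_pow {F A : Type*} [Field F] [CharP F p] [Ring A] [Algebra F A] (a : A) (n : ℕ) :
    ∑ j ∈ Finset.range (p ^ n), a ^ j = (a - 1) ^ (p ^ n - 1) := by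
  have h : ∑ j ∈ Finset.range (p ^ n), (Polynomial.X : Polynomial F) ^ j = (Polynomial.X - 1) ^ (p ^ n - 1) := by
    refine mul_right_cancel₀ (Polynomial.X_sub_C_ne_zero 1) ?_
    rw [map_one, geom_sum_mul, ← pow_succ, Nat.sub_add_cancel (Nat.one_le_pow _ _ hp.out.pos), sub_pow_char_pow, one_pow]
  simpa using congrArg (Polynomial.aeval a) h

theorem ANil.exists_t (hM : IsPModular p M) (hB : IsPBlock M B) (hN : ANil p ⊤ (eB M B)) (hP : IsDefectGroup p M B P)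
    {u : G} (hu : P = Subgroup.zpowers u) {s : ℕ} (ho : orderOf u = p ^ (s + 1)) (hz : u ^ p ^ s ∈ Subgroup.center G) :
    ∃ t ∈ Z (k M) G, eB M B * t = t ∧ t ^ p ^ s = (single (u ^ p ^ s) 1 - 1) * eB M B ∧
      ∀ a, (∀ b, IsNilpotent (a * b)) → t ^ (p ^ (s + 1) - 1) * a = 0 := by
  classical
  have := charP_k hM
  have := Fintype.ofFinite G
  subst hu
  set P := Subgroup.zpowers u
  have := Fintype.ofFinite P
  obtain ⟨e, hm⟩ := exists_maxP hM hB hP
  obtain ⟨χ, hχ⟩ := block_nonempty hM hB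
  have hab := cyclic_le_CS (P := P) inferInstance
  have hc : ∀ a b : P, a * b = b * a := fun a b => Subtype.ext (hab b.2 a a.2)
  obtain ⟨Φ, h1⟩ := hN.lin hM hB hm hab hχ
  have hq : Nat.card P = p ^ (s + 1) := by rw [Nat.card_zpowers, ho]
  let τ : P → ℂ[G] := fun x => ∑ l, (l x : ℂ) • fI {(Φ l).1}
  have k0 : ∀ x, τ x ∈ Z ℂ G := fun x => sum_mem fun l _ => Subalgebra.smul_mem _ (fI_mem_Z _) _
  have k1 : ∀ x l, om (Φ l).1.1 (τ x) = l x := fun x l => by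
    simp [τ, om_fI, Subtype.val_inj]
  have k2 : ∀ x, ∀ ψ ∉ B, om ψ.1 (τ x) = 0 := fun x ψ h => by
    simp [τ, om_fI, show ∀ l, ψ ≠ (Φ l).1 from fun l e => h (e ▸ (Φ l).2)]
  have ext : ∀ {a b}, a ∈ Z ℂ G → b ∈ Z ℂ G → (∀ l, om (Φ l).1.1 a = om (Φ l).1.1 b) →
      (∀ ψ ∉ B, om ψ.1 a = om ψ.1 b) → a = b := fun ha hb h h' => Z_ext ha hb fun ψ => by
    by_cases e : ψ ∈ B
    exacts [by simpa using h (Φ.symm ⟨ψ, e⟩), h' ψ e]
  have k3 : ∀ x y, τ (x * y) = τ x * τ y := fun x y => ext (k0 _) (mul_mem (k0 _) (k0 _))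
    (fun l => by simp [om_mul (Φ l).1.2 (k0 x), k1]) fun ψ h => by simp [om_mul ψ.2 (k0 x), k2 _ ψ h]
  have k4 : τ 1 = fI B := ext (k0 _) (fI_mem_Z _) (fun l => by simp [k1, om_fI_of_mem (Φ l).2])
    fun ψ h => by simp [k2 _ ψ h, om_fI_of_notMem h]
  have k5 : ∀ l, (Φ l).1.1 1 = χ.1 1 := fun l => by simp [h1, star_of_reg hM hB hm hχ _ (not_dvd_orderOf_one hp.out)]
  have k6 : ((p ^ blockDefect p B : ℕ) : ℂ) = Nat.card P := by rw [dg_card hM hB hP]
  have k7 : ∀ x, τ x ∈ IntA G M := fun x g => by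
    have e1 : ∑ l : P →* ℂˣ, (l x : ℂ) • hf l = ∑ _ ∈ {()}, (Nat.card P : ℂ) • Pi.single x⁻¹ 1 := funext fun y => by
      simp only [Finset.sum_apply, Pi.smul_apply, smul_eq_mul, hf_apply, ← Units.val_mul, ← map_mul, Finset.sum_singleton]
      by_cases e : y = x⁻¹
      · simpa [e] using sum_hom_one hc
      · rw [sum_hom hc (mt eq_inv_of_mul_eq_one_right e)]; simp [e]
    have e2 := congrArg (star p e χ.1 · g⁻¹) e1
    simp only [star_sum] at e2
    simp only [Finset.sum_apply, Pi.smul_apply, smul_eq_mul, Finset.sum_singleton, ← h1] at e2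
    have e3 : (τ x).coeff g = hw p B χ.1 * star p e χ.1 (Pi.single x⁻¹ 1) g⁻¹ := by
      rw [hw, k6, mul_div_assoc, mul_right_comm, ← e2, Finset.sum_mul, coeff_sum']
      refine Finset.sum_congr rfl fun l _ => ?_
      simp [blockCoeff_eq, show fs ({(Φ l).1} : Set _) = {(Φ l).1} from Finset.ext fun _ => by simp [mem_fs], k5,
        irr_inv]
      ring
    rw [e3]
    exact mul_mem (hw_mem_O hM hχ) (star_int hM hB hm hχ (fun t => by
      by_cases e : t = x⁻¹ <;> simp [e, one_mem, zero_mem]) _).1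
  let x : P := ⟨u, Subgroup.mem_zpowers u⟩
  have hee := eB_mul_self hM hB
  have k8 : eB M B * redA M (τ x) = redA M (τ x) := by
    rw [← redA_fI, ← redA_mul (fI_mem_IntA hM hB) (k7 x), ← k4, ← k3, one_mul]
  have k9 : ∀ j, (redA M (τ x) - eB M B + 1) ^ j * eB M B = redA M (τ (x ^ j)) := fun j => by
    induction j with
    | zero => simp [k4, redA_fI]
    | succ j ih => rw [pow_succ, mul_assoc, ← Z_comm (eB_mem_Z B), mul_add, mul_sub, k8, hee, mul_one,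
        sub_add_cancel, pow_succ, k3, redA_mul (k7 _) (k7 _), ← ih, mul_assoc, k8]
  have kZ : redA M (τ x) - eB M B ∈ Z (k M) G := sub_mem (redA_mem_Z (k0 x)) (eB_mem_Z B)
  have kf : eB M B * (redA M (τ x) - eB M B) = redA M (τ x) - eB M B := by rw [mul_sub, k8, hee]
  have kp : ∀ n, n ≠ 0 → (redA M (τ x) - eB M B) ^ n * eB M B = (redA M (τ x) - eB M B) ^ n := fun n hn => by
    obtain ⟨n, rfl⟩ := Nat.exists_eq_succ_of_ne_zero hn
    rw [pow_succ, mul_assoc, ← Z_comm (eB_mem_Z B), kf]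
  refine ⟨_, kZ, kf, ?_, fun a ha => ?_⟩
  · have := charP_monoidAlgebra (F := k M) (G := G) (p := p)
    have e1 := k9 (p ^ s)
    rw [add_pow_char_pow_of_commute _ _ (Commute.one_right _), one_pow, add_mul, one_mul,
      kp _ (pow_ne_zero _ hp.out.ne_zero)] at e1
    have z1 := single_mem_Z hz (1 : ℂ)
    have e2 : single (u ^ p ^ s) 1 * fI B = om χ.1 (single (u ^ p ^ s) 1) • τ (x ^ p ^ s) :=
      ext (mul_mem z1 (fI_mem_Z _)) (Subalgebra.smul_mem _ (k0 _) _) (fun l => by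
        rw [om_mul (Φ l).1.2 z1, om_fI_of_mem (Φ l).2, map_smul, k1, om_apply, om_apply, k5, ev_single, ev_single, h1,
          star_apply_of hM hB hm hχ (c := l (x ^ p ^ s)) fun t ht => ?_]
        · simp; ring
        · rw [pp_of_isPElt hp.out (isPElt_of_mem hp.out hm.dg.isP (pow_mem x.2 _))] at ht
          obtain ⟨c, hc⟩ := isConj_iff.1 ht
          rw [Subgroup.mem_center_iff.1 hz c, mul_inv_cancel_right] at hc
          exact congrArg (hf l) (Subtype.ext hc.symm))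
        fun ψ h => by rw [om_mul ψ.2 z1, om_fI_of_notMem h, map_smul, k2 _ ψ h]; simp
    have e3 : om χ.1 (single (u ^ p ^ s) 1) ^ p ^ 1 = 1 := by
      have := map_pow (omHom χ.2) ⟨_, z1⟩ (p ^ 1)
      rw [omHom_apply, omHom_apply] at this
      rw [← this]
      simp [single_pow, ← pow_mul, ← pow_succ, ← ho, ← one_def, om_one χ.2]
    have e4 := congrArg (redA M) e2
    rw [redA_mul (single_mem_IntA _ (one_mem _)) (fI_mem_IntA hM hB), redA_smul (om_mem_O χ.2 z1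
      (single_mem_IntA _ (one_mem _))) (k7 _), red_eq_one_of_pow_p_pow hM e3, one_smul, ← e1, redA_fI, redA_single, red_one] at e4
    rw [sub_mul, one_mul, ← eq_sub_iff_add_eq.2 e4.symm]
  · have e1 : ∑ y, τ y = (Nat.card P : ℂ) • fI {χ} := ext (sum_mem fun y _ => k0 y)
      (Subalgebra.smul_mem _ (fI_mem_Z _) _) (fun l => by
        have e2 : (Φ 1).1 = χ := Subtype.ext ((h1 1).trans (star_const hM hB hm hχ))
        have := inner_hf l 1
        simp only [classInner, hf_apply, MonoidHom.one_apply, Units.val_one, star_one, mul_one] at this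
        simpa [k1, om_fI, ← e2, Subtype.val_inj] using (inv_mul_eq_iff_eq_mul₀ (card_ne_zero' P)).1 this)
      fun ψ h => by simp [k2 _ ψ h, om_fI, show ψ ≠ χ from fun e => h (e ▸ hχ)]
    have e2 : (redA M (τ x) - eB M B) ^ (p ^ (s + 1) - 1) = redA M ((Nat.card P : ℂ) • fI {χ}) := by
      rw [← kp _ (Nat.sub_ne_zero_of_lt (Nat.one_lt_pow s.succ_ne_zero hp.out.one_lt)), ← add_sub_cancel_right (_ - _) 1,
        ← geom_char_pow (F := k M), Finset.sum_mul, ← e1, redA_sum _ _ fun y _ => k7 y, ← ho]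
      simp only [k9]
      exact (Fintype.sum_equiv (finEquivZPowers (isOfFinOrder_of_finite u)) _ _ fun j => by
        rw [finEquivZPowers_apply]; rfl).symm.trans (Finset.sum_range _).symm |>.symm
    have e3 : (Nat.card P : ℂ) • fI {χ} ∈ IntA G M := e1 ▸ sum_mem fun y _ => k7 y
    refine ext_coeff fun g => ?_
    rw [← inv_inv g, ← one_mul g⁻¹⁻¹, ← coeff_mul_single, mul_assoc, e2, ← redA_secA (a * _),
      ← redA_mul e3 (secA_mem_IntA _), coeff_redA]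
    have e4 : ((Nat.card P : ℂ) • fI {χ} * secA M (a * single g⁻¹ 1)).coeff 1 =
        hw p B χ.1 * ev χ.1 (secA M (a * single g⁻¹ 1)) := by
      rw [coeff_mul_sum', ev_apply, hw, k6, Finset.mul_sum]
      refine Finset.sum_congr rfl fun y _ => ?_
      simp [blockCoeff_eq, show fs ({χ} : Set _) = {χ} from Finset.ext fun _ => by simp [mem_fs], irr_inv]
      ring
    rw [e4, red_mul (hw_mem_O hM hχ) (ev_mem_O (irr_mem_O χ) (secA_mem_IntA _)), red_eq_zero_of_v_lt_one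
      (v_ev_nil (irr_char χ.2) (secA_mem_IntA _) (by rw [redA_secA]; exact ha _))]
    simp

theorem Tr_single (R : Type*) [CommRing R] {g : G} (h : P ≤ T ⊓ C1 g) :
    Tr P T (single g (1 : R)) = P.relIndex (T ⊓ C1 g) • acls R T g := by
  classical
  have h1 : ∀ K : Subgroup G, K ≤ C1 g → single g (1 : ℚ) ∈ Fix ℚ K := fun K hK =>
    single_mem_Fix (le_centralizer_singleton.1 hK) 1
  have h2 : acls ℚ (T ⊓ C1 g) g = single g 1 := ext_coeff fun x => by
    rw [coeff_acls, coeff_single']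
    exact if_congr ⟨fun ⟨y, h1, h2⟩ => by rw [← h2, ← (mem_centralizer_singleton.1 h1.2).eq, mul_inv_cancel_right],
      fun e => ⟨1, one_mem _, by simpa using e⟩⟩ rfl rfl
  have h3 := (sum_cj_eq (h.trans inf_le_left) (h1 _ (h.trans inf_le_right))).symm.trans
    (sum_cj_eq inf_le_left (h1 _ inf_le_right))
  rw [← h2, ← acls_eq_Tr inf_le_left le_rfl, h2, ← card_mul_relIndex h, mul_nsmul', ← Nat.cast_smul_eq_nsmul ℚ,
    ← Nat.cast_smul_eq_nsmul ℚ (Nat.card P)] at h3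
  have h4 := smul_right_injective _ (Nat.cast_ne_zero.2 Nat.card_pos.ne') h3
  refine ext_coeff fun x => ?_
  have h5 := congrArg (·.coeff x) h4
  simp only [Tr_apply, cj_single, coeff_sum', coeff_single', Finset.sum_boole, ← Nat.cast_smul_eq_nsmul ℚ,
    ← Nat.cast_smul_eq_nsmul R, coeff_smul, Finsupp.smul_apply, coeff_acls, smul_eq_mul] at h5 ⊢
  split_ifs at h5 ⊢ <;> simp only [mul_one, mul_zero, Nat.cast_inj, Nat.cast_eq_zero] at h5 ⊢ <;> simp [h5]

theorem exists_Tr (hM : IsPModular p M) {f : (k M)[G]} (hf : IsBI T f) (hD : ADG p T f P) :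
    ∃ D ∈ Fix (k M) P, Tr P T D = f := by
  have := charP_k hM
  obtain ⟨b, hb, rfl⟩ := hf.exists_block hM
  obtain ⟨g, -, h1, h2⟩ := (isDefectGroup_iff hM hb).1 ((dg_iff_ADG hM hb hD.le).2 hD)
  have h3 := isSylowIn_C1_map h2
  rw [Subgroup.map_subgroupOf_eq_of_le hD.le, inf_comm] at h3
  obtain ⟨w, h4, h5⟩ := exists_mul_eq_aE hM hb (acls_mem_ZA g.2) (by rwa [← incA_cls, aL_incA])
  have h6 : ((P.relIndex (T ⊓ C1 (g : G)) : ℕ) : k M) ≠ 0 := mt (CharP.cast_eq_zero_iff _ p _).1 h3.not_dvd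
  refine ⟨((P.relIndex (T ⊓ C1 (g : G)) : ℕ) : k M)⁻¹ • (w * single (g : G) 1), Subalgebra.smul_mem _ (mul_mem
    (Fix_anti hD.le h4.1) (single_mem_Fix (le_centralizer_singleton.1 (h3.le.trans inf_le_right)) 1)) _, ?_⟩
  rw [map_smul, ← mul_Tr h4.1, Tr_single _ h3.le, ← Nat.cast_smul_eq_nsmul (k M), mul_smul_comm, inv_smul_smul₀ h6, h5]

theorem fb_cyc (hM : IsPModular p M) (hB : IsPBlock M B) (hm : MaxP p (eB M B) P e) (hP : IsCyclic P) : FB p P e B :=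
  have h := cyclic_le_CS hP
  ⟨hM, hB, hm, h, fun _ hg _ hx h1 h2 => cyclic_free hP hm.dg.isP (Stab_le _ _) (hm.not_dvd' hM h) hg hx h1
    (mul_inv_eq_iff_eq_mul.1 h2).symm⟩

theorem exists_gen (hP : IsCyclic P) (h : IsPGroup p P) (h0 : P ≠ ⊥) :
    ∃ u s, P = Subgroup.zpowers u ∧ orderOf u = p ^ (s + 1) ∧ orderOf (u ^ p ^ s) = p := by
  obtain ⟨u, rfl⟩ := (Subgroup.isCyclic_iff_exists_zpowers_eq_top P).1 hP
  obtain ⟨_ | s, hs⟩ := isPElt_of_mem hp.out h (Subgroup.mem_zpowers u)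
  · exact (h0 (by simpa using hs)).elim
  · exact ⟨u, s, rfl, hs, by rw [orderOf_pow' _ (pow_ne_zero _ hp.out.ne_zero), hs, Nat.gcd_eq_right (pow_dvd_pow p s.le_succ),
      pow_succ, Nat.mul_div_cancel_left _ (pow_pos hp.out.pos _)]⟩

theorem FB.cl (h : FB p P e B) {u : G} (hu : P = Subgroup.zpowers u) {s : ℕ} (ho : orderOf u = p ^ (s + 1)) {z : P}
    (hz : (z : G) = u ^ p ^ s) (h1 : orderOf (z : G) = p) : ∃ t i, CL p (p ^ s) (z : G) (aE M _ (lb p P e z)) t i := by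
  have h2 : z ≠ 1 := fun e => hp.out.one_lt.ne' (by rw [← h1, e]; simp)
  have h3 := (MaxP.le_C1 h.ab z).2
  have hb := (h.ind z).1
  have hN := h.free.nil_lb h.hM h.hB h.hm h.ab h2
  let y : C1 (z : G) := ⟨u, h3 (hu ▸ Subgroup.mem_zpowers u)⟩
  have h4 : y ^ p ^ s = cEl (z : G) := Subtype.ext hz.symm
  obtain ⟨t, t1, t2, t3, t4⟩ := hN.exists_t h.hM hb (h.hm.dg_lb h.hM h.hB h.ab z).1 (u := y) (s := s)
    (Subgroup.map_injective (C1 (z : G)).subtype_injective (by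
      rw [Subgroup.map_subgroupOf_eq_of_le h3, MonoidHom.map_zpowers]; exact hu))
    (by rw [← Subgroup.orderOf_coe, ho]) (h4 ▸ (h.sec z).center)
  obtain ⟨i, i1, i2, i3, i4, n, a, b, i5⟩ := exists_prim h.hM hb (hN.rank h.hM hb)
  have k : ∀ {a}, a ∈ Sup (k M) (C1 (z : G) : Set G) → ∃ a', incA _ a' = a := fun ha => ⟨_, incA_resA_of_Sup ha⟩
  refine ⟨incA _ t, incA _ i, h1, pow_ne_zero _ hp.out.ne_zero, aE_mem_ZA _ _, incA_mem_ZA t1, incA_mem_Sup _,
    (isBI_aE h.hM hb).idem, by rw [← map_mul, t2], by rw [← map_pow, t3, h4, map_mul, map_sub, map_one, mapA_single]; rfl,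
    by rw [← map_mul, i1], by rw [← map_mul, i2], fun e => i3 (incA_injective (e.trans (map_zero _).symm)),
    fun x hx h5 => ?_, fun x hx => ?_, n, fun s => incA _ (a s), fun s => incA _ (b s),
    fun s => ⟨incA_mem_Sup _, incA_mem_Sup _⟩, fun x hx => ?_⟩
  · obtain ⟨x, rfl⟩ := k hx
    rw [← pow_succ', ← map_pow, ← map_mul, t4 x fun y => (IsNilpotent.map_iff incA_injective).1 (by
      rw [map_mul]; exact h5 _ (incA_mem_Sup _)), map_zero]
  · obtain ⟨x, rfl⟩ := k hx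
    refine (i4 x).imp fun c hc y hy => ?_
    obtain ⟨y, rfl⟩ := k hy
    simpa using (hc y).map (incA _)
  · obtain ⟨x, rfl⟩ := k hx
    simpa using (i5 x).map (incA _)

theorem cyc_rank_ge (h : FB p P e B) (hP : IsCyclic P) (h0 : P ≠ ⊥) :
    (CS P).relIndex (Stab (NS P) e) ≤ blockRank p B := by
  have hM := h.hM
  have := charP_k hM
  obtain ⟨u, s, hu, ho, h1⟩ := exists_gen hP h.hm.dg.isP h0
  let z : P := ⟨u ^ p ^ s, pow_mem (hu ▸ Subgroup.mem_zpowers u) _⟩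
  have h2 : z ≠ 1 := fun e => hp.out.one_lt.ne' (by rw [← h1, show u ^ p ^ s = 1 from congrArg Subtype.val e]; simp)
  obtain ⟨t, i, hc⟩ := h.cl hu ho (z := z) rfl h1
  have hs := (h.hm.lb hM h.hB z).2
  set f := aE M _ (lb p P e z)
  set S := Stab (NS P) e
  have : ((CS P).subgroupOf S).Normal := Subgroup.normal_subgroupOf_of_le_normalizer ((Stab_le _ _).trans (NS_le_NS_CS _))
  obtain ⟨c1, c2⟩ := cyclic_quot hP h.hm.dg.isP h0 (Stab_le (NS P) e) (h.hm.not_dvd' hM h.ab)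
  obtain ⟨g, hg⟩ := c1.exists_monoid_generator
  obtain ⟨g, rfl⟩ := QuotientGroup.mk_surjective g
  have k1 : S ≤ Stab (NS (Subgroup.zpowers (z : G))) f := fun x hx =>
    ⟨cyclic_NS_zpowers hP z.2 hx.1, hs.cj_eq hM hx (cyclic_NS_zpowers hP z.2 hx.1)⟩
  have k2 : (g : G) ∈ NS (C1 (z : G)) := CS_zpowers (z : G) ▸ NS_le_NS_CS _ (k1 g.2).1
  have k3 : ∀ j, (g : G) ^ j ∈ C1 (z : G) ↔ (CS P).relIndex S ∣ j := fun j => by
    rw [Subgroup.relIndex, Subgroup.index, ← orderOf_eq_card_of_forall_mem_powers hg, orderOf_dvd_iff_pow_eq_one,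
      ← QuotientGroup.mk_pow, QuotientGroup.eq_one_iff, Subgroup.mem_subgroupOf, ← h.free.inf_eq (CS_le_Stab h.hm.be) h2]
    exact (and_iff_right (g ^ j).2).symm
  have k4 : P ≤ Stab (NS (Subgroup.zpowers (z : G))) f := (le_Stab_NS h.hm.be).trans k1
  obtain ⟨D, d1, d2⟩ := exists_Tr hM (hs.bf.stab hM hs.isP) ⟨k4, h.hm.dg.isP, (h.hm.ADG_ab hM h.ab hs).ne,
    fun Q h4 h5 h6 => by
      obtain ⟨g, h7⟩ := exists_nsub_sup hM hs.isP hs.bf h5 h4 h6
      exact (Subgroup.card_le_of_le le_sup_right).trans (h.hm.dg.max _ le_top h7.isP fun e => h7.be.ne (by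
        rw [← (h7.sle.mul_iff_Z h.hm.bz.mem_Z h.hm.bz.idem).2 (h.hm.mul_of_sle hM hs), e, zero_mul]))⟩
  obtain ⟨w, w1, w2, w3, w4⟩ := hc.exists_h k2 (k1 g.2).2 c2 ((k3 _).2 dvd_rfl)
  have hT : CT p (p ^ s) (z : G) f t i P (Stab (NS (Subgroup.zpowers (z : G))) f) g ((CS P).relIndex S) D w :=
    ⟨hc, k4, fun x hx e => ?_, fun x hx => Subgroup.zpowers_le.2 z.2 ((Subgroup.mem_normalizer_iff''.1 hx.1 _).1
      (Subgroup.mem_zpowers _)), fun x hx => ?_, k2, (k1 g.2).2, k3, c2, d1, d2, w1, w2, w3, w4⟩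
  · obtain ⟨n, d, ρ, a0, a1, a2⟩ := wedderburn (k M) (k M)[G]
    obtain ⟨σ, h3, h4⟩ := hT.exists_sigma ρ a1 a2 (eB_mem_Z B) (eB_mul_self hM h.hB) (h.hm.mul_of_sle hM hs)
    simpa using card_le_rank_sigma hM h.hB ρ a0 a1 h3 h4
  · have h3 : x ∈ NS (Subgroup.zpowers (z : G)) := inv_mem_iff.1 (Subgroup.mem_normalizer_fintype fun y hy => by
      obtain ⟨j, rfl⟩ := hy
      rw [← conj_zpow, inv_inv]
      exact zpow_mem (cyclic_mem_zpowers hP z.2 e (by
        rw [← inv_inv x, inv_inv x⁻¹, conj_pow, pow_orderOf_eq_one, mul_one, mul_inv_cancel])) j)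
    exact hs.bf.mul_eq_zero (hs.bf.cj' (NS_le_NS_CS _ h3)) fun e => hx ⟨h3, e.symm⟩
  · obtain ⟨c, h3, h4⟩ := h.hm.abelian hM h.ab hs hx
    obtain ⟨j, hj⟩ := hg (⟨_, h4⟩ : S)
    refine ⟨j, ?_⟩
    rw [show ((g : G) ^ j)⁻¹ * x = ((g : G) ^ j)⁻¹ * c⁻¹ * g ^ j * (((g : G) ^ j)⁻¹ * (c * x)) by group]
    exact mul_mem ((Subgroup.mem_normalizer_iff''.1 (pow_mem k2 j) _).1 (inv_mem (CS_zpowers (z : G) ▸ h3)))
      ((MaxP.le_C1 h.ab z).1 (Subgroup.mem_subgroupOf.1 (QuotientGroup.eq.1 ((QuotientGroup.mk_pow _ g j).trans hj))))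

theorem exists_inv_twist {A : Type*} [Group A] [Finite A] (hA : IsPGroup p A) {Γ : Subgroup (MulAut A)}
    (hΓ : ¬ p ∣ Nat.card Γ) {c : A → ℂ} (h0 : ∀ t, t ≠ 1 → c t ≠ 0)
    (h : ∀ γ ∈ Γ, ∃ ν : A →* ℂˣ, ∀ t, t ≠ 1 → c (γ t) = ν t * c t) :
    ∃ l : A →* ℂˣ, ∀ γ ∈ Γ, ∀ t, t ≠ 1 → l (γ t) * c (γ t) = l t * c t := by
  cases nonempty_fintype Γ
  choose ν hν using fun γ : Γ => h γ γ.2
  obtain ⟨n, hn⟩ := IsPGroup.iff_card.1 hA
  have h1 : (Nat.card Γ).Coprime (p ^ n) := ((hp.out.coprime_iff_not_dvd.2 hΓ).symm).pow_right n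
  obtain ⟨m, hm⟩ := Nat.exists_mul_mod_eq_of_coprime 1 h1 (pow_ne_zero _ hp.out.ne_zero)
  have h2 : ∀ (l : A →* ℂˣ) t, l t ^ p ^ n = 1 := fun l t => by rw [← map_pow, ← hn, pow_card_eq_one', map_one]
  have h3 : ∀ t, t ≠ 1 → (((∏ γ, ν γ) ^ m) t * c t) ^ Nat.card Γ = ∏ γ : Γ, c (γ.1 t) := fun t ht => by
    rw [mul_pow, MonoidHom.pow_apply, ← Units.val_pow_eq_pow_val, ← pow_mul, mul_comm m, pow_eq_pow_mod _ (h2 _ t), hm.2,
      ← pow_eq_pow_mod _ (h2 _ t)]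
    simp [hν _ t ht, Finset.prod_mul_distrib]
  refine ⟨(∏ γ, ν γ) ^ m, fun γ hγ t ht => ?_⟩
  set l := (∏ γ, ν γ) ^ m
  have h4 := (h3 (γ t) (by simpa using ht)).trans ((Fintype.prod_equiv (Equiv.mulRight (⟨γ, hγ⟩ : Γ)) _ _
    fun _ => rfl).trans (h3 t ht).symm)
  have h5 := hν ⟨γ, hγ⟩ t ht
  have h6 : (l (γ t) * ν ⟨γ, hγ⟩ t * (l t)⁻¹) = 1 := eq_one_of_pow_coprime h1 (Units.ext (by
    rw [h5, ← mul_assoc, mul_pow, mul_pow _ (c t), mul_left_inj' (pow_ne_zero _ (h0 t ht))] at h4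
    simp [mul_pow] at h4 ⊢
    rw [h4, mul_inv_cancel₀ (by simp)])) (by simp [mul_pow, h2])
  rw [h5, ← mul_assoc, ← Units.val_mul, mul_inv_eq_one.1 h6]

variable (p e) in
/-- the Brauer element as an element of the group algebra -/
noncomputable def bx (t : P) : ℂ[G] := single (t : G) 1 * aF _ (lb p P e t)

theorem FB.bx_mem (t : P) : bx p e t ∈ Sup ℂ (C1 (t : G) : Set G) :=
  mul_mem_Sup_subgroup (single_mem_Sup (z_mem_C1 _) 1) (incA_mem_Sup _)

theorem FB.dd_mul (h : FB p P e B) {θ : G → ℂ} (hθ : IsClassFunction G θ) (t : P) :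
    dd p e θ t * (xi p P e t).1 1 = ev θ (bx p e t) := by
  have := Fintype.ofFinite (C1 (t : G))
  rw [dd, div_mul_cancel₀ _ (irr_one_ne_zero (xi p P e t).2), sb, reg_of_not_dvd _ (not_dvd_orderOf_one hp.out),
    blockPart_eq_ev ((h.sec t).class_sh hθ), ← one_def, mul_one, bx,
    show single (t : G) (1 : ℂ) = incA _ (single (cEl (t : G)) 1) by rw [mapA_single]; rfl, ← map_mul, ev_incA,
    ev_single_mul, ev_apply]
  rfl

theorem FB.xi_sq (h : FB p P e B) {t : P} (ht : t ≠ 1) :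
    (Nat.card P * charDegree (xi p P e t).1 ^ 2 : ℕ) = Nat.card (C1 (t : G)) * (aF _ (lb p P e t)).coeff 1 := by
  have := Fintype.ofFinite (C1 (t : G))
  rw [coeff_incA_of_mem _ (one_mem _), coeff_fI, blockCoeff_eq, mul_inv_cancel_left₀ (card_ne_zero' _),
    Finset.sum_congr rfl (g := fun _ => (charDegree (xi p P e t).1 : ℂ) ^ 2) fun ψ hψ => ?_, Finset.sum_const, card_fs,
    (h.loc ht).1]
  · simp
  · have := congrFun ((h.loc ht).2.2.1 ψ (mem_fs.1 hψ)) 1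
    simp only [reg_of_not_dvd _ (not_dvd_orderOf_one hp.out), irr_one_eq (xi p P e t)] at this
    rw [show (⟨1, one_mem _⟩ : C1 (t : G)) = 1 from rfl, this, map_natCast, sq]

theorem FB.cj_bx (h : FB p P e B) {g : G} (hg : g ∈ Stab (NS P) e) {t t' : P} (ht : (t' : G) = g * t * g⁻¹) :
    cj g (bx p e t) = bx p e t' := by
  have h1 : C1 (t' : G) = MulAut.conj g • C1 (t : G) := by rw [ht, C1_conj]
  rw [bx, bx, map_mul, cj_single, ← aF_cjB h1, ← ht, ← (eq_cjB h.hM h1 (h.ind t).1 (h.ind t').1).2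
    ((h.hm.lb h.hM h.hB t').2.unique h.hM (by
      rw [ht, zpowers_conj]; exact (h.hm.lb h.hM h.hB t).2.cj_of_stab hg))]

theorem cyc_fs (h : FB p P e B) (hP : IsCyclic P) (h0 : P ≠ ⊥) [Fintype G] [Fintype P] :
    ∃ Θ x, FS (ga P (Stab (NS P) e)) M p B Θ x := by
  classical
  have hM := h.hM
  obtain ⟨u, s, hu, ho, h1⟩ := exists_gen hP h.hm.dg.isP h0
  let z : P := ⟨u ^ p ^ s, pow_mem (hu ▸ Subgroup.mem_zpowers u) _⟩
  have h2 : z ≠ 1 := fun e => hp.out.one_lt.ne' (by rw [← h1, show u ^ p ^ s = 1 from congrArg Subtype.val e]; simp)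
  obtain ⟨l1, l2⟩ := MaxP.le_C1 h.ab z
  set K := C1 (z : G)
  have := Fintype.ofFinite K
  set b := lb p P e z
  have hb : IsPBlock M b := (h.ind z).1
  have hN : ANil p ⊤ (eB M b) := h.free.nil_lb hM h.hB h.hm h.ab h2
  obtain ⟨m1, m2, -⟩ := h.hm.down hM l1 hb ((dg_iff_ADG hM hb l2).1 (h.hm.dg_lb hM h.hB h.ab z).1)
    (h.hm.loc_lb hM h.hB h.ab z).2
  let φ := (Subgroup.subgroupOfEquivOfLe l2).symm
  have h' := fb_cyc hM hb m1 (isCyclic_of_surjective φ φ.surjective)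
  obtain ⟨ξ, hξ⟩ := block_nonempty hM hb
  obtain ⟨Φ, hΦ⟩ := hN.lin hM hb m1 h'.ab hξ
  have k0 : ∀ t : P, t ≠ 1 → φ t ≠ 1 := fun t ht => by simpa using ht
  have k1 : ∀ t : P, t ≠ 1 → C1 (t : G) ≤ K := fun t ht => by
    obtain ⟨n, hn⟩ := exists_pow_orderOf_eq h.hm.dg.isP t.2 (by simpa using ht)
    have := cyclic_mem_zpowers hP (pow_mem t.2 n) z.2 (by rw [hn, ← h1, pow_orderOf_eq_one])
    rw [← CS_zpowers, show K = _ from (CS_zpowers _).symm]
    exact CS_anti (Subgroup.zpowers_le.2 (Subgroup.zpowers_le.2 (pow_mem (Subgroup.mem_zpowers _) n) this))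
  have k2 : ∀ t : P, t ≠ 1 → (C1 (φ t : K)).map K.subtype = C1 (t : G) := fun t ht => by
    rw [C1_coe]; exact Subgroup.map_subgroupOf_eq_of_le (k1 t ht)
  have k3 : ∀ t : P, t ≠ 1 → incA K (aF _ (lb p _ (resA K e) (φ t))) = aF _ (lb p P e t) := fun t ht => by
    have e1 := h'.hm.loc_lb hM hb h'.ab (φ t)
    have e2 := aF_mem_IntA hM (h'.ind (φ t)).1
    refine idem_eq_of_redA (incA_mem_IntA e2) (aF_mem_IntA hM (h.ind t).1) (by rw [← map_mul, aF_mul_self])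
      (aF_mul_self _ _) (ZA_comm_Sup (k2 t ht ▸ incA_mem_ZA_map.2 (aF_mem_ZA _ _)) (incA_mem_Sup _)) ?_
    rw [redA_incA, redA_aF, redA_aF]
    refine Loc.unique hM h.hm (MaxP.le_C1 h.ab t).2 ⟨k2 t ht ▸ isBI_incA.2 e1.1, ?_⟩ (h.hm.loc_lb hM h.hB h.ab t)
    have := congrArg (incA K) e1.2
    rwa [map_mul, ← Br_incA, Subgroup.map_subgroupOf_eq_of_le l2, m2] at this
  have k4 : ∀ t : P, t ≠ 1 → incA K (bx p (resA K e) (φ t)) = bx p e t := fun t ht => by
    rw [bx, map_mul, k3 t ht, mapA_single]; rfl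
  have k5 : ∀ t : P, t ≠ 1 → (xi p _ (resA K e) (φ t)).1 1 = (xi p P e t).1 1 := fun t ht => by
    have e1 := h'.xi_sq (k0 t ht)
    rw [← coeff_incA, k3 t ht, ← Subgroup.card_map_of_injective (K := C1 _) K.subtype_injective, k2 t ht, card_subgroupOf l2,
      OneMemClass.coe_one, ← h.xi_sq ht, Nat.cast_inj, Nat.mul_right_inj Nat.card_pos.ne', Nat.pow_left_inj two_ne_zero] at e1
    rw [irr_one_eq, irr_one_eq, e1]
  have k6 : ∀ l t, dd p (resA K e) (Φ l).1.1 t = l t * dd p (resA K e) ξ.1 t := fun l t => by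
    rw [hΦ, dd, (h'.sec t).sb_star hM (irr_class ξ.2) (h'.ind t).1, (hN.st hM m1 (class_of_comm (fun a b =>
      Subtype.ext (h'.ab b.2 a a.2)) _)).wt_eq (m1.lb hM hb t).2.brel, dd, Pi.smul_apply, smul_eq_mul, mul_div_assoc]
  have k7 : ∀ F : IrrCharacter K → ℂ, ∑ ψ ∈ fs b, F ψ = ∑ l, F (Φ l) := fun F =>
    (Finset.sum_subtype _ (fun _ => mem_fs) F).trans (Φ.sum_comp fun ψ => F ψ).symm
  have k8 : ∀ t, t ≠ 1 → dd p (resA K e) ξ.1 t * conj (dd p (resA K e) ξ.1 t) = 1 := fun t ht => by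
    have := h'.sum_dd ht
    rw [k7, Finset.sum_congr rfl (g := fun _ => dd p (resA K e) ξ.1 t * conj (dd p (resA K e) ξ.1 t)) fun l _ => by
      rw [k6, map_mul, mul_mul_mul_comm, ← hom_inv_eq_conj]; simp, Finset.sum_const, Finset.card_univ,
      ← Nat.card_eq_fintype_card, card_hom_of_comm fun a b => Subtype.ext (h'.ab b.2 a a.2), nsmul_eq_mul] at this
    exact mul_left_cancel₀ (card_ne_zero' _) (this.trans (mul_one _).symm)
  let c : P → ℂ := fun t => ev ξ.1 (bx p (resA K e) (φ t))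
  have k9 : ∀ t, t ≠ 1 → c t = dd p (resA K e) ξ.1 (φ t) * (xi p P e t).1 1 := fun t ht => by
    rw [← k5 t ht, h'.dd_mul (irr_class ξ.2)]
  have c0 : ∀ t, t ≠ 1 → c t ≠ 0 := fun t ht => by
    rw [k9 t ht]; exact mul_ne_zero (h'.dd_ne (k0 t ht) hξ) (irr_one_ne_zero (xi p P e t).2)
  have c1 : ∀ l t, ev (Φ l).1.1 (bx p (resA K e) (φ t)) = l (φ t) * c t := fun l t => by
    simp only [c, ← h'.dd_mul (irr_class _), ← h'.dd_mul (irr_class ξ.2), ← h'.dd_mul (irr_class (Φ l).1.2), k6, mul_assoc]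
  obtain ⟨l, hl⟩ := exists_inv_twist h.hm.dg.isP (Γ := ga P (Stab (NS P) e))
    (by rw [card_ga (Stab_le _ _)]; exact h.hm.not_dvd' hM h.ab) c0 fun γ hγ => by
      obtain ⟨g, g1, g2⟩ := (mem_ga (Stab_le _ _)).1 hγ
      have g3 := cyclic_NS_zpowers hP z.2 g1.1
      have g4 : K = MulAut.conj g • K := (conj_smul_eq_self_iff.2 (by
        simpa only [CS_zpowers] using NS_le_NS_CS _ g3)).symm
      obtain ⟨μ, hμ⟩ := Φ.surjective ⟨irrMap (cjIso g4) ξ, mem_of_aE_eq_cj hM g4 hb hb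
        ((h.hm.lb hM h.hB z).2.cj_eq hM g1 g3).symm hξ ((conj_irr_iff g4).2 rfl)⟩
      refine ⟨(μ.comp (φ.toMonoidHom.comp γ.toMonoidHom))⁻¹, fun t ht => ?_⟩
      have := c1 μ (γ t)
      rw [hμ, show bx p (resA K e) (φ (γ t)) = mapA (cjIso g4).toMonoidHom (bx p (resA K e) (φ t)) from incA_injective (by
        rw [incA_mapA_cjIso, k4 t ht, k4 _ (by simpa using ht), h.cj_bx g1 (g2 t)]), ev_mapA] at this
      simp only [irrMap_apply, MulEquiv.coe_toMonoidHom, MulEquiv.symm_apply_apply] at this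
      simp [show c t = _ from this]
  let x : IrrCharacter G → P → ℂ := fun χ => ∑ m, classInner (fun y : K => χ.1 y) (Φ m).1.1 • hf (m.comp φ.toMonoidHom * l⁻¹)
  have x1 : ∀ χ, IsGeneralizedCharacter P (x χ) := fun χ => gen_sum _ _ fun m _ => by
    obtain ⟨n, hn⟩ := inner_char_nat (char_restrict (irr_char χ.2) K) (irr_char (Φ m).1.2)
    rw [hn]; exact char_gen (char_nsmul (char_hom _) n)
  have x2 : ∀ χ t, t ≠ 1 → x χ t * (l t * c t) = ev χ.1 (bx p e t) := fun χ t ht => by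
    rw [← k4 t ht, ev_incA, class_eq_sum (class_restrict (irr_class χ.2) K), ev_sum_fun, ← Finset.sum_subset
      (Finset.subset_univ (fs b)) fun ψ _ hψ => by
        rw [ev_smul_fun, ← h'.dd_mul (irr_class ψ.2), dd, (h'.sec _).sb_eq_zero hM (h'.ind _) (mt mem_fs.2 hψ)]; simp, k7]
    simp only [x, Finset.sum_apply, Finset.sum_mul, ev_smul_fun, c1]
    exact Finset.sum_congr rfl fun m _ => by simp [mul_assoc]
  have x3 : ∀ χ t, t ≠ 1 → dd p e χ.1 t = x χ t * (l t * dd p (resA K e) ξ.1 (φ t)) := fun χ t ht =>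
    mul_right_cancel₀ (irr_one_ne_zero (xi p P e t).2) (by
      rw [h.dd_mul (irr_class χ.2), ← x2 χ t ht, k9 t ht]; ring)
  obtain ⟨χ, hχ, hχ0⟩ := exists_height_zero hM h.hB
  have x4 : ∀ t, t ≠ 1 → x χ t * conj (x χ t) = dd p e χ.1 t * conj (dd p e χ.1 t) := fun t ht => by
    rw [x3 χ t ht, map_mul, map_mul, mul_mul_mul_comm, mul_mul_mul_comm (l t : ℂ), k8 _ (k0 t ht), ← hom_inv_eq_conj]; simp
  refine ⟨_, x, h.toFS hχ (fun γ hγ t => ?_) x4 (fun t ht => inv_mem_O_of_red_ne_zero fun e => h.red_dd ht hχ hχ0 ?_)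
    fun ψ _ => ⟨x1 ψ, fun t ht => by rw [x3 χ t ht, x3 ψ t ht]; ring⟩⟩
  · by_cases ht : t = 1
    · simp [ht]
    obtain ⟨g, g1, g2⟩ := (mem_ga (Stab_le _ _)).1 hγ
    refine mul_right_cancel₀ (mul_ne_zero (l t).ne_zero (c0 t ht)) ?_
    rw [x2 χ t ht, ← hl γ hγ t ht, x2 χ _ (by simpa using ht), ← h.cj_bx g1 (g2 t), ev_cj (irr_class χ.2)]
  · rw [← x4 t ht, red_mul (mem_O_of_isIntegral (isIntegral_gen (x1 χ) t))
      (mem_O_of_isIntegral (isIntegral_gen (gen_conj (x1 χ)) t)), e, zero_mul]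

theorem cyc_card_ge (h : FB p P e B) (hP : IsCyclic P) (h0 : P ≠ ⊥) [Fintype P] :
    Nat.card (ga P (Stab (NS P) e)) + (OS (ga P (Stab (NS P) e))).card ≤ Nat.card B := by
  have h1 := h.free.count h.hM h.hB h.hm h.ab
  have h2 := h.fr.card_OS
  have h3 := cyc_rank_ge h hP h0
  rw [← card_ga (Stab_le _ _)] at h1 h3
  refine Nat.le_of_mul_le_mul_left ?_ (Nat.card_pos (α := ga P (Stab (NS P) e)))
  have := Nat.mul_le_mul_left (Nat.card (ga P (Stab (NS P) e))) h3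
  rw [mul_add]; omega

theorem cyc_rank (h : FB p P e B) (hP : IsCyclic P) (h0 : P ≠ ⊥) :
    blockRank p B = (CS P).relIndex (Stab (NS P) e) := by
  have := Fintype.ofFinite G
  have := Fintype.ofFinite P
  have := (Subgroup.nontrivial_iff_ne_bot P).2 h0
  obtain ⟨Θ, x, h1⟩ := cyc_fs h hP h0
  obtain ⟨ζ, a, δ, h2, h3, -⟩ := h1.dade (cyc_card_ge h hP h0)
  have h4 := h.free.count h.hM h.hB h.hm h.ab
  have h5 := h.fr.card_OS
  rw [← card_ga (Stab_le _ _)] at h4 ⊢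
  rw [h2.card, h3, ← h5, mul_add] at h4
  exact Nat.eq_of_mul_eq_mul_left (Nat.card_pos (α := ga P (Stab (NS P) e))) (by omega)

theorem eq_Stab' (hM : IsPModular p M) {b : Set (IrrCharacter (CS P))} (hb : IsPBlock M b)
    (hT : ∀ g, g ∈ T ↔ (g ∈ NS P ∧ ∀ θ ∈ b, ∀ θ' : IrrCharacter (CS P), (∀ h h' : CS P, (h' : G) = g * h * g⁻¹ →
      (θ' : CS P → ℂ) h' = (θ : CS P → ℂ) h) → θ' ∈ b)) : T = Stab (NS P) (aE M _ b) :=
  Subgroup.ext fun g => (hT g).trans (and_congr_right fun hg => stable_iff hM hb (NS_le_NS_CS _ hg))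

theorem ne_bot_of_card {a : ℕ} (ha : 1 ≤ a) (h : Nat.card P = p ^ a) : P ≠ ⊥ := by
  rintro rfl
  exact (Nat.one_lt_pow (n := a) (by omega) hp.out.one_lt).ne (by simpa using h)

end H4
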