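import Cfsg.Agent.H4.Cyc2

/-!
# Blocks with cyclic defect groups: heights and signs
-/

set_option autoImplicit false
set_option linter.unusedSectionVars false

namespace H4
open MonoidAlgebra Cfsg H1 H3
open scoped Pointwise ComplexConjugate

variable {G : Type*} [Group G] [Fintype G] {M : Ideal AlgInt} {p : ℕ} [hp : Fact p.Prime]
  {B : Set (IrrCharacter G)} {χ ψ : IrrCharacter G} {A : Type*} [Group A] [Fintype A] {Γ : Subgroup (MulAut A)}
  {Θ : (A → ℂ) →ₗ[ℂ] (G → ℂ)} {x : IrrCharacter G → A → ℂ}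

theorem FS.height_zero (hM : IsPModular p M) (hB : IsPBlock M B) (h : FS Γ M p B Θ x)
    (hA : Nat.card A = p ^ blockDefect p B) [Nontrivial A] (hχ : χ ∈ B) {c : k M} (hc : c ≠ 0)
    (h1 : ∀ t, t ≠ 1 → red M (x χ t) = c) : blockHeight p B χ.1 = 0 := by
  classical
  obtain ⟨a, ha⟩ := exists_amat hM hB
  by_contra h2
  have h3 : (a χ χ : k M) = 0 := (intCast_eq_zero_iff hM _).2 ((dvd_pow_self _ h2).trans (ha.dvd χ χ hχ))
  have h4 : (Nat.card A : k M) = 0 := (natCast_eq_zero_iff hM _).2 (hA ▸ dvd_pow_self _ fun e => by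
    simpa only [hA, e, pow_zero, lt_self_iff_false] using Finite.one_lt_card (α := A))
  have h5 : reg p χ.1 = χ.1 - Θ (x χ) := funext fun g => by
    by_cases hg : p ∣ orderOf g
    · simp [reg_of_dvd _ hg, h.exp χ hχ g hg]
    · simp [reg_of_not_dvd _ hg, h.reg0 _ g hg]
  have h6 : (Nat.card Γ * a χ χ : ℂ) = Nat.card Γ * Nat.card A - ∑ t ∈ Finset.univ.erase 1, x χ t * x χ t⁻¹ := by
    rw [← ha.eq χ χ hχ, ← hA, h5, H3.inner_sub_left, irr_inner_self χ.2, mul_left_comm, mul_sub, h.inner_irr (h.ai χ hχ) hχ,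
      mul_sub, classInner, mul_inv_cancel_left₀ (card_ne_zero' _), ← Finset.add_sum_erase _ _ (Finset.mem_univ 1),
      Finset.sum_congr rfl fun t ht => by
        rw [off_of_ne _ (Finset.ne_of_mem_erase ht), ← gen_inv (h.gen χ hχ)]]
    simp [mul_comm]
  have h7 := fun t => mem_O_of_isIntegral (M := M) (isIntegral_gen (h.gen χ hχ) t)
  have h8 := congrArg (red M) h6
  rw [red_mul (natCast_mem _ _) (intCast_mem _ _), red_sub (mul_mem (natCast_mem _ _) (natCast_mem _ _))
    (sum_mem fun t _ => mul_mem (h7 _) (h7 _)), red_mul (natCast_mem _ _) (natCast_mem _ _),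
    red_sum _ _ fun t _ => mul_mem (h7 _) (h7 _), Finset.sum_congr rfl fun t ht => by
      rw [red_mul (h7 _) (h7 _), h1 t (Finset.ne_of_mem_erase ht), h1 _ (inv_ne_one.2 (Finset.ne_of_mem_erase ht))],
    Finset.sum_const, Finset.card_erase_of_mem (Finset.mem_univ _), nsmul_eq_mul, Nat.cast_pred (Finset.card_pos.2 Finset.univ_nonempty),
    Finset.card_univ, ← Nat.card_eq_fintype_card] at h8
  simp [h3, h4, hc, -Nat.card_eq_fintype_card] at h8

theorem dvd_of_sing {θ : G → ℂ} (hθ : IsGeneralizedCharacter G θ) {D : Subgroup G} (hD : IsPGroup p D)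
    (h : ∀ g, p ∣ orderOf g → θ g = 0) {n : ℤ} (hn : θ 1 = n) : (Nat.card D : ℤ) ∣ n := by
  have := Fintype.ofFinite D
  obtain ⟨m, hm⟩ := inner_gen_int (gen_restrict hθ D) (char_gen (char_hom 1))
  rw [classInner, Finset.sum_eq_single 1 (fun t _ ht => by
    rw [h t (by simpa using hD.dvd_orderOf ht), zero_mul]) (by simp), inv_mul_eq_iff_eq_mul₀ (card_ne_zero' _)] at hm
  exact ⟨m, Int.cast_injective (α := ℂ) (by simpa [hn] using hm)⟩

end H4
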