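import Cfsg.Agent.H4.Ctr
import Cfsg.Agent.H3.CycTI

/-!
# Exceptional characters for a free action on an abelian group
`off`, `AI`, `os`, `OS`, `FS`, `Exc`, `FS.exc`, `Exc.dade`, `FS.perfect`.
-/

set_option autoImplicit false
set_option linter.unusedSectionVars false

namespace H4
open MonoidAlgebra Cfsg H1
open scoped Pointwise ComplexConjugate

variable {A : Type*} [Group A] [Fintype A] {Γ : Subgroup (MulAut A)} {η η' o o' : A → ℂ} {l m : A →* ℂˣ} {t : A}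

open Classical in
/-- kill the value at `1` -/
noncomputable def off (η : A → ℂ) : A → ℂ := fun a => if a = 1 then 0 else η a

@[simp] theorem off_one (η : A → ℂ) : off η 1 = 0 := if_pos rfl
theorem off_of_ne (η : A → ℂ) (h : t ≠ 1) : off η t = η t := if_neg h

theorem off_congr (h : ∀ t, t ≠ 1 → η t = η' t) : off η = off η' := funext fun t => by
  by_cases ht : t = 1
  · simp [ht]
  · rw [off_of_ne _ ht, off_of_ne _ ht, h t ht]

theorem off_of_one (h : η 1 = 0) : off η = η := funext fun t => by by_cases ht : t = 1 <;> simp [off, ht, h]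

theorem inner_off (η : A → ℂ) (h : η' 1 = 0) : classInner (off η) η' = classInner η η' :=
  congrArg _ (Finset.sum_congr rfl fun t _ => by
    by_cases ht : t = 1
    · simp [ht, h]
    · rw [off_of_ne _ ht])

/-- invariance -/
def AI (Γ : Subgroup (MulAut A)) (η : A → ℂ) : Prop := ∀ γ ∈ Γ, ∀ a, η (γ a) = η a

/-- freeness on an abelian group -/
structure Fr (Γ : Subgroup (MulAut A)) : Prop where
  comm : ∀ a b : A, a * b = b * a
  free : ∀ γ ∈ Γ, ∀ a, a ≠ 1 → γ a = a → γ = 1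

theorem AI.off (h : AI Γ η) : AI Γ (off η) := fun γ hγ a => by
  by_cases ha : a = 1
  · simp [ha]
  · rw [off_of_ne _ ha, off_of_ne _ (by simpa using ha), h γ hγ]

instance : Finite (MulAut A) := DFunLike.finite _

theorem card_Γ_ne (Γ : Subgroup (MulAut A)) : (Nat.card Γ : ℂ) ≠ 0 := H3.card_ne_zero' _

/-- orbit sums of linear characters -/
noncomputable def os (Γ : Subgroup (MulAut A)) (l : A →* ℂˣ) : A → ℂ :=
  ∑ γ ∈ fs (Γ : Set (MulAut A)), H3.hf (l.comp γ.toMonoidHom)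

theorem os_apply (l : A →* ℂˣ) (a : A) : os Γ l a = ∑ γ ∈ fs (Γ : Set (MulAut A)), (l (γ a) : ℂ) :=
  Finset.sum_apply _ _ _

theorem ai_os (l : A →* ℂˣ) : AI Γ (os Γ l) := fun y hy a => by
  simp only [os_apply]
  exact Finset.sum_nbij' (· * y) (· * y⁻¹) (fun x hx => by simpa using mul_mem (mem_fs.1 hx) hy)
    (fun x hx => by simpa using mul_mem (mem_fs.1 hx) (inv_mem hy)) (by simp) (by simp) fun _ _ => rfl

theorem os_comp {y : MulAut A} (hy : y ∈ Γ) (l : A →* ℂˣ) : os Γ (l.comp y.toMonoidHom) = os Γ l := funext fun a => by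
  simp only [os_apply]
  exact Finset.sum_nbij' (y * ·) (y⁻¹ * ·) (fun x hx => by simpa using mul_mem hy (mem_fs.1 hx))
    (fun x hx => by simpa using mul_mem (inv_mem hy) (mem_fs.1 hx)) (by simp) (by simp) fun _ _ => rfl

theorem os_one (l : A →* ℂˣ) : os Γ l 1 = Nat.card Γ := by simp [os_apply, card_fs]

theorem gen_os (l : A →* ℂˣ) : IsGeneralizedCharacter A (os Γ l) :=
  H3.gen_sum _ _ fun _ _ => H3.char_gen (H3.char_hom _)

theorem AI.inner_os (h : AI Γ η) (l : A →* ℂˣ) : classInner η (os Γ l) = Nat.card Γ * classInner η (H3.hf l) := by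
  rw [os, H3.inner_sum_right, Finset.sum_congr rfl (g := fun _ => classInner η (H3.hf l)) fun γ hγ => ?_,
    Finset.sum_const, card_fs, nsmul_eq_mul, SetLike.coe_sort_coe]
  exact congrArg (_ * ·) (Fintype.sum_equiv γ.toEquiv _ _ fun a => by rw [← h γ (mem_fs.1 hγ) a]; rfl)

theorem Fr.hom (h : Fr Γ) (hl : l ≠ 1) {γ : MulAut A} (hγ : γ ∈ Γ) (e : l.comp γ.toMonoidHom = l) : γ = 1 := by
  by_contra h1
  have h2 : Function.Injective fun a : A => γ a * a⁻¹ := fun a b e => by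
    by_contra h3
    refine h1 (h.free γ hγ (b⁻¹ * a) (fun e => h3 (inv_mul_eq_one.1 e).symm) ?_)
    rw [map_mul, map_inv, inv_mul_eq_iff_eq_mul, ← mul_assoc, ← (show γ a * a⁻¹ = γ b * b⁻¹ from e), inv_mul_cancel_right]
  refine hl (MonoidHom.ext fun a => ?_)
  obtain ⟨a, rfl⟩ := Finite.surjective_of_injective h2 a
  simp [show l (γ a) = l a from DFunLike.congr_fun e a]

open Classical in
theorem Fr.os_eq (h : Fr Γ) (hl : l ≠ 1) : os Γ l = ∑ m with os Γ m = os Γ l, H3.hf m := by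
  refine Finset.sum_bij (fun γ _ => l.comp γ.toMonoidHom) (fun γ hγ => by simpa using os_comp (mem_fs.1 hγ) l)
    (fun γ hγ γ' hγ' e => ?_) (fun m hm => ?_) fun _ _ => rfl
  · exact mul_inv_eq_one.1 (h.hom hl (mul_mem (mem_fs.1 hγ) (inv_mem (mem_fs.1 hγ'))) (MonoidHom.ext fun a => by
      simpa using DFunLike.congr_fun e (γ'⁻¹ a)))
  · by_contra h1
    have h2 : classInner (os Γ l) (H3.hf m) = 0 := by
      rw [os, H3.inner_sum_left]
      exact Finset.sum_eq_zero fun γ hγ => by rw [H3.inner_hf, if_neg fun e => h1 ⟨γ, hγ, e⟩]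
    rw [← (Finset.mem_filter.1 hm).2, os, H3.inner_sum_left] at h2
    simp only [H3.inner_hf, Finset.sum_boole, Nat.cast_eq_zero, Finset.card_eq_zero, Finset.filter_eq_empty_iff] at h2
    exact h2 (mem_fs.2 Γ.one_mem) rfl

theorem Fr.os_eq_iff (h : Fr Γ) (hl : l ≠ 1) : os Γ m = os Γ l ↔ ∃ γ ∈ Γ, m = l.comp γ.toMonoidHom := by
  classical
  refine ⟨fun e => by_contra fun h1 => ?_, by rintro ⟨γ, hγ, rfl⟩; exact os_comp hγ l⟩
  have h2 : classInner (os Γ l) (H3.hf m) = 0 := by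
    rw [os, H3.inner_sum_left]
    exact Finset.sum_eq_zero fun γ hγ => by rw [H3.inner_hf, if_neg fun e => h1 ⟨γ, mem_fs.1 hγ, e.symm⟩]
  rw [h.os_eq hl, H3.inner_sum_left] at h2
  simpa [H3.inner_hf, e] using h2

open Classical in
/-- the set of nontrivial orbit sums -/
noncomputable def OS (Γ : Subgroup (MulAut A)) : Finset (A → ℂ) := (Finset.univ.erase 1).image (os Γ)

theorem mem_OS : o ∈ OS Γ ↔ ∃ l, l ≠ 1 ∧ os Γ l = o := by simp [OS]

theorem Fr.sum_OS (h : Fr Γ) (c : (A → ℂ) → ℂ) [DecidableEq (A →* ℂˣ)] :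
    ∑ o ∈ OS Γ, c o • o = ∑ l ∈ Finset.univ.erase 1, c (os Γ l) • H3.hf l := by
  classical
  rw [← Finset.sum_fiberwise_of_maps_to (s := Finset.univ.erase 1) (t := OS Γ) (g := os Γ)
    fun l hl => mem_OS.2 ⟨l, (Finset.mem_erase.1 hl).1, rfl⟩]
  refine Finset.sum_congr rfl fun o ho => ?_
  obtain ⟨l, hl, rfl⟩ := mem_OS.1 ho
  rw [Finset.sum_congr rfl fun m hm => by rw [(Finset.mem_filter.1 hm).2], ← Finset.smul_sum]
  conv_lhs => enter [2]; rw [h.os_eq hl]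
  congr 2; ext m
  simp only [Finset.mem_filter, Finset.mem_univ, true_and, Finset.mem_erase, and_true, iff_and_self]
  rintro e rfl
  obtain ⟨γ, -, e⟩ := (h.os_eq_iff hl).1 e
  exact hl (MonoidHom.ext fun a => by simpa using (DFunLike.congr_fun e (γ⁻¹ a)).symm)

theorem Fr.sum_OS_apply (h : Fr Γ) (ht : t ≠ 1) : ∑ o ∈ OS Γ, o t = -1 := by
  classical
  have h1 := congrFun (h.sum_OS fun _ => 1) t
  simpa [H3.sum_hom h.comm ht] using h1

theorem Fr.card_OS (h : Fr Γ) : Nat.card Γ * (OS Γ).card + 1 = Nat.card A := by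
  classical
  have h1 := congrFun (h.sum_OS fun _ => 1) 1
  simp only [one_smul, Finset.sum_apply] at h1
  rw [Finset.sum_congr rfl (g := fun _ => (Nat.card Γ : ℂ)) fun o ho => by
    obtain ⟨l, -, rfl⟩ := mem_OS.1 ho; exact os_one l] at h1
  have h2 := H3.sum_hom_one h.comm
  rw [← Finset.add_sum_erase _ _ (Finset.mem_univ 1), ← h1] at h2
  apply Nat.cast_injective (R := ℂ)
  simpa [add_comm, mul_comm] using h2

/-- the augmented orbit sum -/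
noncomputable def au (Γ : Subgroup (MulAut A)) (o : A → ℂ) : A → ℂ := o - (Nat.card Γ : ℂ) • H3.hf 1

theorem ai_au (ho : o ∈ OS Γ) : AI Γ (au Γ o) := fun γ hγ a => by
  obtain ⟨l, -, rfl⟩ := mem_OS.1 ho
  simp [au, ai_os l γ hγ]

theorem au_one (ho : o ∈ OS Γ) : au Γ o 1 = 0 := by
  obtain ⟨l, -, rfl⟩ := mem_OS.1 ho
  simp [au, os_one]

theorem AI.inner_au (h : AI Γ η) (l : A →* ℂˣ) :
    classInner η (au Γ (os Γ l)) = Nat.card Γ * (classInner η (H3.hf l) - classInner η (H3.hf 1)) := by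
  rw [au, H3.inner_sub_right, h.inner_os, H3.inner_smul_right, map_natCast, mul_sub]

theorem eq_sum_hf (h : ∀ a b : A, a * b = b * a) (η : A → ℂ) : η = ∑ l, classInner η (H3.hf l) • H3.hf l := by
  classical
  refine H3.class_ext (H3.class_of_comm h _) (H3.class_of_comm h _) fun χ hχ => ?_
  obtain ⟨m, rfl⟩ := H3.irr_exists_hom_of_comm hχ h
  simp [H3.inner_sum_left, H3.inner_smul_left, H3.inner_hom]

theorem eq_sum_hf' (h : ∀ a b : A, a * b = b * a) (η : A → ℂ) (ht : t ≠ 1) [DecidableEq (A →* ℂˣ)] :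
    η t = ∑ l ∈ Finset.univ.erase 1, (classInner η (H3.hf l) - classInner η (H3.hf 1)) * l t := by
  rw [Finset.sum_erase _ (by simp)]
  simp only [sub_mul, Finset.sum_sub_distrib, ← Finset.mul_sum, H3.sum_hom h ht, mul_zero, sub_zero]
  simpa using congrFun (eq_sum_hf h η) t

theorem Fr.eq_sum_OS (h : Fr Γ) (hη : AI Γ η) (ht : t ≠ 1) :
    η t = ∑ o ∈ OS Γ, classInner η (au Γ o) / Nat.card Γ * o t := by
  classical
  have := congrFun (h.sum_OS fun o => classInner η (au Γ o) / Nat.card Γ) t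
  simp only [Finset.sum_apply, Pi.smul_apply, smul_eq_mul, hη.inner_au, mul_div_cancel_left₀ _ (card_Γ_ne Γ)] at this
  rw [eq_sum_hf' h.comm η ht, ← this]

theorem Fr.inner_au (h : Fr Γ) (ho : o ∈ OS Γ) (ho' : o' ∈ OS Γ) [Decidable (o = o')] :
    classInner (au Γ o) (au Γ o') = Nat.card Γ * ((if o = o' then 1 else 0) + Nat.card Γ) := by
  classical
  have h1 := ai_au ho
  obtain ⟨l, hl, rfl⟩ := mem_OS.1 ho
  obtain ⟨m, hm, rfl⟩ := mem_OS.1 ho'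
  have h2 : os Γ 1 ≠ os Γ l := fun e => by
    obtain ⟨γ, -, e⟩ := (h.os_eq_iff hl).1 e
    exact hl (MonoidHom.ext fun a => by simpa using (DFunLike.congr_fun e (γ⁻¹ a)).symm)
  have h3 : ∀ m, classInner (os Γ l) (H3.hf m) = if os Γ m = os Γ l then 1 else 0 := fun m => by
    conv_lhs => rw [h.os_eq hl]
    simp [H3.inner_sum_left, H3.inner_hf]
  rw [h1.inner_au, au]
  simp [H3.inner_sub_left, H3.inner_smul_left, H3.inner_hf, hm.symm, h2, h3, eq_comm]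

variable {G : Type*} [Group G] [Fintype G] {M : Ideal AlgInt} {p : ℕ} [hp : Fact p.Prime] {B : Set (IrrCharacter G)}
  {Θ : (A → ℂ) →ₗ[ℂ] (G → ℂ)} {x : IrrCharacter G → A → ℂ} {χ : IrrCharacter G} {g : G}

variable (p M B Γ Θ x) in
/-- a block whose singular part is modelled on the invariant functions on `A` -/
structure FS : Prop extends Fr Γ where
  bp : ∀ η, blockPart B (Θ η) = Θ η
  off : ∀ η, Θ (off η) = Θ η
  reg0 : ∀ η g, ¬ p ∣ orderOf g → Θ η g = 0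
  inner : ∀ η η', AI Γ η → AI Γ η' → Nat.card Γ * classInner (Θ η) (Θ η') = classInner (H4.off η) η'
  ai : ∀ χ ∈ B, AI Γ (x χ)
  gen : ∀ χ ∈ B, IsGeneralizedCharacter A (x χ)
  ne : ∀ χ ∈ B, ∀ t, t ≠ 1 → x χ t ≠ 0
  exp : ∀ χ ∈ B, ∀ g, p ∣ orderOf g → χ.1 g = Θ (x χ) g
  int : ∀ η, AI Γ η → (∀ t, η t ∈ O M) → ∀ g, Θ η g ∈ O M ∧ Nat.card A * Θ η g / Nat.card (C1 g) ∈ O M

theorem FS.congr (h : FS Γ M p B Θ x) (e : ∀ t, t ≠ 1 → η t = η' t) : Θ η = Θ η' := by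
  rw [← h.off, off_congr e, h.off]

theorem FS.inner_irr (h : FS Γ M p B Θ x) (hη : AI Γ η) (hχ : χ ∈ B) :
    Nat.card Γ * classInner (Θ η) χ.1 = classInner (H4.off η) (x χ) := by
  rw [← h.inner _ _ hη (h.ai χ hχ)]
  refine congrArg _ (congrArg (_ * ·) (Finset.sum_congr rfl fun g _ => ?_))
  by_cases hg : p ∣ orderOf g
  · rw [h.exp χ hχ g hg]
  · rw [h.reg0 _ _ hg, zero_mul, zero_mul]

theorem FS.eq_sum (h : FS Γ M p B Θ x) (η : A → ℂ) : Θ η = ∑ χ ∈ fs B, classInner (Θ η) χ.1 • χ.1 := by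
  rw [← blockPart_eq, h.bp]

theorem FS.exists_int (h : FS Γ M p B Θ x) : ∃ n : IrrCharacter G → (A → ℂ) → ℤ, (∀ o ∈ OS Γ, ∀ χ,
    classInner (Θ (au Γ o)) χ.1 = n χ o) ∧ ∀ χ ∈ B, ∀ t, t ≠ 1 → x χ t = ∑ o ∈ OS Γ, n χ o * o t := by
  have h1 : ∀ (χ : IrrCharacter G) o, ∃ n : ℤ, o ∈ OS Γ → classInner (Θ (au Γ o)) χ.1 = n ∧
      (χ ∈ B → classInner (x χ) (au Γ o) / Nat.card Γ = n) := fun χ o => by
    by_cases ho : o ∈ OS Γ
    · by_cases hχ : χ ∈ B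
      · have h2 := h.inner_irr (ai_au ho) hχ
        rw [← H3.inner_conj_symm (x χ), off_of_one (au_one ho)] at h2
        obtain ⟨l, -, rfl⟩ := mem_OS.1 ho
        obtain ⟨a, ha⟩ := H3.inner_gen_int (h.gen χ hχ) (H3.char_gen (H3.char_hom l))
        obtain ⟨b, hb⟩ := H3.inner_gen_int (h.gen χ hχ) (H3.char_gen (H3.char_hom 1))
        rw [(h.ai χ hχ).inner_au, ha, hb, map_mul, map_natCast] at h2
        exact ⟨a - b, fun _ => ⟨by simpa using mul_left_cancel₀ (card_Γ_ne Γ) h2, fun _ => by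
          rw [(h.ai χ hχ).inner_au, ha, hb, mul_div_cancel_left₀ _ (card_Γ_ne Γ), Int.cast_sub]⟩⟩
      · exact ⟨0, fun _ => ⟨by simpa using inner_eq_zero_of_blockPart (h.bp _) hχ, fun h => (hχ h).elim⟩⟩
    · exact ⟨0, fun h => (ho h).elim⟩
  choose n hn using h1
  exact ⟨n, fun o ho χ => (hn χ o ho).1, fun χ hχ t ht => (h.toFr.eq_sum_OS (h.ai χ hχ) ht).trans
    (Finset.sum_congr rfl fun o ho => by rw [(hn χ o ho).2 hχ])⟩

theorem FS.inner_au (h : FS Γ M p B Θ x) (ho : o ∈ OS Γ) (ho' : o' ∈ OS Γ) [Decidable (o = o')] :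
    classInner (Θ (au Γ o)) (Θ (au Γ o')) = (if o = o' then 1 else 0) + Nat.card Γ :=
  mul_left_cancel₀ (card_Γ_ne Γ) (by
    rw [h.inner _ _ (ai_au ho) (ai_au ho'), inner_off _ (au_one ho'), h.toFr.inner_au ho ho'])

theorem FS.iso (h : FS Γ M p B Θ x) (hB : B.Nonempty) : ∃ (δ : ℤ) (ζ : (A → ℂ) → IrrCharacter G), (δ = 1 ∨ δ = -1) ∧
    (∀ o ∈ OS Γ, ζ o ∈ B) ∧ Set.InjOn ζ (OS Γ) ∧
    ∀ o ∈ OS Γ, ∀ o' ∈ OS Γ, Θ (au Γ o) - Θ (au Γ o') = (δ : ℂ) • ((ζ o).1 - (ζ o').1) := by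
  classical
  obtain ⟨χ, hχ⟩ := hB
  by_cases h1 : ∀ o ∈ OS Γ, ∀ o' ∈ OS Γ, o = o'
  · exact ⟨1, fun _ => χ, .inl rfl, fun _ _ => hχ, fun o ho o' ho' _ => h1 o ho o' ho', fun o ho o' ho' => by
      simp [h1 o ho o' ho']⟩
  push Not at h1
  obtain ⟨o, ho, o', ho', h1⟩ := h1
  obtain ⟨n, hn, -⟩ := h.exists_int
  have h2 : ∀ o ∈ OS Γ, IsGeneralizedCharacter G (Θ (au Γ o)) := fun o ho =>
    H3.isGen_of_inner (h.bp _ ▸ class_blockPart _ _) fun χ hχ => ⟨_, hn o ho ⟨χ, hχ⟩⟩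
  obtain ⟨ε, h3, μ, h4, h5, h6⟩ := H3.isometry_lemma (⟨o, ho⟩ : OS Γ) (fun i => Θ (au Γ i) - Θ (au Γ o)) (sub_self _)
    (fun i => H3.gen_sub (h2 _ i.2) (h2 _ ho)) (fun i => by simp [h.reg0 _ 1 (not_dvd_orderOf_one hp.out)])
    (fun i hi => by
      have : i.1 ≠ o := fun e => hi (Subtype.ext e)
      simp [H3.inner_sub_left, H3.inner_sub_right, h.inner_au, ho, this, this.symm]; ring)
    fun i j hi hj hij => by
      have : i.1 ≠ o := fun e => hi (Subtype.ext e)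
      have : j.1 ≠ o := fun e => hj (Subtype.ext e)
      have : i.1 ≠ j.1 := fun e => hij (Subtype.ext e)
      simp [H3.inner_sub_left, H3.inner_sub_right, h.inner_au, ho, *, Ne.symm]
  have h7 : ∀ i j : OS Γ, Θ (au Γ i) - Θ (au Γ j) = ε • (μ i - μ j) := fun i j => by
    rw [← sub_sub_sub_cancel_right _ _ (Θ (au Γ o)), h6, h6, ← smul_sub, sub_sub_sub_cancel_right]
  obtain ⟨δ, rfl, h8⟩ : ∃ δ : ℤ, (δ : ℂ) = ε ∧ (δ = 1 ∨ δ = -1) := h3.elim (fun e => ⟨1, by simp [e]⟩) fun e => ⟨-1, by simp [e]⟩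
  refine ⟨δ, fun o => if h : o ∈ OS Γ then ⟨μ ⟨o, h⟩, h4 _⟩ else χ, h8, fun i hi => ?_, fun i hi j hj e => ?_,
    fun i hi j hj => by simpa [hi, hj] using h7 ⟨i, hi⟩ ⟨j, hj⟩⟩
  · obtain ⟨j, hj⟩ : ∃ j : OS Γ, j ≠ ⟨i, hi⟩ := by
      by_cases e : i = o
      exacts [⟨⟨o', ho'⟩, by simp [e, h1.symm]⟩, ⟨⟨o, ho⟩, by simp [Ne.symm e]⟩]
    simp only [dif_pos hi]
    by_contra h9
    have := congrArg (classInner · (μ ⟨i, hi⟩)) (h7 ⟨i, hi⟩ j)
    simp only [H3.inner_sub_left, inner_eq_zero_of_blockPart (h.bp _) h9, H3.inner_smul_left, H3.irr_inner_self (h4 _),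
      H3.irr_inner_ne (h4 _) (h4 _) (h5.ne hj)] at this
    rcases h8 with rfl | rfl <;> simp at this
  · simp only [Finset.mem_coe.1 hi, Finset.mem_coe.1 hj, dif_pos, Subtype.mk.injEq] at e
    exact congrArg Subtype.val (h5 e)

variable {ζ : (A → ℂ) → IrrCharacter G} {a : IrrCharacter G → ℤ} {d δ : ℤ}

variable (p B Γ x) in
/-- the exceptional and nonexceptional characters -/
structure Exc (ζ : (A → ℂ) → IrrCharacter G) (a : IrrCharacter G → ℤ) (d δ : ℤ) : Prop where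
  sign : δ = 1 ∨ δ = -1
  mem : ∀ o ∈ OS Γ, ζ o ∈ B
  inj : Set.InjOn ζ (OS Γ)
  val : ∀ o ∈ OS Γ, ∀ t, t ≠ 1 → x (ζ o) t = d + δ * o t
  val' : ∀ χ ∈ B \ ζ '' OS Γ, a χ ≠ 0 ∧ ∀ t, t ≠ 1 → x χ t = a χ
  norm : (d - δ) ^ 2 + ((OS Γ).card - 1) * d ^ 2 + ∑ χ ∈ fs (B \ ζ '' OS Γ), a χ ^ 2 = Nat.card Γ + 1
  pos : 1 ≤ (d - δ) ^ 2 + ((OS Γ).card - 1) * d ^ 2
  reg : ∀ o ∈ OS Γ, ∀ o' ∈ OS Γ, ∀ g, ¬ p ∣ orderOf g → (ζ o).1 g = (ζ o').1 g
  rel : ∀ o ∈ OS Γ, ∀ g, ¬ p ∣ orderOf g →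
    ((OS Γ).card * d - δ) * (ζ o).1 g + ∑ χ ∈ fs (B \ ζ '' OS Γ), a χ * χ.1 g = 0

theorem sum_split {R : Type*} [AddCommMonoid R] (h1 : ∀ o ∈ OS Γ, ζ o ∈ B) (h2 : Set.InjOn ζ (OS Γ))
    (F : IrrCharacter G → R) : ∑ χ ∈ fs B, F χ = ∑ o ∈ OS Γ, F (ζ o) + ∑ χ ∈ fs (B \ ζ '' OS Γ), F χ := by
  classical
  rw [← Finset.sum_image h2, ← Finset.sum_union (Finset.disjoint_left.2 fun χ h3 h4 => (mem_fs.1 h4).2 (by simpa using h3))]
  congr 1; ext χ
  simp only [mem_fs, Finset.mem_union, Finset.mem_image, Set.mem_diff, Set.mem_image, Finset.mem_coe]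
  exact ⟨fun h => (em _).imp_right fun h' => ⟨h, h'⟩, fun h => h.elim (fun ⟨o, ho, e⟩ => e ▸ h1 o ho) And.left⟩

theorem Fr.nonempty (h : Fr Γ) [Nontrivial A] : (OS Γ).Nonempty := Finset.card_pos.1 (Nat.pos_of_ne_zero fun e => by
  have := h.card_OS
  have := Finite.one_lt_card (α := A)
  simp_all)

theorem FS.exc (h : FS Γ M p B Θ x) (hB : B.Nonempty) [Nontrivial A] : ∃ ζ a d δ, Exc Γ p B x ζ a d δ := by
  classical
  obtain ⟨δ, ζ, h1, h2, h3, h4⟩ := h.iso hB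
  obtain ⟨n, h5, h6⟩ := h.exists_int
  obtain ⟨o₀, h0⟩ := h.toFr.nonempty
  obtain ⟨t₀, ht₀⟩ := exists_ne (1 : A)
  have h7 : ∀ o ∈ OS Γ, ∀ o' ∈ OS Γ, ∀ χ, n χ o - n χ o' = δ * ((if ζ o = χ then 1 else 0) - if ζ o' = χ then 1 else 0) :=
    fun o ho o' ho' χ => by
      have := congrArg (classInner · χ.1) (h4 o ho o' ho')
      simp only [H3.inner_sub_left, h5, ho, ho', H3.inner_smul_left, H3.irr_inner (Subtype.prop _) χ.2,
        Subtype.val_inj] at this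
      exact_mod_cast this
  have h8 : ∀ o ∈ OS Γ, Θ (au Γ o) = ∑ χ ∈ fs B, (n χ o : ℂ) • χ.1 := fun o ho => by
    simpa only [h5 o ho] using h.eq_sum (au Γ o)
  have h9 : ∀ o ∈ OS Γ, n (ζ o) o = n (ζ o₀) o₀ := fun o ho => by
    by_cases e : o = o₀
    · rw [e]
    have k1 := congrArg (classInner (Θ (au Γ o))) (h4 o ho o₀ h0)
    have k2 := h7 o ho o₀ h0 (ζ o₀)
    rw [if_neg fun e' => e (h3 ho h0 e'), if_pos rfl] at k2
    simp only [H3.inner_sub_right, h.inner_au, ho, h0, e, H3.inner_smul_right, h5, map_intCast, ite_true, ite_false] at k1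
    have k3 : (1 : ℤ) = δ * (n (ζ o) o - n (ζ o₀) o) := Int.cast_injective (α := ℂ) (by push_cast; linear_combination k1)
    rcases h1 with rfl | rfl <;> omega
  have k1 : ∀ o ∈ OS Γ, ∀ o' ∈ OS Γ, n (ζ o) o' = n (ζ o₀) o₀ - δ + if o' = o then δ else 0 := fun o ho o' ho' => by
    have := h7 o ho o' ho' (ζ o)
    rw [h9 o ho, if_pos rfl] at this
    split_ifs at this ⊢ with e2 e1 e1
    exacts [by omega, (e1 (congrArg ζ e2)).elim, (e2 (h3 ho' ho e1)).elim, by omega]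
  have k2 : ∀ χ ∈ B \ ζ '' OS Γ, ∀ o ∈ OS Γ, n χ o = n χ o₀ := fun χ hχ o ho => by
    have := h7 o ho o₀ h0 χ
    rw [if_neg fun e => hχ.2 ⟨o, ho, e⟩, if_neg fun e => hχ.2 ⟨o₀, h0, e⟩] at this
    omega
  have k3 : ∀ o ∈ OS Γ, ∀ t, t ≠ 1 → x (ζ o) t = (δ - n (ζ o₀) o₀ : ℤ) + δ * o t := fun o ho t ht => by
    rw [h6 _ (h2 o ho) t ht, Finset.sum_congr rfl fun o' ho' => by rw [k1 o ho o' ho']]
    simp [add_mul, Finset.sum_add_distrib, ← Finset.mul_sum, h.toFr.sum_OS_apply ht, ho]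
  have k4 : ∀ χ ∈ B \ ζ '' OS Γ, ∀ t, t ≠ 1 → x χ t = (-n χ o₀ : ℤ) := fun χ hχ t ht => by
    rw [h6 _ hχ.1 t ht, Finset.sum_congr rfl fun o' ho' => by rw [k2 χ hχ o' ho']]
    simp [← Finset.mul_sum, h.toFr.sum_OS_apply ht]
  have k5 : ∀ o ∈ OS Γ, ∀ o' ∈ OS Γ, ∀ g, ¬ p ∣ orderOf g → (ζ o).1 g = (ζ o').1 g := fun o ho o' ho' g hg => by
    have := congrFun (h4 o ho o' ho') g
    simp only [Pi.sub_apply, h.reg0 _ g hg, Pi.smul_apply, smul_eq_mul] at this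
    rcases h1 with rfl | rfl <;> push_cast at this
    exacts [by linear_combination -this, by linear_combination this]
  refine ⟨ζ, fun χ => -n χ o₀, δ - n (ζ o₀) o₀, δ, h1, h2, h3, k3, fun χ hχ => ⟨fun e => h.ne χ hχ.1 t₀ ht₀ (by
    rw [k4 χ hχ t₀ ht₀, e, Int.cast_zero]), k4 χ hχ⟩, ?_, ?_, k5, fun o ho g hg => ?_⟩
  · have := h.inner_au h0 h0
    rw [if_pos rfl] at this
    conv_lhs at this => enter [2]; rw [h8 o₀ h0]
    simp only [H3.inner_sum_right, H3.inner_smul_right, h5 o₀ h0, map_intCast] at this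
    rw [sum_split h2 h3, Finset.sum_congr rfl fun o ho => by rw [k1 o ho o₀ h0], ← Finset.add_sum_erase _ _ h0,
      Finset.sum_congr rfl fun o ho => by rw [if_neg (Finset.ne_of_mem_erase ho).symm], Finset.sum_const,
      Finset.card_erase_of_mem h0, nsmul_eq_mul, Nat.cast_pred (Finset.card_pos.2 ⟨_, h0⟩)] at this
    apply Int.cast_injective (α := ℂ)
    push_cast at this ⊢
    simp only [neg_sq, ← sq, ite_true] at this ⊢
    linear_combination this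
  · rcases (Nat.one_le_iff_ne_zero.2 (Finset.card_pos.2 ⟨_, h0⟩).ne').eq_or_lt with e | e
    · obtain ⟨o, e'⟩ := Finset.card_eq_one.1 e.symm
      have k6 := h.toFr.sum_OS_apply ht₀
      have k7 := h.ne _ (h2 _ h0) t₀ ht₀
      rw [k3 _ h0 t₀ ht₀] at k7
      rw [e', Finset.sum_singleton, ← Finset.mem_singleton.1 (e' ▸ h0 : o₀ ∈ ({o} : Finset _))] at k6
      have : n (ζ o₀) o₀ ≠ 0 := fun e => k7 (by simp [e, k6])
      simpa [← e] using Int.one_le_abs this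
    · have : (2 : ℤ) ≤ (OS Γ).card := by exact_mod_cast e
      by_cases e : δ - n (ζ o₀) o₀ = 0
      · rcases h1 with rfl | rfl <;> simp [e]
      · nlinarith [sq_nonneg (δ - n (ζ o₀) o₀ - δ), sq_pos_of_ne_zero e]
  · have := (congrFun (h8 o ho) g).symm.trans (h.reg0 _ g hg)
    simp only [Finset.sum_apply, Pi.smul_apply, smul_eq_mul, sum_split h2 h3] at this
    rw [Finset.sum_congr rfl fun o' ho' => by rw [k1 o' ho' o ho, k5 o' ho' o ho g hg],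
      Finset.sum_congr (s₁ := fs _) rfl fun χ hχ => by rw [k2 χ (mem_fs.1 hχ) o ho]] at this
    simp only [Int.cast_add, add_mul, Finset.sum_add_distrib, Finset.sum_const, Int.cast_ite, ite_mul, Int.cast_zero,
      zero_mul, Finset.sum_ite_eq, ho, ite_true, nsmul_eq_mul] at this
    simp only [Int.cast_neg, neg_mul, Finset.sum_neg_distrib]
    push_cast at this ⊢
    linear_combination -this

theorem Exc.card (h : Exc Γ p B x ζ a d δ) : Nat.card B = (OS Γ).card + Nat.card (B \ ζ '' OS Γ : Set _) := by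
  simpa [card_fs] using sum_split h.mem h.inj fun _ => (1 : ℕ)

theorem Exc.card_image (h : Exc Γ p B x ζ a d δ) : Nat.card (ζ '' OS Γ) = (OS Γ).card := by
  rw [Nat.card_image_of_injOn h.inj]; simp

theorem Exc.union (h : Exc Γ p B x ζ a d δ) : B = (B \ ζ '' OS Γ) ∪ ζ '' OS Γ :=
  (Set.diff_union_of_subset (by rintro _ ⟨o, ho, rfl⟩; exact h.mem o ho)).symm

theorem Exc.le_sum (h : Exc Γ p B x ζ a d δ) : ∀ χ ∈ fs (B \ ζ '' OS Γ), 1 ≤ a χ ^ 2 := fun χ hχ =>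
  sq_pos_of_ne_zero (h.val' χ (mem_fs.1 hχ)).1

theorem Exc.card_le (h : Exc Γ p B x ζ a d δ) : Nat.card (B \ ζ '' OS Γ : Set _) ≤ Nat.card Γ := by
  have h1 := Finset.sum_le_sum h.le_sum
  have := h.norm
  have := h.pos
  simp only [Finset.sum_const, card_fs, nsmul_eq_mul, mul_one] at h1
  omega

theorem Exc.change (h : Exc Γ p B x ζ a d δ) {σ : (A → ℂ) → A → ℂ} (h1 : Set.BijOn σ (OS Γ) (OS Γ))
    (h2 : ∀ o ∈ OS Γ, ∀ t, t ≠ 1 → d + δ * σ o t = -δ * o t) (h3 : (OS Γ).card * d = 2 * δ)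
    (h4 : (d - δ) ^ 2 + ((OS Γ).card - 1) * d ^ 2 = 1) : Exc Γ p B x (ζ ∘ σ) a 0 (-δ) := by
  have h5 : (ζ ∘ σ) '' OS Γ = ζ '' OS Γ := by rw [Set.image_comp, h1.image_eq]
  have h6 : (0 - -δ) ^ 2 + ((OS Γ).card - 1) * 0 ^ 2 = (1 : ℤ) := by rcases h.sign with rfl | rfl <;> simp
  refine ⟨by rcases h.sign with rfl | rfl <;> simp, fun o ho => h.mem _ (h1.mapsTo ho), h.inj.comp h1.injOn h1.mapsTo,
    fun o ho t ht => by simpa using (h.val _ (h1.mapsTo ho) t ht).trans (h2 o ho t ht), h5 ▸ h.val',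
    by rw [h5, h6, ← h.norm, h4], h6.ge, fun o ho o' ho' => h.reg _ (h1.mapsTo ho) _ (h1.mapsTo ho'), fun o ho g hg => ?_⟩
  rw [h5, ← h.rel _ (h1.mapsTo ho) g hg, show ((OS Γ).card * d : ℂ) = 2 * δ by exact_mod_cast h3]
  simp [two_mul]

theorem sq_eq_one_iff_of_int {a : ℤ} (h : a ^ 2 = 1) : a = 1 ∨ a = -1 := mul_self_eq_one_iff.1 (by rw [← sq, h])

theorem FS.dade (h : FS Γ M p B Θ x) [Nontrivial A] (hk : Nat.card Γ + (OS Γ).card ≤ Nat.card B) : ∃ ζ a δ,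
    Exc Γ p B x ζ a 0 δ ∧ Nat.card (B \ ζ '' OS Γ : Set _) = Nat.card Γ ∧ ∀ χ ∈ B \ ζ '' OS Γ, a χ = 1 ∨ a χ = -1 := by
  suffices ∃ ζ a δ, Exc Γ p B x ζ a 0 δ by
    obtain ⟨ζ, a, δ, h1⟩ := this
    have h2 := h1.card
    have h3 := h1.card_le
    have h4 := h1.norm
    refine ⟨ζ, a, δ, h1, by omega, fun χ hχ => sq_eq_one_iff_of_int ?_⟩
    refine ((Finset.sum_eq_sum_iff_of_le h1.le_sum).1 ?_ χ (mem_fs.2 hχ)).symm
    rcases h1.sign with rfl | rfl <;> simp [card_fs, -Nat.card_coe_set_eq] at h4 ⊢ <;> omega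
  obtain ⟨ζ, a, d, δ, h1⟩ := h.exc ((Set.ncard_pos (Set.toFinite B)).1 (Nat.card_pos.trans_le (le_of_add_le_left hk)))
  have h2 := h1.card
  have h3 := Finset.sum_le_sum h1.le_sum
  have h4 := h1.norm
  have h5 := h1.pos
  simp only [Finset.sum_const, card_fs, nsmul_eq_mul, mul_one] at h3
  have h6 : (d - δ) ^ 2 + ((OS Γ).card - 1) * d ^ 2 = 1 := by omega
  by_cases hd : d = 0
  · exact ⟨ζ, a, δ, hd ▸ h1⟩
  have h7 := Finset.card_pos.2 h.toFr.nonempty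
  have h8 := sq_pos_of_ne_zero hd
  have h9 : (OS Γ).card < 3 := by
    by_contra h9
    have : (3 : ℤ) ≤ (OS Γ).card := by exact_mod_cast not_lt.1 h9
    nlinarith [sq_nonneg (d - δ)]
  obtain e | e : (OS Γ).card = 1 ∨ (OS Γ).card = 2 := by omega
  · have k1 : d = 2 * δ := by
      rw [e] at h6
      rcases sq_eq_one_iff_of_int (show (d - δ) ^ 2 = 1 by simpa using h6) with e | e <;>
        rcases h1.sign with rfl | rfl <;> omega
    obtain ⟨o, e'⟩ := Finset.card_eq_one.1 e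
    refine ⟨_, a, _, h1.change (Set.bijOn_id _) (fun o' ho t ht => ?_) (by simp [e, k1]) h6⟩
    have := h.toFr.sum_OS_apply ht
    rw [e', Finset.sum_singleton, ← Finset.mem_singleton.1 (e' ▸ ho : o' ∈ ({o} : Finset _))] at this
    simp [this, k1]; ring
  · have k1 : d = δ := by
      rw [e] at h6
      nlinarith [sq_nonneg (d - δ)]
    classical
    obtain ⟨o, o', h0, e'⟩ := Finset.card_eq_two.1 e
    refine ⟨_, a, _, h1.change (σ := fun u => o + o' - u) (Set.Finite.surjOn_iff_bijOn_of_mapsTo (Finset.finite_toSet _)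
      (by simp [e', Set.MapsTo]) |>.1 (by simp [e', Set.SurjOn, Set.insert_subset_iff])) (fun u ho t ht => ?_)
      (by simp [e, k1]) h6⟩
    have := h.toFr.sum_OS_apply ht
    rw [e', Finset.sum_pair h0] at this
    simp [this, k1]; ring

open Classical in
/-- orbit indicators -/
noncomputable def oi (Γ : Subgroup (MulAut A)) (s t : A) : ℂ := if ∃ γ ∈ Γ, γ s = t then 1 else 0

theorem oi_iff {γ : MulAut A} (h : γ ∈ Γ) (s t : A) : (∃ y ∈ Γ, y s = γ t) ↔ ∃ y ∈ Γ, y s = t :=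
  ⟨fun ⟨y, h1, h2⟩ => ⟨γ⁻¹ * y, mul_mem (inv_mem h) h1, by simp [h2]⟩, fun ⟨y, h1, h2⟩ => ⟨γ * y, mul_mem h h1, by simp [h2]⟩⟩

theorem ai_oi (s : A) : AI Γ (oi Γ s) := fun γ hγ t => by
  classical exact if_congr (oi_iff hγ s t) rfl rfl

theorem oi_apply {γ : MulAut A} (h : γ ∈ Γ) (s : A) : oi Γ (γ s) = oi Γ s := funext fun t => by
  classical
  exact if_congr ⟨fun ⟨y, h1, h2⟩ => ⟨y * γ, mul_mem h1 h, h2⟩, fun ⟨y, h1, h2⟩ =>
    ⟨y * γ⁻¹, mul_mem h1 (inv_mem h), by simp [h2]⟩⟩ rfl rfl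

theorem Fr.inner_oi (h : Fr Γ) (ht : t ≠ 1) (hη : AI Γ η) :
    Nat.card A * classInner (off (oi Γ t)) η = Nat.card Γ * conj (η t) := by
  classical
  rw [off_of_one (if_neg (by simpa using fun _ _ => ht)), classInner, mul_inv_cancel_left₀ (H3.card_ne_zero' _),
    ← SetLike.coe_sort_coe, ← card_fs, ← nsmul_eq_mul, ← Finset.sum_const]
  simp only [oi, ite_mul, one_mul, zero_mul, ← Finset.sum_filter]
  refine (Finset.sum_bij (fun γ _ => γ t) (fun γ hγ => by simpa using ⟨γ, mem_fs.1 hγ, rfl⟩) (fun γ hγ y hy e => ?_)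
    (fun s hs => by simpa using hs) fun γ hγ => by rw [hη γ (mem_fs.1 hγ)]).symm
  exact (inv_mul_eq_one.1 (h.free _ (mul_mem (inv_mem (mem_fs.1 hγ)) (mem_fs.1 hy)) t ht (by simp [← e])))

theorem FS.sum_x (h : FS Γ M p B Θ x) (ht : t ≠ 1) (g : G) :
    ∑ χ ∈ fs B, x χ t * χ.1 g = Nat.card A * Θ (oi Γ t⁻¹) g := by
  rw [h.eq_sum, Finset.sum_apply, Finset.mul_sum]
  refine Finset.sum_congr rfl fun χ hχ => ?_
  have h1 := h.toFr.inner_oi (inv_ne_one.2 ht) (h.ai χ (mem_fs.1 hχ))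
  rw [← h.inner_irr (ai_oi _) (mem_fs.1 hχ), ← H3.gen_inv (h.gen χ (mem_fs.1 hχ)), inv_inv, mul_left_comm] at h1
  rw [Pi.smul_apply, smul_eq_mul, ← mul_assoc, mul_left_cancel₀ (card_Γ_ne Γ) h1]

variable {H : Type*} [Group H] [Fintype H] {c : Set (IrrCharacter H)} {Θ' : (A → ℂ) →ₗ[ℂ] (H → ℂ)}
  {x' : IrrCharacter H → A → ℂ}

theorem FS.half (h : FS Γ M p B Θ x) (h' : FS Γ M p c Θ' x') {ι : Type*} {s : Finset ι} {i : ι → IrrCharacter G}
    {j : ι → IrrCharacter H} {ε : ι → ℂ} (h1 : ∀ F : IrrCharacter H → ℂ, ∑ r ∈ s, F (j r) = ∑ ξ ∈ fs c, F ξ)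
    (h2 : ∀ r ∈ s, i r ∈ B) (h3 : ∀ r ∈ s, ∀ t, t ≠ 1 → ε r * x (i r) t = x' (j r) t) (hg : p ∣ orderOf g) (y : H) :
    (∑ r ∈ s, ε r * (i r).1 g * (j r).1 y) / Nat.card (C1 g) ∈ O M ∧
      (¬ p ∣ orderOf y → ∑ r ∈ s, ε r * (i r).1 g * (j r).1 y = 0) := by
  have h4 : ∑ r ∈ s, ε r * (i r).1 g * (j r).1 y = Nat.card A * Θ (fun t => Θ' (oi Γ t⁻¹) y) g := by
    rw [← smul_eq_mul (Nat.card A : ℂ), ← Pi.smul_apply, ← map_smul, h.congr (η' := ∑ r ∈ s, (ε r * (j r).1 y) • x (i r))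
      fun t ht => by
        simp only [Pi.smul_apply, smul_eq_mul, ← h'.sum_x ht, ← h1, Finset.sum_apply]
        exact Finset.sum_congr rfl fun r hr => by rw [← h3 r hr t ht]; ring, map_sum, Finset.sum_apply]
    exact Finset.sum_congr rfl fun r hr => by rw [map_smul, Pi.smul_apply, ← h.exp _ (h2 r hr) g hg, smul_eq_mul]; ring
  rw [h4]
  refine ⟨(h.int _ (fun γ hγ t => by rw [← map_inv, oi_apply hγ]) (fun t => (h'.int _ (ai_oi _) (fun t => ?_) y).1) g).2,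
    fun hy => by simp only [h'.reg0 _ y hy]; rw [show (fun _ => 0 : A → ℂ) = 0 from rfl]; simp⟩
  unfold oi; split_ifs; exacts [one_mem _, zero_mem _]

theorem FS.half' (hM : IsPModular p M) (h : FS Γ M p B Θ x) (h' : FS Γ M p c Θ' x') {ι : Type*} {s : Finset ι}
    {i : ι → IrrCharacter G} {j : ι → IrrCharacter H} {ε : ι → ℤ}
    (h1 : ∀ F : IrrCharacter H → ℂ, ∑ r ∈ s, F (j r) = ∑ ξ ∈ fs c, F ξ) (h2 : ∀ r ∈ s, i r ∈ B)
    (h3 : ∀ r ∈ s, ∀ t, t ≠ 1 → ε r * x (i r) t = x' (j r) t) (g : G) (y : H)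
    (h4 : ¬ p ∣ orderOf g → p ∣ orderOf y → ∑ r ∈ s, ε r * (i r).1 g * (j r).1 y = 0) :
    MemLocalRing M ((∑ r ∈ s, ε r * (i r).1 g * (j r).1 y) / Nat.card (C1 g)) := by
  refine (memLocalRing_iff hM (div_mem (sum_mem fun r _ => mul_mem (mul_mem (intCast_mem _ _) (mem_Alg_of_isIntegral
    (H3.char_integral (H3.irr_char (i r).2) _))) (mem_Alg_of_isIntegral (H3.char_integral (H3.irr_char (j r).2) _)))
    (natCast_mem _ _))).2 ?_
  by_cases hg : p ∣ orderOf g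
  · exact (h.half h' h1 h2 h3 hg y).1
  by_cases hy : p ∣ orderOf y
  · rw [h4 hg hy, zero_div]; exact zero_mem _
  refine div_card_mem_O (θ := fun g => ∑ r ∈ s, ε r * (i r).1 g * (j r).1 y) hM ?_
    (fun g hg => (h.half h' h1 h2 h3 hg y).2 hy) g
  convert sum_mem fun r (_ : r ∈ s) => smul_mem_OC (mul_mem (intCast_mem _ (ε r)) (OC_apply (irr_mem_OC (j r)) y))
    (irr_mem_OC (M := M) (i r)) using 1
  ext g; simp [mul_right_comm]

theorem FS.perfect (hM : IsPModular p M) (h : FS Γ M p B Θ x) (h' : FS Γ M p c Θ' x')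
    {I : IrrCharacter H → IrrCharacter G} {ε : IrrCharacter H → ℤ} (h1 : Set.BijOn I c B)
    (h2 : ∀ ξ ∈ c, ε ξ = 1 ∨ ε ξ = -1) (h3 : ∀ ξ ∈ c, ∀ t, t ≠ 1 → ε ξ * x (I ξ) t = x' ξ t) :
    IsPerfectIsometry p M c B I ε := by
  have k1 : ∀ F : IrrCharacter G → ℂ, ∑ r ∈ fs c, F (I r) = ∑ ξ ∈ fs B, F ξ := fun F =>
    Finset.sum_nbij I (fun r hr => mem_fs.2 (h1.mapsTo (mem_fs.1 hr))) (by simpa [fs] using h1.injOn) (by simpa [fs] using h1.surjOn) fun _ _ => rfl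
  have k2 : ∀ r ∈ fs c, I r ∈ B := fun r hr => h1.mapsTo (mem_fs.1 hr)
  have k3 : ∀ r ∈ fs c, ∀ t, t ≠ 1 → ε r * x' r t = x (I r) t := fun r hr t ht => by
    rw [← h3 r (mem_fs.1 hr) t ht]; rcases h2 r (mem_fs.1 hr) with e | e <;> simp [e]
  have k4 := fun r hr => h3 r (mem_fs.1 hr)
  refine ⟨h1, h2, fun g y => ?_⟩
  rw [signedBijectionKernel, finsum_mem_eq_fs]
  have k5 := fun hg => (h.half h' (j := id) (fun _ => rfl) k2 k4 (g := g) hg y).2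
  have k6 := fun hy => (h'.half h (i := id) k1 (fun r => mem_fs.1) k3 (g := y) hy g).2
  have k7 : ∑ r ∈ fs c, ε r * (id r).1 y * (I r).1 g = ∑ r ∈ fs c, ε r * (I r).1 g * r.1 y :=
    Finset.sum_congr rfl fun _ _ => mul_right_comm _ _ _
  rw [k7] at k6
  refine ⟨h.half' hM h' (j := id) (fun _ => rfl) k2 k4 g y fun a b => k6 b a, ?_, ?_⟩
  · exact k7 ▸ h'.half' hM h (i := id) k1 (fun r => mem_fs.1) k3 y g fun a b => k7.trans (k5 b a)
  · unfold IsPRegular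
    by_cases hg : p ∣ orderOf g <;> by_cases hy : p ∣ orderOf y
    exacts [.inl (by simp [hg, hy]), .inr (k5 hg hy), .inr (k6 hy hg), .inl (by simp [hg, hy])]

theorem FS.perfect_dade (hM : IsPModular p M) (h : FS Γ M p B Θ x) (h' : FS Γ M p c Θ' x') [Nontrivial A]
    (hk : Nat.card Γ + (OS Γ).card ≤ Nat.card B) (hk' : Nat.card Γ + (OS Γ).card ≤ Nat.card c) :
    ∃ I ε, IsPerfectIsometry p M c B I ε ∧ ∀ ξ ∈ c, ∀ ξ' ∈ c, (∀ n : ℤ, ∃ t, t ≠ 1 ∧ x' ξ t ≠ n) →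
      (∀ n : ℤ, ∃ t, t ≠ 1 ∧ x' ξ' t ≠ n) → ε ξ = ε ξ' := by
  classical
  obtain ⟨ζ, a, δ, h1, h2, h3⟩ := h.dade hk
  obtain ⟨ζ', a', δ', h1', h2', h3'⟩ := h'.dade hk'
  obtain ⟨e⟩ := Finite.card_eq.1 (h2'.trans h2.symm)
  let f := Function.invFunOn ζ' (OS Γ)
  have hf : ∀ o ∈ OS Γ, f (ζ' o) = o := fun o ho => h1'.inj.leftInvOn_invFunOn ho
  have k1 : ∀ ξ ∈ c, ξ ∉ c \ ζ' '' OS Γ → ∃ o ∈ OS Γ, ζ' o = ξ := fun ξ h1 h2 => by_contra fun h => h2 ⟨h1, h⟩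
  refine ⟨fun ξ => if h : ξ ∈ c \ ζ' '' OS Γ then e ⟨ξ, h⟩ else ζ (f ξ),
    fun ξ => if h : ξ ∈ c \ ζ' '' OS Γ then a (e ⟨ξ, h⟩) * a' ξ else δ * δ', h.perfect hM h' ?_ (fun ξ hξ => ?_)
      fun ξ hξ t ht => ?_, fun ξ hξ ξ' hξ' k2 k3 => ?_⟩
  · refine ⟨fun ξ hξ => ?_, fun ξ hξ ξ' hξ' k => ?_, fun χ hχ => ?_⟩
    · dsimp only; split_ifs with k
      · exact (e _).2.1
      · obtain ⟨o, ho, rfl⟩ := k1 ξ hξ k
        rw [hf o ho]; exact h1.mem o ho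
    · dsimp only at k; split_ifs at k with k2 k3 k3
      · simpa using e.injective (Subtype.ext k)
      · obtain ⟨o, ho, rfl⟩ := k1 _ hξ' k3
        exact ((e _).2.2 ⟨o, ho, by rw [k, hf o ho]⟩).elim
      · obtain ⟨o, ho, rfl⟩ := k1 _ hξ k2
        exact ((e _).2.2 ⟨o, ho, by rw [← k, hf o ho]⟩).elim
      · obtain ⟨o, ho, rfl⟩ := k1 _ hξ' k3
        obtain ⟨o', ho', rfl⟩ := k1 _ hξ k2
        rw [hf o ho, hf o' ho'] at k
        rw [h1.inj ho' ho k]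
    · by_cases k : χ ∈ ζ '' OS Γ
      · obtain ⟨o, ho, rfl⟩ := k
        exact ⟨ζ' o, h1'.mem o ho, by
          simp only [dif_neg fun h : ζ' o ∈ c \ ζ' '' OS Γ => h.2 ⟨o, ho, rfl⟩, hf o ho]⟩
      · exact ⟨e.symm ⟨χ, hχ, k⟩, (e.symm _).2.1, by simp only [dif_pos (e.symm ⟨χ, hχ, k⟩).2]; simp⟩
  · split_ifs with k
    · rcases h3 _ (e ⟨ξ, k⟩).2 with e1 | e1 <;> rcases h3' _ k with e2 | e2 <;> simp [e1, e2]
    · rcases h1.sign with e1 | e1 <;> rcases h1'.sign with e2 | e2 <;> simp [e1, e2]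
  · split_ifs with k
    · rw [(h1.val' _ (e ⟨ξ, k⟩).2).2 t ht, (h1'.val' _ k).2 t ht]
      rcases h3 _ (e ⟨ξ, k⟩).2 with e1 | e1 <;> simp [e1]
    · obtain ⟨o, ho, rfl⟩ := k1 _ hξ k
      rw [hf o ho, h1.val o ho t ht, h1'.val o ho t ht]
      rcases h1.sign with e1 | e1 <;> simp [e1]
  · dsimp only
    rw [dif_neg fun k => let ⟨t, ht, e⟩ := k2 (a' ξ); e ((h1'.val' _ k).2 t ht),
      dif_neg fun k => let ⟨t, ht, e⟩ := k3 (a' ξ'); e ((h1'.val' _ k).2 t ht)]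

end H4
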