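import Cfsg.Agent.H4.Ker

/-!
# Fitting idempotents, lifting of idempotents, primitive idempotents of fixed point algebras
`fit_k`, `fit_O`, `exists_lift`, `ev_eq_of_Br`, the trace `tau` of a Brauer-quotient idempotent, `Prim`,
`idem_ind`, `Prim.green` (Green's indecomposability theorem in idempotent form).
-/

set_option autoImplicit false
set_option linter.unusedSectionVars false

namespace H4
open MonoidAlgebra Cfsg H1 Polynomial
open scoped Pointwise ComplexConjugate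

theorem fit_aux {R A : Type*} [CommRing R] [Ring A] [Algebra R A] {m n : R[X]} (h : IsCoprime (X * m) n) :
    ∃ r : R[X], ∀ a : A, aeval a (m * n) = 0 →
      a * aeval a r * (a * aeval a r) = a * aeval a r ∧ aeval a m * (1 - a * aeval a r) = 0 := by
  obtain ⟨α, β, h⟩ := h
  refine ⟨α * m, fun a ha => ?_⟩
  have h1 : a * aeval a (α * m) = aeval a (X * (α * m)) := by rw [map_mul _ X, aeval_X]
  have h2 : 1 - aeval a (X * (α * m)) = aeval a (β * n) := by
    rw [← map_one (aeval (R := R) a), ← map_sub, ← h]; congr 1; ring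
  rw [h1, h2, ← map_mul, ← map_mul]
  constructor
  · rw [show X * (α * m) * (X * (α * m)) = X * (α * m) * (α * (X * m) + β * n) - X * α * β * (m * n) by ring, h,
      mul_one, map_sub, map_mul _ _ (m * n), ha, mul_zero, sub_zero]
  · rw [show m * (β * n) = β * (m * n) by ring, map_mul, ha, mul_zero]

theorem fit_k {F A : Type*} [Field F] [Ring A] [Algebra F A] [Module.Finite F A] (a : A) :
    ∃ r : F[X], ∃ N : ℕ, a * aeval a r * (a * aeval a r) = a * aeval a r ∧ a ^ N * (1 - a * aeval a r) = 0 := by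
  have h0 : minpoly F a ≠ 0 := minpoly.ne_zero (Algebra.IsIntegral.isIntegral a)
  obtain ⟨n, h1, h2⟩ := exists_eq_pow_rootMultiplicity_mul_and_not_dvd _ h0 0
  rw [C_0, sub_zero] at h1 h2
  have h3 := (irreducible_X.coprime_iff_not_dvd.2 h2)
  obtain ⟨r, hr⟩ := fit_aux (A := A) (h3.mul_left (h3.pow_left (m := rootMultiplicity 0 (minpoly F a))))
  have := hr a (h1 ▸ minpoly.aeval F a)
  exact ⟨r, _, this.1, by simpa using this.2⟩

variable {G : Type*} [Group G] [Finite G] {M : Ideal AlgInt} {p : ℕ}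

theorem exists_roots_O {a : ℂ[G]} (ha : a ∈ IntA G M) :
    ∃ s : Multiset (O M), aeval a (s.map fun x => X - C x).prod = 0 := by
  obtain ⟨q, h1, h2⟩ := isIntegral_of_IntA ha
  have h3 := (IsAlgClosed.splits (q.map (algebraMap (O M) ℂ))).eq_prod_roots_of_monic (h1.map _)
  obtain ⟨s, hs⟩ := CanLift.prf (β := Multiset (O M)) (coe := Multiset.map Subtype.val)
    (cond := fun s => ∀ x ∈ s, x ∈ O M) (q.map (algebraMap (O M) ℂ)).roots fun x hx =>
      mem_O_of_isIntegral_O ⟨q, h1, by rw [← eval_map]; exact isRoot_of_mem_roots hx⟩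
  refine ⟨s, ?_⟩
  rw [← aeval_map_algebraMap ℂ, Polynomial.map_multiset_prod, Multiset.map_map]
  rw [← hs, Multiset.map_map] at h3
  simp only [Function.comp_def, Polynomial.map_sub, map_X, map_C] at h3 ⊢
  exact (congrArg _ h3.symm).trans ((aeval_map_algebraMap ℂ a q).trans h2)

theorem aeval_mem (S : Subring ℂ[G]) (h : ∀ c ∈ O M, algebraMap ℂ ℂ[G] c ∈ S) {a : ℂ[G]} (ha : a ∈ S)
    (r : (O M)[X]) : aeval a r ∈ S := by
  induction r using Polynomial.induction_on' with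
  | add _ _ h1 h2 => rw [map_add]; exact add_mem h1 h2
  | monomial n c => rw [aeval_monomial]; exact mul_mem (h c c.2) (pow_mem ha n)

theorem aeval_mem_IntA {a : ℂ[G]} (ha : a ∈ IntA G M) (r : (O M)[X]) : aeval a r ∈ IntA G M :=
  aeval_mem _ (fun _ => algebraMap_mem_IntA) ha r

theorem aeval_mem_Fix {H : Subgroup G} {a : ℂ[G]} (ha : a ∈ Fix ℂ H) (r : (O M)[X]) : aeval a r ∈ Fix ℂ H :=
  aeval_mem (Fix ℂ H).toSubring (fun c _ => (Fix ℂ H).algebraMap_mem c) ha r

theorem redA_aeval {a : ℂ[G]} (ha : a ∈ IntA G M) (r : (O M)[X]) :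
    redA M (aeval a r) = aeval (redA M a) (r.map (IsLocalRing.residue (O M))) := by
  induction r using Polynomial.induction_on' with
  | add _ _ h1 h2 => rw [map_add, redA_add (aeval_mem_IntA ha _) (aeval_mem_IntA ha _), h1, h2, Polynomial.map_add, map_add]
  | monomial n c =>
    rw [aeval_monomial, Polynomial.map_monomial, aeval_monomial, ← redA_pow ha, ← red_coe, ← redA_algebraMap]
    exact redA_mul (algebraMap_mem_IntA c.2) (pow_mem ha n)

theorem fit_O {a b : ℂ[G]} (ha : a ∈ IntA G M) (hb : b ∈ IntA G M) : ∃ r : (O M)[X], ∃ N : ℕ, ∀ c, c = a ∨ c = b →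
    c * aeval c r * (c * aeval c r) = c * aeval c r ∧ redA M c ^ N * (1 - redA M (c * aeval c r)) = 0 := by
  classical
  obtain ⟨s, hs⟩ := exists_roots_O ha
  obtain ⟨t, ht⟩ := exists_roots_O hb
  let s0 := (s + t).filter fun x => ¬ IsUnit x
  let s1 := (s + t).filter IsUnit
  have h1 : ∀ x, ¬ IsUnit x → IsCoprime (X - C x) (s1.map fun x => X - C x).prod := fun x hx =>
    Multiset.prod_induction _ _ (fun _ _ => IsCoprime.mul_right) isCoprime_one_right fun f hf => by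
      obtain ⟨y, hy, rfl⟩ := Multiset.mem_map.1 hf
      refine isCoprime_X_sub_C_of_isUnit_sub ?_
      have := IsLocalRing.isUnit_or_isUnit_of_isUnit_add (a := x) (b := y - x)
        (by rw [add_sub_cancel]; exact Multiset.of_mem_filter hy)
      rw [← IsUnit.neg_iff, neg_sub]; exact this.resolve_left hx
  obtain ⟨r, hr⟩ := fit_aux (A := ℂ[G]) (m := (s0.map fun x => X - C x).prod) (IsCoprime.mul_left
    (by simpa using h1 0 not_isUnit_zero) (Multiset.prod_induction (fun f => IsCoprime f _) _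
      (fun _ _ => IsCoprime.mul_left) isCoprime_one_left fun f hf => by
        obtain ⟨y, hy, rfl⟩ := Multiset.mem_map.1 hf; exact h1 y (Multiset.mem_filter.1 hy).2))
  refine ⟨r, s0.card, fun c hc => ?_⟩
  have h2 : c ∈ IntA G M := by rcases hc with rfl | rfl <;> assumption
  obtain ⟨h3, h4⟩ := hr c (by
    rw [← Multiset.prod_add, ← Multiset.map_add, add_comm, Multiset.filter_add_not, Multiset.map_add,
      Multiset.prod_add]
    rcases hc with rfl | rfl
    · rw [map_mul, hs, zero_mul]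
    · rw [map_mul, ht, mul_zero])
  refine ⟨h3, ?_⟩
  have h5 := congrArg (redA M) h4
  have h6 := mul_mem h2 (aeval_mem_IntA h2 r)
  rw [redA_mul (aeval_mem_IntA h2 _) (sub_mem (one_mem _) h6), redA_sub (one_mem _) h6, redA_one, redA_zero,
    redA_aeval h2, Polynomial.map_multiset_prod, Multiset.map_map, Multiset.map_congr rfl (g := fun _ => X)] at h5
  · simpa using h5
  · intro x hx
    have := (IsLocalRing.residue_ne_zero_iff_isUnit x).not_right.2 (Multiset.mem_filter.1 hx).2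
    simp [this]

theorem mul_aeval_comm {R A : Type*} [CommRing R] [Ring A] [Algebra R A] (a : A) (r : R[X]) :
    a * aeval a r = aeval a r * a := by
  simpa using congrArg (aeval a) (mul_comm X r)

theorem idem_pow_mul {A : Type*} [Ring A] {i x : A} (h : i * i = i) {N : ℕ} (h0 : i ^ N * x = 0) : i * x = 0 := by
  rw [← (IsIdempotentElem.pow_succ_eq N h), pow_succ', mul_assoc, h0, mul_zero]

/-- lifting idempotents inside a corner of the `H`-fixed points -/
theorem exists_lift {H : Subgroup G} {J : ℂ[G]} (h1 : J ∈ IntA G M) (h2 : J ∈ Fix ℂ H) (h3 : J * J = J)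
    {i : (k M)[G]} (hi : i ∈ Fix (k M) H) (h4 : i * i = i) (h5 : redA M J * i * redA M J = i) :
    ∃ E ∈ IntA G M, E ∈ Fix ℂ H ∧ E * E = E ∧ redA M E = i ∧ J * E = E ∧ E * J = E := by
  have ha : J * secA M i * J ∈ IntA G M := mul_mem (mul_mem h1 (secA_mem_IntA i)) h1
  have hb : J * secA M i * J ∈ Fix ℂ H := mul_mem (mul_mem h2 (secA_mem_Fix hi)) h2
  have hc : redA M (J * secA M i * J) = i := by
    rw [redA_mul (mul_mem h1 (secA_mem_IntA i)) h1, redA_mul h1 (secA_mem_IntA i), redA_secA, h5]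
  obtain ⟨r, N, h⟩ := fit_O ha ha
  obtain ⟨h6, h7⟩ := h _ (.inl rfl)
  refine ⟨_, mul_mem ha (aeval_mem_IntA ha r), mul_mem hb (aeval_mem_Fix hb r), h6, ?_, ?_, ?_⟩
  · rw [redA_mul ha (aeval_mem_IntA ha r), hc] at h7 ⊢
    have := idem_pow_mul h4 h7
    rwa [mul_sub, ← mul_assoc, h4, mul_one, sub_eq_zero, eq_comm] at this
  · simp only [← mul_assoc, h3]
  · rw [mul_aeval_comm]; simp only [mul_assoc, h3]

theorem exists_lift' {H : Subgroup G} {i : (k M)[G]} (hi : i ∈ Fix (k M) H) (h4 : i * i = i) :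
    ∃ E ∈ IntA G M, E ∈ Fix ℂ H ∧ E * E = E ∧ redA M E = i := by
  obtain ⟨E, h1, h2, h3, h4, -⟩ := exists_lift (one_mem _) (one_mem _) (one_mul 1) hi h4 (by simp)
  exact ⟨E, h1, h2, h3, h4⟩

theorem mem_Fix_zpowers {R : Type*} [CommRing R] {g : G} {a : R[G]} : a ∈ Fix R (Subgroup.zpowers g) ↔ cj g a = a :=
  ⟨fun h => mem_Fix.1 h g (Subgroup.mem_zpowers g), fun h =>
    (le_Stab.1 (Subgroup.zpowers_le.2 (mem_Stab.2 ⟨Subgroup.mem_top g, h⟩))).2⟩

variable (p) in
/-- the cyclic group generated by the `p`-part -/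
noncomputable abbrev Zp (g : G) : Subgroup G := Subgroup.zpowers (pp p g)

theorem Zp_le {g : G} {H : Subgroup G} (h : g ∈ H) : Zp p g ≤ H := Subgroup.zpowers_le.2 (pp_mem h)

theorem Zp_le_zpowers (g : G) : Zp p g ≤ Subgroup.zpowers g := Zp_le (Subgroup.mem_zpowers g)

theorem CS_zpowers (g : G) : CS (Subgroup.zpowers g) = C1 g := H4.centralizer_zpowers g

theorem zpowers_conj (x g : G) : Subgroup.zpowers (x * g * x⁻¹) = MulAut.conj x • Subgroup.zpowers g :=
  (MonoidHom.map_zpowers (MulAut.conj x).toMonoidHom g).symm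

theorem Zp_conj (x g : G) : Zp p (x * g * x⁻¹) = MulAut.conj x • Zp p g := by rw [Zp, pp_conj, zpowers_conj]

theorem mem_CS_Zp (g : G) : g ∈ CS (Zp p g) := by rw [CS_zpowers]; exact mem_C1_pp g

variable [hp : Fact p.Prime]

theorem isP_Zp (g : G) : IsPGroup p (Zp p g) := isPGroup_zpowers hp.out (isPElt_pp hp.out g)

theorem ev_eq_zero_of_Br (hM : IsPModular p M) {χ : G → ℂ} (hχ : IsClassFunction G χ) {g : G} {E : ℂ[G]}
    (h1 : E ∈ IntA G M) (h2 : E * E = E) (h3 : cj g E = E) (h4 : Br (Zp p g) (redA M E) = 0) :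
    ev χ (E * single g 1) = 0 := by
  have h5 := trunc_add_trunc_compl (CS (Zp p g) : Set G) (redA M E)
  rw [show trunc _ (redA M E) = 0 from h4, zero_add] at h5
  refine ev_eq_zero_of_Sup_compl hM hχ (CS_zpowers _).ge h1 h2 h3 (trunc_mem_IntA (CS (Zp p g) : Set G)ᶜ h1) ?_
    (trunc_mem_Sup _ _) ?_
  · rw [cj_trunc g (T := (CS (Zp p g) : Set G)ᶜ), h3]
    intro x
    simp only [Set.mem_compl_iff, SetLike.mem_coe, mul_mem_cancel_right (mem_CS_Zp g),
      mul_mem_cancel_left (inv_mem (mem_CS_Zp g))]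
  · rw [redA_mul (mul_mem h1 (trunc_mem_IntA _ h1)) h1, redA_mul h1 (trunc_mem_IntA _ h1), redA_trunc, h5,
      ← redA_mul h1 h1, h2, ← redA_mul h1 h1, h2]

theorem ev_fit_aux (hM : IsPModular p M) {χ : G → ℂ} (hχ : IsClassFunction G χ) {g : G} {E F : ℂ[G]}
    (h1 : E ∈ IntA G M) (h2 : E * E = E) (h3 : cj g E = E) (h1' : F ∈ IntA G M) (h2' : F * F = F) (h3' : cj g F = F)
    (h4 : Br (Zp p g) (redA M E) = Br (Zp p g) (redA M F)) {r : (O M)[X]} {N : ℕ} {c : ℂ[G]} (hc : c = E * F * E)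
    (h5 : c * aeval c r * (c * aeval c r) = c * aeval c r) (h6 : redA M c ^ N * (1 - redA M (c * aeval c r)) = 0) :
    ev χ (E * single g 1) = ev χ (c * aeval c r * single g 1) := by
  have := charP_k hM
  have c1 : c ∈ IntA G M := hc ▸ mul_mem (mul_mem h1 h1') h1
  have c2 : c ∈ Fix ℂ (Subgroup.zpowers g) :=
    hc ▸ mul_mem (mul_mem (mem_Fix_zpowers.2 h3) (mem_Fix_zpowers.2 h3')) (mem_Fix_zpowers.2 h3)
  have d1 := mul_mem c1 (aeval_mem_IntA c1 r)
  have d2 := mul_mem c2 (aeval_mem_Fix c2 r)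
  have d3 : E * (c * aeval c r) = c * aeval c r := by rw [hc]; simp only [← mul_assoc, h2]
  have d4 : c * aeval c r * E = c * aeval c r := by rw [mul_aeval_comm, hc]; simp only [mul_assoc, h2]
  set D := c * aeval c r
  rw [← sub_eq_zero, ← map_sub, ← sub_mul]
  refine ev_eq_zero_of_Br hM hχ (sub_mem h1 d1) (by rw [mul_sub, sub_mul, sub_mul, h2, d3, d4, h5, sub_self, sub_zero])
    (mem_Fix_zpowers.1 (sub_mem (mem_Fix_zpowers.2 h3) d2)) ?_
  have f := fun {a : ℂ[G]} (h : a ∈ Fix ℂ (Subgroup.zpowers g)) => Fix_anti (Zp_le_zpowers (p := p) g) (redA_mem_Fix (M := M) h)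
  have e1 := f (mem_Fix_zpowers.2 h3)
  have e2 := f (mem_Fix_zpowers.2 h3')
  have e3 : Br (Zp p g) (redA M E) * Br (Zp p g) (redA M E) = Br (Zp p g) (redA M E) :=
    Br_idem (isP_Zp g) e1 (by rw [← redA_mul h1 h1, h2])
  have h7 := congrArg (Br (Zp p g)) h6
  rw [Br_mul (isP_Zp g) (pow_mem (f c2) N) (sub_mem (one_mem _) (f d2)), Br_pow (isP_Zp g) (f c2), hc,
    redA_mul (mul_mem h1 h1') h1, redA_mul h1 h1', Br_mul (isP_Zp g) (mul_mem e1 e2) e1, Br_mul (isP_Zp g) e1 e2,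
    ← h4, e3, e3, map_zero] at h7
  rw [← idem_pow_mul e3 h7, ← Br_mul (isP_Zp g) e1 (sub_mem (one_mem _) (f d2)), mul_sub, mul_one, ← redA_mul h1 d1,
    d3, redA_sub h1 d1]

theorem ev_eq_of_Br (hM : IsPModular p M) {χ : G → ℂ} (hχ : IsClassFunction G χ) {g : G} {E F : ℂ[G]}
    (h1 : E ∈ IntA G M) (h2 : E * E = E) (h3 : cj g E = E) (h1' : F ∈ IntA G M) (h2' : F * F = F) (h3' : cj g F = F)
    (h4 : Br (Zp p g) (redA M E) = Br (Zp p g) (redA M F)) : ev χ (E * single g 1) = ev χ (F * single g 1) := by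
  obtain ⟨r, N, h⟩ := fit_O (mul_mem (mul_mem h1 h1') h1) (mul_mem (mul_mem h1' h1) h1')
  rw [ev_fit_aux hM hχ h1 h2 h3 h1' h2' h3' h4 rfl (h _ (.inl rfl)).1 (h _ (.inl rfl)).2,
    ev_fit_aux hM hχ h1' h2' h3' h1 h2 h3 h4.symm rfl (h _ (.inr rfl)).1 (h _ (.inr rfl)).2]
  have k1 : ∀ {E F : ℂ[G]}, E * E = E → ∀ n, E * F * E * (E * F * E) ^ n = E * ((F * E) ^ n * F) * E := fun {E F} h n => by
    induction n with
    | zero => simp
    | succ n ih => rw [pow_succ, ← mul_assoc, ih, pow_succ]; simp only [mul_assoc]; rw [← mul_assoc E E, h]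
  have k2 : ∀ {E : ℂ[G]}, E * E = E → cj g E = E → ∀ a, ev χ (E * a * E * single g 1) = ev χ (E * a * single g 1) :=
    fun {E} h h' a => by
      rw [mul_assoc _ E, ← (cj_eq_iff_commute g E).1 h', ← mul_assoc, ev_char_comm hχ _ E]
      simp only [← mul_assoc, h]
  simp only [aeval_eq_sum_range, Finset.mul_sum, Finset.sum_mul, map_sum, mul_smul_comm, smul_mul_assoc,
    LinearMap.map_smul_of_tower, k1 h2, k1 h2', k2 h2 h3, k2 h2' h3']
  refine Finset.sum_congr rfl fun n _ => congrArg _ ?_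
  rw [← mul_assoc, ← mul_pow_mul, mul_assoc, mul_assoc, ← (cj_eq_iff_commute g F).1 h3', ← mul_assoc, ← mul_assoc,
    ev_char_comm hχ _ F]
  simp only [mul_assoc]

variable (p) in
/-- `E` is an idempotent over `O`, fixed by `g`, with Brauer image `y` -/
structure Lf (g : G) (y : (k M)[G]) (E : ℂ[G]) : Prop where
  int : E ∈ IntA G M
  idem : E * E = E
  fix : cj g E = E
  br : Br (Zp p g) (redA M E) = y

variable (p) in
/-- the trace of `g` on an idempotent of the Brauer quotient -/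
noncomputable def tau (χ : G → ℂ) (g : G) (y : (k M)[G]) : ℂ := ev χ (Classical.epsilon (Lf p g y) * single g 1)

theorem Lf.tau_eq (hM : IsPModular p M) {χ : G → ℂ} (hχ : IsClassFunction G χ) {g : G} {y : (k M)[G]} {E : ℂ[G]}
    (h : Lf p g y E) : tau p χ g y = ev χ (E * single g 1) :=
  have h' := Classical.epsilon_spec ⟨E, h⟩
  ev_eq_of_Br hM hχ h'.int h'.idem h'.fix h.int h.idem h.fix (h'.br.trans h.br.symm)

variable (p) in
/-- idempotents of the Brauer quotient at `g` -/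
structure GI (g : G) (y : (k M)[G]) : Prop where
  idem : y * y = y
  sup : y ∈ Sup (k M) (CS (Zp p g) : Set G)
  fix : cj g y = y

theorem GI.lf {g : G} {y : (k M)[G]} (h : GI p g y) : ∃ E, Lf p g y E ∧ redA M E = y := by
  obtain ⟨E, h1, h2, h3, h4⟩ := exists_lift' (mem_Fix_zpowers.2 h.fix) h.idem
  exact ⟨E, ⟨h1, h3, mem_Fix_zpowers.1 h2, h4 ▸ Br_of_Sup (h4 ▸ h.sup)⟩, h4⟩

theorem tau_zero (hM : IsPModular p M) {χ : G → ℂ} (hχ : IsClassFunction G χ) (g : G) : tau p χ g (0 : (k M)[G]) = 0 := by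
  rw [Lf.tau_eq hM hχ (E := 0) ⟨zero_mem _, mul_zero _, map_zero _, by simp⟩, zero_mul, map_zero]

theorem GI.add {g : G} {y z : (k M)[G]} (h : GI p g y) (h' : GI p g z) (h1 : y * z = 0) (h2 : z * y = 0) :
    GI p g (y + z) :=
  ⟨by rw [mul_add, add_mul, add_mul, h1, h2, h.idem, h'.idem, add_zero, zero_add], add_mem h.sup h'.sup,
    by rw [map_add, h.fix, h'.fix]⟩

theorem tau_add (hM : IsPModular p M) {χ : G → ℂ} (hχ : IsClassFunction G χ) {g : G} {y z : (k M)[G]}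
    (h : GI p g y) (h' : GI p g z) (h1 : y * z = 0) (h2 : z * y = 0) :
    tau p χ g (y + z) = tau p χ g y + tau p χ g z := by
  obtain ⟨E, e, e'⟩ := h.lf
  obtain ⟨F, f1, f2, f3, f4, f5, f6⟩ := exists_lift (J := 1 - E) (sub_mem (one_mem _) e.int)
    (sub_mem (one_mem _) (mem_Fix_zpowers.2 e.fix)) (by rw [mul_sub, sub_mul, sub_mul, e.idem]; simp)
    (mem_Fix_zpowers.2 h'.fix) h'.idem (by rw [redA_sub (one_mem _) e.int, e']; simp [mul_sub, sub_mul, h1, h2])
  have f : Lf p g z F := ⟨f1, f3, mem_Fix_zpowers.1 f2, f4 ▸ Br_of_Sup (f4 ▸ h'.sup)⟩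
  rw [sub_mul, one_mul, sub_eq_self] at f5
  rw [mul_sub, mul_one, sub_eq_self] at f6
  rw [e.tau_eq hM hχ, f.tau_eq hM hχ, ← map_add, ← add_mul]
  exact Lf.tau_eq hM hχ ⟨add_mem e.int f1, by rw [mul_add, add_mul, add_mul, f5, f6, e.idem, f3, add_zero, zero_add],
    by rw [map_add, e.fix, f.fix], by rw [redA_add e.int f1, map_add, e.br, f.br]⟩

theorem tau_sum (hM : IsPModular p M) {χ : G → ℂ} (hχ : IsClassFunction G χ) {g : G} {ι : Type*} (s : Finset ι)
    {y : ι → (k M)[G]} (h : ∀ i ∈ s, GI p g (y i)) (h' : ∀ i ∈ s, ∀ j ∈ s, i ≠ j → y i * y j = 0) :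
    GI p g (∑ i ∈ s, y i) ∧ tau p χ g (∑ i ∈ s, y i) = ∑ i ∈ s, tau p χ g (y i) := by
  classical
  induction s using Finset.induction_on with
  | empty => exact ⟨⟨mul_zero _, zero_mem _, map_zero _⟩, tau_zero hM hχ g⟩
  | insert a s ha ih =>
    simp only [Finset.mem_insert, forall_eq_or_imp] at h h'
    obtain ⟨h1, h2⟩ := ih h.2 fun i hi => (h'.2 i hi).2
    have h3 : y a * ∑ i ∈ s, y i = 0 := by
      rw [Finset.mul_sum]; exact Finset.sum_eq_zero fun i hi => h'.1.2 i hi fun e => ha (e ▸ hi)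
    have h4 : (∑ i ∈ s, y i) * y a = 0 := by
      rw [Finset.sum_mul]; exact Finset.sum_eq_zero fun i hi => (h'.2 i hi).1 fun e => ha (e ▸ hi)
    rw [Finset.sum_insert ha, Finset.sum_insert ha, tau_add hM hχ h.1 h1 h3 h4, h2]
    exact ⟨h.1.add h1 h3 h4, rfl⟩

theorem cj_conj {R : Type*} [CommRing R] (x g : G) (a : R[G]) : cj (x * g * x⁻¹) (cj x a) = cj x (cj g a) := by
  rw [← cj_mul, ← cj_mul, inv_mul_cancel_right]

theorem tau_cj (hM : IsPModular p M) {χ : G → ℂ} (hχ : IsClassFunction G χ) {g : G} {y : (k M)[G]} (h : GI p g y)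
    (x : G) : tau p χ (x * g * x⁻¹) (cj x y) = tau p χ g y := by
  obtain ⟨E, e, -⟩ := h.lf
  rw [e.tau_eq hM hχ, ← ev_cj hχ x, map_mul, cj_single]
  exact Lf.tau_eq hM hχ ⟨cj_mem_IntA x e.int, by rw [← map_mul, e.idem], by rw [cj_conj, e.fix],
    by rw [redA_cj, Zp_conj, ← cj_Br', e.br]⟩

theorem GI.Br_mul (hM : IsPModular p M) {g : G} {j f : (k M)[G]} (h1 : j * j = j) (h2 : cj g j = j)
    (hf : IsBI (CS (Zp p g)) f) : GI p g (Br (Zp p g) j * f) := by
  have := charP_k hM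
  have h3 := mem_Fix_zpowers.2 h2
  refine ⟨idem_mul_Z (ZA_comm_Sup hf.mem (Br_mem_Sup _ _)).symm (Br_idem (isP_Zp g) (Fix_anti (Zp_le_zpowers g) h3) h1)
    hf.idem, mul_mem_Sup_subgroup (Br_mem_Sup _ _) (mem_ZA.1 hf.mem).2, ?_⟩
  rw [map_mul, mem_Fix.1 (mem_ZA.1 hf.mem).1 g (mem_CS_Zp g), mem_Fix_zpowers.1
    (Br_mem_Fix ((Subgroup.zpowers_le.2 (mem_CS_Zp g)).trans (CS_le_NS _)) h3)]

/-- the character of `H` on the image of an `H`-fixed idempotent -/
theorem char_idem {χ : G → ℂ} (hχ : IsCharacter G χ) {H : Subgroup G} {E : ℂ[G]} (h1 : E ∈ Fix ℂ H)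
    (h2 : E * E = E) : IsCharacter H fun h => ev χ (E * single (h : G) 1) := by
  obtain ⟨n, ρ, rfl⟩ := hχ
  set π := ρ.asAlgebraHom E
  have h3 : ∀ h : H, π * ρ h = ρ h * π := fun h => by
    rw [← Representation.asAlgebraHom_single_one, ← map_mul, ← map_mul, (cj_eq_iff_commute _ _).1 (mem_Fix.1 h1 h h.2)]
  have h4 : π * π = π := by rw [← map_mul, h2]
  let σ : Representation ℂ H (LinearMap.range π) := Representation.subrepresentation (ρ.comp H.subtype) _ fun h => by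
    rintro _ ⟨w, rfl⟩; exact ⟨ρ h w, LinearMap.congr_fun (h3 h) w⟩
  convert H3.isCharacter_character σ using 1
  funext h
  rw [ev_character, map_mul, Representation.asAlgebraHom_single_one]
  refine (LinearMap.trace_comp_comm' (π.rangeRestrict ∘ₗ ρ h) (LinearMap.range π).subtype).trans
    (congrArg _ (LinearMap.ext ?_))
  rintro ⟨_, w, rfl⟩
  refine Subtype.ext ?_
  exact (LinearMap.congr_fun (h3 h) _).trans (congrArg (ρ h) (LinearMap.congr_fun h4 w))

variable {F : Type*} [Field F] {H : Subgroup G} {j a : F[G]}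

/-- primitive idempotents of the fixed point algebra -/
structure Prim (H : Subgroup G) (j : F[G]) : Prop where
  mem : j ∈ Fix F H
  idem : j * j = j
  ne : j ≠ 0
  prim : ∀ e ∈ Fix F H, e * e = e → j * e = e → e * j = e → e = 0 ∨ e = j

theorem idem_ind {P : F[G] → Prop} (h0 : P 0) (h1 : ∀ j, Prim H j → P j)
    (h2 : ∀ a ∈ Fix F H, ∀ b ∈ Fix F H, a * a = a → b * b = b → a * b = 0 → b * a = 0 → P a → P b → P (a + b))
    (hj : j ∈ Fix F H) (h : j * j = j) : P j := by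
  induction' hW : LinearMap.range (LinearMap.mulLeft F j) using WellFoundedLT.induction with W ih generalizing j
  by_cases h3 : j = 0
  · exact h3 ▸ h0
  by_cases h4 : ∀ e ∈ Fix F H, e * e = e → j * e = e → e * j = e → e = 0 ∨ e = j
  · exact h1 j ⟨hj, h, h3, h4⟩
  push Not at h4
  obtain ⟨e, e1, e2, e3, e4, e5, e6⟩ := h4
  have key : ∀ e ∈ Fix F H, e * e = e → j * e = e → e * j = e → e ≠ j → P e := fun e e1 e2 e3 e4 e6 => by
    refine ih _ (hW ▸ lt_of_le_of_ne ?_ fun h5 => e6 ?_) e1 e2 rfl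
    · rintro _ ⟨x, rfl⟩; exact ⟨e * x, by simp [← mul_assoc, e3]⟩
    · obtain ⟨x, hx⟩ := h5.ge ⟨j, rfl⟩
      simp only [LinearMap.mulLeft_apply, h] at hx
      rw [← e4, ← hx, ← mul_assoc, e2]
  have h5 : (j - e) * (j - e) = j - e := by rw [mul_sub, sub_mul, sub_mul, h, e2, e3, e4, sub_self, sub_zero]
  rw [← add_sub_cancel e j]
  exact h2 e e1 _ (sub_mem hj e1) e2 h5 (by rw [mul_sub, e2, e4, sub_self]) (by rw [sub_mul, e2, e3, sub_self])
    (key e e1 e2 e3 e4 e6) (key _ (sub_mem hj e1) h5 (by rw [mul_sub, h, e3]) (by rw [sub_mul, h, e4])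
      (by simpa using e5))

theorem Prim.nil_or (h : Prim H j) (ha : a ∈ Fix F H) (h1 : j * a = a) (h2 : a * j = a) :
    IsNilpotent a ∨ ∃ r ∈ Fix F H, a * r = j ∧ r * a = j := by
  obtain ⟨r, N, h3, h4⟩ := fit_k (F := F) a
  have h5 : aeval a r ∈ Fix F H := Algebra.adjoin_le (Set.singleton_subset_iff.2 ha) (aeval_mem_adjoin_singleton F a)
  refine (h.prim _ (mul_mem ha h5) h3 (by rw [← mul_assoc, h1]) (by rw [mul_aeval_comm, mul_assoc, h2])).imp
    (fun e => ⟨N, by simpa [e] using h4⟩) fun e => ⟨_, h5, e, mul_aeval_comm a r ▸ e⟩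

/-- the maximal ideal attached to a primitive idempotent -/
def Prim.rad (h : Prim H j) : Submodule F F[G] where
  carrier := {a | a ∈ Fix F H ∧ ¬ ∃ r ∈ Fix F H, j * a * j * r = j}
  zero_mem' := ⟨zero_mem _, fun ⟨r, _, e⟩ => h.ne (by simpa using e.symm)⟩
  smul_mem' c a ha := ⟨Subalgebra.smul_mem _ ha.1 c, fun ⟨r, h1, e⟩ =>
    ha.2 ⟨c • r, Subalgebra.smul_mem _ h1 c, by simpa using e⟩⟩
  add_mem' {a b} ha hb := ⟨add_mem ha.1 hb.1, fun ⟨r, h1, e⟩ => by
    have k1 : ∀ a ∈ Fix F H, (¬ ∃ r ∈ Fix F H, j * a * j * r = j) → IsNilpotent (j * a * j * r * j) := fun a ha h2 =>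
      (h.nil_or (mul_mem (mul_mem (mul_mem (mul_mem h.mem ha) h.mem) h1) h.mem) (by simp only [← mul_assoc, h.idem])
        (by simp only [mul_assoc, h.idem])).resolve_right fun ⟨s, h3, h4, _⟩ =>
          h2 ⟨r * j * s, mul_mem (mul_mem h1 h.mem) h3, by simpa only [mul_assoc] using h4⟩
    have k2 : j * a * j * r * j + j * b * j * r * j = j := by rw [← add_mul, ← add_mul, ← add_mul, ← mul_add, e, h.idem]
    refine h.ne (idem_eq_zero_of_isNilpotent h.idem (k2 ▸ Commute.isNilpotent_add ?_ (k1 a ha.1 ha.2) (k1 b hb.1 hb.2)))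
    rw [← eq_sub_iff_add_eq'] at k2
    rw [k2]
    exact Commute.sub_right (by simp only [Commute, SemiconjBy, mul_assoc, h.idem]; simp only [← mul_assoc, h.idem])
      (Commute.refl _)⟩

theorem Prim.notMem (h : Prim H j) : j ∉ h.rad := fun e => e.2 ⟨1, one_mem _, by simp [h.idem]⟩

theorem Prim.or (h : Prim H j) (ha : a ∈ Fix F H) :
    (∃ r ∈ Fix F H, j * a * j * r = j) ∨ ∃ r ∈ Fix F H, j * (j - a) * j * r = j := by
  by_contra h1
  rw [not_or] at h1
  exact h.notMem (by simpa using h.rad.add_mem ⟨ha, h1.1⟩ ⟨sub_mem h.mem ha, h1.2⟩)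

theorem Prim.exists_acls (h : Prim H j) : ∃ x, j.coeff x ≠ 0 ∧ ∃ r ∈ Fix F H, j * acls F H x * j * r = j := by
  obtain ⟨x, h1, h2⟩ := exists_acls_ne_zero h.rad.mkQ h.mem (by simpa using h.notMem)
  exact ⟨x, h1, by_contra fun h3 => h2 ((Submodule.Quotient.mk_eq_zero _).2 ⟨acls_mem_Fix H x, h3⟩)⟩

theorem sub_smul_pow [CharP F p] {b : F[G]} (h : j * j = j) (h1 : j * b = b) (h2 : b * j = b) (c : F) (n : ℕ) :
    (b - c • j) ^ p ^ n = b ^ p ^ n - c ^ p ^ n • j := by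
  have := charP_monoidAlgebra (F := F) (G := G) (p := p)
  rw [sub_pow_char_pow_of_commute _ _ (Commute.smul_right (h2.trans h1.symm) c), _root_.smul_pow,
    IsIdempotentElem.pow_eq h (pow_ne_zero n hp.out.ne_zero)]

/-- Green's indecomposability theorem -/
theorem Prim.green [CharP F p] [IsAlgClosed F] (h : Prim H j) {K : Subgroup G} (hK : K ≤ H) {δ : G → F}
    (d1 : ∀ x ∈ H, ∀ y ∈ H, δ (x * y) = δ x + δ y) (d2 : ∀ x, δ x ^ p = δ x) (d3 : ∀ x ∈ H, x ∈ K ↔ δ x = 0)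
    (ha : a ∈ Fix F K) (h1 : Tr K H a = j) :
    ∃ i ∈ Fix F K, i * i = i ∧ Tr K H i = j ∧ ∀ x ∈ H, x ∉ K → cj x i * i = 0 := by
  have := charP_monoidAlgebra (F := F) (G := G) (p := p)
  have hj := Fix_anti hK h.mem
  wlog h2 : j * a = a ∧ a * j = a generalizing a
  · exact this (mul_mem (mul_mem hj ha) hj) (by rw [← Tr_mul h.mem, ← mul_Tr h.mem, h1, h.idem, h.idem])
      ⟨by simp only [← mul_assoc, h.idem], by simp only [mul_assoc, h.idem]⟩
  obtain ⟨b, b1, b2, b3⟩ : ∃ b : F[G], j * b = b ∧ b * j = b ∧ ∀ y ∈ H, cj y b = b - δ y • j := by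
    have k := fun q hq => mem_Fix.1 h.mem (Quotient.out q) ((mem_cos (T := K)).1 hq)
    refine ⟨∑ q ∈ cos K H, δ q.out • cj q.out a, ?_, ?_, fun y hy => ?_⟩
    · rw [Finset.mul_sum]
      exact Finset.sum_congr rfl fun q hq => by rw [mul_smul_comm, ← k q hq, ← map_mul, h2.1]
    · rw [Finset.sum_mul]
      exact Finset.sum_congr rfl fun q hq => by rw [smul_mul_assoc, ← k q hq, ← map_mul, h2.2]
    · rw [← sum_cos_smul hK hy fun q => δ q.out • cj q.out a, ← h1, Tr_apply, ← sum_cos_smul hK hy fun q => cj q.out a,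
        Finset.smul_sum, ← Finset.sum_sub_distrib, ← sum_cos_smul hK (inv_mem hy), map_sum]
      refine Finset.sum_congr rfl fun q hq => ?_
      have h3 := mem_cos.1 hq
      obtain ⟨t, h4, h5⟩ := exists_out_eq K (y * q.out)
      rw [smul_inv_smul, map_smul, ← cj_smul_out ha, ← sub_smul, smul_eq_mk, h5,
        d1 _ (mul_mem hy h3) _ (hK h4), (d3 t (hK h4)).1 h4, add_zero, d1 _ hy _ h3, add_sub_cancel_left]
  obtain ⟨α, v, v1, v2, v3⟩ : ∃ (α : F) (v : F[G]), v ≠ 0 ∧ j * v = v ∧ b * v = α • v := by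
    have : Nontrivial (LinearMap.range (LinearMap.mulLeft F j)) :=
      Submodule.nontrivial_iff_ne_bot.2 fun e => h.ne (by simpa using e.le ⟨1, rfl⟩)
    obtain ⟨α, hα⟩ := Module.End.exists_eigenvalue ((LinearMap.mulLeft F b).restrict
      (p := LinearMap.range (LinearMap.mulLeft F j)) (q := LinearMap.range (LinearMap.mulLeft F j))
      fun x _ => ⟨b * x, by simp [← mul_assoc, b1]⟩)
    obtain ⟨⟨_, w, rfl⟩, h3, h4⟩ := hα.exists_hasEigenvector
    exact ⟨α, j * w, fun e => h4 (Subtype.ext e), by rw [← mul_assoc, h.idem],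
      congrArg Subtype.val (Module.End.mem_eigenspace_iff.1 h3)⟩
  wlog h3 : α = 0 generalizing b α
  · exact this (b - α • j) (by simp [mul_sub, b1, h.idem]) (by simp [sub_mul, b2, h.idem])
      (fun y hy => by rw [map_sub, map_smul, b3 y hy, mem_Fix.1 h.mem y hy, sub_right_comm]) 0
      (by simp [sub_mul, v2, v3]) rfl
  rw [h3, zero_smul] at v3
  have pw : ∀ {b : F[G]} {n : ℕ}, n ≠ 0 → j * b = b → b * j = b → b * v = 0 → j * b ^ n = b ^ n ∧ b ^ n * j = b ^ n ∧
      b ^ n * v = 0 := fun {b n} hn b1 b2 v3 => by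
    obtain ⟨n, rfl⟩ := Nat.exists_eq_succ_of_ne_zero hn
    exact ⟨by rw [pow_succ', ← mul_assoc, b1], by rw [pow_succ, mul_assoc, b2], by rw [pow_succ, mul_assoc, v3, mul_zero]⟩
  have d4 : ∀ n x, δ x ^ p ^ n = δ x := fun n x => by
    induction n with
    | zero => simp
    | succ n ih => rw [pow_succ, pow_mul, ih, d2]
  wlog h4 : b ^ p = b generalizing b
  · obtain ⟨c1, c2, c3⟩ := pw hp.out.ne_zero b1 b2 v3
    obtain ⟨n, hn⟩ := (h.nil_or (a := b ^ p - b) (mem_Fix.2 fun y hy => by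
      rw [map_sub, map_pow, b3 y hy, ← pow_one p, sub_smul_pow h.idem b1 b2, d4, sub_sub_sub_cancel_right])
      (by rw [mul_sub, c1, b1]) (by rw [sub_mul, c2, b2])).resolve_right fun ⟨r, _, _, e⟩ =>
        v1 (by rw [← v2, ← e, mul_assoc, sub_mul, c3, v3, sub_zero, mul_zero])
    obtain ⟨c4, c5, c6⟩ := pw (pow_ne_zero n hp.out.ne_zero) b1 b2 v3
    refine this (b ^ p ^ n) c4 c5 (fun y hy => by rw [map_pow, b3 y hy, sub_smul_pow h.idem b1 b2, d4]) c6 ?_
    have h5 := pow_eq_zero_of_le (Nat.lt_pow_self hp.out.one_lt).le hn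
    rwa [sub_pow_char_pow_of_commute _ _ ((Commute.refl b).pow_left p), sub_eq_zero, pow_right_comm] at h5
  obtain ⟨c1, c2, c3⟩ := pw (Nat.sub_ne_zero_of_lt hp.out.one_lt) b1 b2 v3
  have e1 : (j - b ^ (p - 1)) * b = 0 := by rw [sub_mul, b1, ← pow_succ, Nat.sub_add_cancel hp.out.pos, h4, sub_self]
  have e2 : b * (j - b ^ (p - 1)) = 0 := by rw [mul_sub, b2, ← pow_succ', Nat.sub_add_cancel hp.out.pos, h4, sub_self]
  have e3 : j * (j - b ^ (p - 1)) = j - b ^ (p - 1) := by rw [mul_sub, h.idem, c1]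
  have e4 : (j - b ^ (p - 1)) * j = j - b ^ (p - 1) := by rw [sub_mul, h.idem, c2]
  have e5 : (j - b ^ (p - 1)) * v = v := by rw [sub_mul, v2, c3, sub_zero]
  have e6 : j - b ^ (p - 1) ∈ Fix F K := sub_mem hj (pow_mem (mem_Fix.2 fun y hy => by
    rw [b3 y (hK hy), (d3 y (hK hy)).1 hy, zero_smul, sub_zero]) _)
  have e7 : (j - b ^ (p - 1)) * (j - b ^ (p - 1)) = j - b ^ (p - 1) := by
    rw [mul_sub _ j, e4, ← Nat.sub_add_cancel (Nat.sub_pos_of_lt hp.out.one_lt), pow_succ', ← mul_assoc,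
      ← pow_succ', Nat.sub_add_cancel (Nat.sub_pos_of_lt hp.out.one_lt), e1, zero_mul, sub_zero]
  set i := j - b ^ (p - 1)
  have e8 : ∀ x ∈ H, x ∉ K → cj x i * i = 0 := fun x hx hx' => by
    have h5 := congrArg (fun t => cj x t * i) e1
    simp only [map_mul, b3 x hx, map_zero, zero_mul, mul_assoc, sub_mul, e2, smul_mul_assoc, e3, zero_sub, mul_neg,
      mul_smul_comm, neg_eq_zero, smul_eq_zero] at h5
    exact h5.resolve_left fun e => hx' ((d3 x hx).2 e)
  have e9 := (Tr_mul_self hK e6 e8).trans e7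
  have e10 := Tr_mem_Fix hK e6
  refine ⟨i, e6, e7, (h.prim _ e10 (by rw [mul_Tr e10, e9]) (by rw [mul_Tr h.mem, e3])
    (by rw [Tr_mul h.mem, e4])).resolve_left fun e => v1 (by rw [← e5, ← e9, e, zero_mul, zero_mul]), e8⟩

end H4
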