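import Cfsg.Agent.H4.Abel
import Cfsg.Agent.H4.FS

/-!
# Blocks with abelian defect group and freely acting inertial quotient
`ga`, `FB`, `xi`, `dd`, `FB.inner`, `FB.fs`.
-/

set_option autoImplicit false
set_option linter.unusedSectionVars false

namespace H4
open MonoidAlgebra Cfsg H1
open scoped Pointwise ComplexConjugate

variable {G : Type*} [Group G] [Finite G] {M : Ideal AlgInt} {p : ℕ} [hp : Fact p.Prime]
variable {H Q P T : Subgroup G} {e : (k M)[G]} {θ θ' : G → ℂ} {g u : G} {z : H}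
  {b : Set (IrrCharacter H)} {B : Set (IrrCharacter G)} {χ ψ χ₀ : IrrCharacter G} {η η' w : P → ℂ} {t : P}

/-- automorphisms of `P` induced by `T` -/
def ga (P T : Subgroup G) : Subgroup (MulAut P) := (T.subgroupOf (NS P)).map P.normalizerMonoidHom

theorem mem_ga (h : T ≤ NS P) {γ : MulAut P} : γ ∈ ga P T ↔ ∃ y ∈ T, ∀ t, (γ t : G) = y * t * y⁻¹ :=
  ⟨fun ⟨y, h1, h2⟩ => ⟨y, h1, fun _ => h2 ▸ rfl⟩,
    fun ⟨y, h1, h2⟩ => ⟨⟨y, h h1⟩, h1, MulEquiv.ext fun t => Subtype.ext (h2 t).symm⟩⟩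

theorem ai_ga (h : T ≤ NS P) : AI (ga P T) η ↔ TI T η :=
  ⟨fun h1 y hy t t' e => by
    rw [show t' = P.normalizerMonoidHom ⟨y, h hy⟩ t from Subtype.ext e]; exact h1 _ ⟨_, hy, rfl⟩ t,
  fun h1 γ hγ t => let ⟨y, h2, h3⟩ := (mem_ga h).1 hγ; h1 y h2 _ _ (h3 t)⟩

theorem card_ga (h : T ≤ NS P) : Nat.card (ga P T) = (CS P).relIndex T := by
  rw [ga, ← Subgroup.relIndex_ker, Subgroup.normalizerMonoidHom_ker, Subgroup.relIndex_subgroupOf h]

theorem sb_OC (hM : IsPModular p M) (hz : Sec p z) (hθ : θ ∈ OC G M) {d : ℕ} (hd : blockDefect p b ≤ d) :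
    ((p ^ d : ℕ) : ℂ) • sb p z b θ ∈ OC H M := by
  have := Fintype.ofFinite H
  rw [sb, blockPart_eq, reg_sum, Finset.smul_sum]
  refine sum_mem fun ψ hψ => ?_
  rw [reg_smul, smul_comm]
  exact smul_mem_OC (OC_inner (hz.OC_sh hθ) (H3.irr_char ψ.2)) (gen_mem_OC (gen_reg_irr hM ψ.2
    ((card_le_nu_add (mem_fs.1 hψ)).trans (Nat.add_le_add_left hd _))))

theorem star_int (hM : IsPModular p M) (hB : IsPBlock M B) (hm : MaxP p (eB M B) P e) (hχ : χ ∈ B)
    (hη : ∀ t, η t ∈ O M) (g : G) :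
    star p e χ.1 η g ∈ O M ∧ Nat.card P * star p e χ.1 η g / Nat.card (C1 g) ∈ O M := by
  have hz := sec_cEl (isPElt_pp hp.out g)
  let y : C1 (pp p g) := ⟨pq p g, mem_centralizer_singleton.2 (commute_pp_pq g)⟩
  have hy : ¬ p ∣ orderOf y := by rw [← Subgroup.orderOf_coe]; exact not_dvd_orderOf_pq hp.out g
  have h1 := hz.Phi_one (w := wt p e η) hM (H3.irr_class χ.2) hy
  have h2 : ∀ f, wt p e η (pp p g) f ∈ O M := fun f => by unfold wt; split_ifs; exacts [hη _, zero_mem _]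
  have h3 : Nat.card (C1 y) = Nat.card (C1 g) := by
    rw [← Subgroup.card_map_of_injective (C1 (pp p g)).subtype_injective]
    congr 2; ext a
    simp only [Subgroup.mem_map, mem_centralizer_singleton]
    exact ⟨fun ⟨a, h, e⟩ => by
      simpa [y, pp_mul_pq, ← e] using (mem_centralizer_singleton.1 a.2).mul_left (h.map (C1 _).subtype), fun h => ⟨⟨a, mem_centralizer_singleton.2 (Commute.pp_right h.symm).symm⟩, Subtype.ext (Commute.pq_right h.symm).symm, rfl⟩⟩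
  rw [show ((cEl (pp p g) : G) * y) = g from pp_mul_pq g] at h1
  rw [star, h1, Finset.mul_sum, Finset.sum_div]
  refine ⟨sum_mem fun b _ => mul_mem (h2 _) (sb_mem_O hz (irr_mem_OC χ) _), sum_mem fun b hb => ?_⟩
  by_cases h : IsInducedBlock M _ b B
  · rw [mul_left_comm, mul_div_assoc, dg_card hM hB ((dg_iff_ADG_top hM hB).2 hm.dg), ← h3]
    exact mul_mem (h2 _) (div_card_mem_O hM (sb_OC hM hz (irr_mem_OC χ) (ind_defect_le hM h))
      (fun x hx => by simp [sb, reg_of_dvd _ hx]) y)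
  · simp [hz.sb_eq_zero' hM (mem_blocks.1 hb) hB h hχ]

/-- agrees with a generalized character away from `1` -/
def GO {A : Type*} [Group A] (F : A → ℂ) : Prop := ∃ x, IsGeneralizedCharacter A x ∧ ∀ t, t ≠ 1 → x t = F t

theorem go_of {A : Type*} [Group A] [Fintype A] (h : ∀ a b : A, a * b = b * a) {F : A → ℂ}
    (hF : ∀ l, ∃ n : ℤ, classInner (off F) (H3.hf l) - classInner (off F) (H3.hf 1) = n) : GO F := by
  classical
  choose n hn using hF
  refine ⟨_, H3.gen_sum Finset.univ _ fun l _ => H3.gen_intCast_smul (H3.char_gen (H3.char_hom l)) (n l), fun t ht => ?_⟩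
  rw [← off_of_ne F ht, eq_sum_hf' h (off F) ht, Finset.sum_erase _ (by simp)]
  simp [hn]

theorem AI.congr {A : Type*} [Group A] {Γ : Subgroup (MulAut A)} {η η' : A → ℂ} (h : AI Γ η)
    (e : ∀ t, t ≠ 1 → η' t = η t) : AI Γ η' := fun γ hγ t => by
  by_cases ht : t = 1
  · simp [ht]
  · rw [e _ ht, e _ (by simpa using ht), h γ hγ]

variable (p e) in
/-- the isometry attached to `θ` and the normalizing function `w` -/
noncomputable def Th (θ : G → ℂ) (w : P → ℂ) : (P → ℂ) →ₗ[ℂ] (G → ℂ) where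
  toFun η := star p e θ (off w⁻¹ * η)
  map_add' a b := by simpa [mul_add] using star_sum θ Finset.univ ![1, 1] ![off w⁻¹ * a, off w⁻¹ * b]
  map_smul' c a := by simpa using star_sum θ {()} (fun _ => c) fun _ => off w⁻¹ * a

theorem Th_apply (θ : G → ℂ) (w η : P → ℂ) : Th p e θ w η = star p e θ (off w⁻¹ * η) := rfl

variable (p B P e) in
/-- abelian defect group, free action of the inertial quotient -/
structure FB : Prop where
  hM : IsPModular p M
  hB : IsPBlock M B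
  hm : MaxP p (eB M B) P e
  ab : P ≤ CS P
  free : Free P (Stab (NS P) e)

variable (p P e) in
/-- a character in the local block at `t` -/
noncomputable def xi (t : G) : IrrCharacter (C1 t) := @Classical.epsilon _ ⟨triv _⟩ (· ∈ lb p P e t)

variable (p e) in
/-- the generalized decomposition numbers -/
noncomputable def dd (θ : G → ℂ) (t : P) : ℂ := sb p (cEl (t : G)) (lb p P e t) θ 1 / (xi p P e t).1 1

namespace FB

theorem sec (h : FB p P e B) (t : P) : Sec p (cEl (t : G)) := sec_cEl (isPElt_of_mem hp.out h.hm.dg.isP t.2)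

theorem ind (h : FB p P e B) (t : P) : IsInducedBlock M (C1 (t : G)) (lb p P e t) B := (h.hm.lb h.hM h.hB t).1

theorem xi_mem (h : FB p P e B) (t : P) : xi p P e t ∈ lb p P e t :=
  Classical.epsilon_spec (p := (· ∈ lb p P e t)) (block_nonempty h.hM (h.ind t).1)

theorem card (h : FB p P e B) : Nat.card P = p ^ blockDefect p B :=
  dg_card h.hM h.hB ((dg_iff_ADG_top h.hM h.hB).2 h.hm.dg)

theorem loc (h : FB p P e B) (ht : t ≠ 1) [Fintype (C1 (t : G))] :
    Nat.card (lb p P e t) = Nat.card P ∧ blockHeight p (lb p P e t) (xi p P e t).1 = 0 ∧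
      (∀ ψ ∈ lb p P e t, reg p ψ.1 = reg p (xi p P e t).1) ∧
      Nat.card P * classInner (reg p (xi p P e t).1) (reg p (xi p P e t).1) = 1 := by
  have h1 := (h.hm.ADG_ab h.hM h.ab (h.hm.lb h.hM h.hB t).2).le
  rw [CS_zpowers] at h1
  rw [← card_subgroupOf h1]
  exact (h.free.nil_lb h.hM h.hB h.hm h.ab ht).ab h.hM (h.ind t).1 (h.hm.dg_lb h.hM h.hB h.ab t).1
    (fun a ha b hb => Subtype.ext (h.ab ha b hb)) (h.xi_mem t)

theorem sb_eq' (h : FB p P e B) (ht : t ≠ 1) [Fintype (C1 (t : G))] (θ : G → ℂ) : sb p (cEl (t : G)) (lb p P e t) θ =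
    (∑ ψ ∈ fs (lb p P e t), classInner (sh (cEl (t : G)) θ) ψ.1) • reg p (xi p P e t).1 := by
  rw [sb, blockPart_eq, reg_sum, Finset.sum_smul]
  exact Finset.sum_congr rfl fun ψ hψ => by rw [reg_smul, (h.loc ht).2.2.1 ψ (mem_fs.1 hψ)]

theorem dd_eq (h : FB p P e B) (ht : t ≠ 1) [Fintype (C1 (t : G))] (θ : G → ℂ) :
    dd p e θ t = ∑ ψ ∈ fs (lb p P e t), classInner (sh (cEl (t : G)) θ) ψ.1 := by
  rw [dd, h.sb_eq' ht, Pi.smul_apply, reg_of_not_dvd _ (not_dvd_orderOf_one hp.out), smul_eq_mul,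
    mul_div_cancel_right₀ _ (H3.irr_one_ne_zero (xi p P e t).2)]

theorem sb_eq (h : FB p P e B) (ht : t ≠ 1) (θ : G → ℂ) :
    sb p (cEl (t : G)) (lb p P e t) θ = dd p e θ t • reg p (xi p P e t).1 := by
  have := Fintype.ofFinite (C1 (t : G))
  rw [h.dd_eq ht, h.sb_eq' ht]

theorem inner_sb (h : FB p P e B) (ht : t ≠ 1) [Fintype (C1 (t : G))] (θ θ' : G → ℂ) : Nat.card P * classInner
    (sb p (cEl (t : G)) (lb p P e t) θ) (sb p (cEl (t : G)) (lb p P e t) θ') = dd p e θ t * conj (dd p e θ' t) := by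
  rw [h.sb_eq ht, h.sb_eq ht, H3.inner_smul_left, H3.inner_smul_right, mul_left_comm, mul_left_comm (Nat.card P : ℂ),
    (h.loc ht).2.2.2, mul_one]

theorem cF_eq (h : FB p P e B) (ht : t ≠ 1) [Fintype (C1 (t : G))] (θ θ' : G → ℂ) :
    cF p (cEl (t : G)) (lb p P e t) θ θ' = dd p e θ t * conj (dd p e θ' t) := by
  rw [cF, (h.hm.dg_lb h.hM h.hB h.ab t).2, ← h.card, h.inner_sb ht]

theorem dd_ne (h : FB p P e B) (ht : t ≠ 1) (hχ : χ ∈ B) : dd p e χ.1 t ≠ 0 := fun e =>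
  have := Fintype.ofFinite (C1 (t : G))
  have := Fintype.ofFinite G
  (h.sec t).sb_ne_zero h.hM (h.ind t) (h.hm.dg_lb h.hM h.hB h.ab t).2 hχ (by rw [h.sb_eq ht, e, zero_smul])

theorem dd_mem (h : FB p P e B) (ht : t ≠ 1) (hθ : θ ∈ OC G M) : dd p e θ t ∈ O M := by
  have := Fintype.ofFinite (C1 (t : G))
  rw [h.dd_eq ht]
  exact sum_mem fun ψ _ => OC_inner ((h.sec t).OC_sh hθ) (H3.irr_char ψ.2)

theorem red_dd (h : FB p P e B) (ht : t ≠ 1) (hχ : χ ∈ B) (h0 : blockHeight p B χ.1 = 0) :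
    red M (dd p e χ.1 t * conj (dd p e χ.1 t)) ≠ 0 := by
  have := Fintype.ofFinite (C1 (t : G))
  have := Fintype.ofFinite G
  rw [← h.cF_eq ht]
  exact ((h.sec t).red_cF h.hM (h.ind t) hχ hχ).2 ⟨h0, h0⟩

theorem sum_dd (h : FB p P e B) (ht : t ≠ 1) : ∑ χ ∈ fs B, dd p e χ.1 t * conj (dd p e χ.1 t) = Nat.card P := by
  have := Fintype.ofFinite (C1 (t : G))
  have := Fintype.ofFinite G
  simp only [← h.inner_sb ht]
  rw [← Finset.mul_sum, (h.sec t).sum_inner_sb h.hM (h.ind t),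
    (h.free.nil_lb h.hM h.hB h.hm h.ab ht).rank h.hM (h.ind t).1, Nat.cast_one, mul_one]

theorem fr (h : FB p P e B) [Fintype P] : Fr (ga P (Stab (NS P) e)) :=
  ⟨fun a b => Subtype.ext (h.ab b.2 a a.2), fun γ hγ t ht e => by
    obtain ⟨y, h1, h2⟩ := (mem_ga (Stab_le _ _)).1 hγ
    have h3 := h.free y h1 t t.2 (by simpa using ht) (by rw [← h2, e])
    exact MulEquiv.ext fun s => Subtype.ext (by rw [h2, ← h3 s s.2]; simp)⟩

theorem st (h : FB p P e B) (hη : AI (ga P (Stab (NS P) e)) η) : St p e η :=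
  ((ai_ga (Stab_le _ _)).1 hη).st h.hM h.hm h.ab

theorem inner (h : FB p P e B) [Fintype G] [Fintype P] (hη : AI (ga P (Stab (NS P) e)) η) (h1 : η 1 = 0)
    (hθ : IsClassFunction G θ) (hθ' : IsClassFunction G θ') : Nat.card (ga P (Stab (NS P) e)) *
      classInner (star p e θ η) θ' = classInner (η * dd p e θ) (dd p e θ') := by
  have := fun x : G => Fintype.ofFinite (C1 x)
  have h2 := CS_le_Stab h.hm.be
  have h3 := card_mul_inner_ab h.hM h.hB h.hm h.ab ((ai_ga (Stab_le _ _)).1 hη) hθ hθ'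
  rw [← card_mul_relIndex h2, ← card_ga (Stab_le _ _), Nat.cast_mul, mul_assoc] at h3
  refine mul_left_cancel₀ (H3.card_ne_zero' (CS P)) (h3.trans ?_)
  rw [classInner, Finset.mul_sum, Finset.mul_sum]
  refine Finset.sum_congr rfl fun t _ => ?_
  by_cases ht : t = 1
  · simp [ht, h1]
  rw [h.free.inf_eq h2 ht, Pi.mul_apply, mul_assoc, starRingEnd_apply, ← starRingEnd_apply, ← h.inner_sb ht,
    Nat.card_eq_fintype_card (α := P)]
  field_simp

theorem star_eq (h : FB p P e B) (hη : AI (ga P (Stab (NS P) e)) η) (h1 : η 1 = 0) (hη' : AI (ga P (Stab (NS P) e)) η')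
    (h1' : η' 1 = 0) (hθ : IsClassFunction G θ) (hθ' : IsClassFunction G θ')
    (h2 : ∀ t, t ≠ 1 → η t * dd p e θ t = η' t * dd p e θ' t) : star p e θ η = star p e θ' η' := by
  have := Fintype.ofFinite G
  have := Fintype.ofFinite P
  refine H3.class_ext (class_star h.hM hθ _) (class_star h.hM hθ' _) fun ψ hψ => mul_left_cancel₀ (card_Γ_ne (ga P (Stab (NS P) e))) ?_
  rw [h.inner hη h1 hθ (H3.irr_class hψ), h.inner hη' h1' hθ' (H3.irr_class hψ)]
  exact congrArg (classInner · _) (funext fun t => by by_cases ht : t = 1 <;> simp [ht, h1, h1', h2])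

theorem dd_star (h : FB p P e B) (hη : AI (ga P (Stab (NS P) e)) η) (hθ : IsClassFunction G θ) (t : P) :
    dd p e (star p e θ η) t = η t * dd p e θ t := by
  rw [dd, (h.sec t).sb_star h.hM hθ (h.ind t).1, (h.st hη).wt_eq (h.hm.lb h.hM h.hB t).2.brel, dd, Pi.smul_apply,
    smul_eq_mul, mul_div_assoc]

theorem ai_D (h : FB p P e B) (hθ : IsClassFunction G θ) (hθ' : IsClassFunction G θ') :
    AI (ga P (Stab (NS P) e)) fun t => dd p e θ t * conj (dd p e θ' t) := fun γ hγ t => by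
  have := Fintype.ofFinite G
  have := Fintype.ofFinite P
  have := fun x : G => Fintype.ofFinite (C1 x)
  by_cases ht : t = 1
  · simp [ht]
  have h1 : ∀ s, s ≠ 1 → oi _ t s = 1 → classInner (star p e θ (oi (ga P (Stab (NS P) e)) t)) θ' * Nat.card P =
      dd p e θ s * conj (dd p e θ' s) := fun s hs h1 => by
    rw [(h.st (ai_oi t)).inner_supp h.hM (h.sec s) (h.ind s).1 (h.hm.lb h.hM h.hB s).2 rfl (fun t' h2 => ?_) hθ hθ', h1,
      one_mul, mul_comm, h.inner_sb hs]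
    obtain ⟨a, ha, rfl⟩ : ∃ a ∈ ga P (Stab (NS P) e), a t = s := by_contra fun h => by simp [oi, h] at h1
    obtain ⟨a', ha', rfl⟩ : ∃ a ∈ ga P (Stab (NS P) e), a t = t' := by_contra fun h => h2 (if_neg h)
    obtain ⟨y, h3, h4⟩ := (mem_ga (Stab_le _ _)).1 (mul_mem ha' (inv_mem ha))
    have h5 : (a' t : G) = y * a t * y⁻¹ := by simpa using h4 (a t)
    exact ⟨y, h5, by rw [h5, zpowers_conj]; exact (h.hm.lb h.hM h.hB _).2.cj_of_stab h3⟩
  exact (h1 _ (by simpa using ht) (if_pos ⟨γ, hγ, rfl⟩)).symm.trans (h1 _ ht (if_pos ⟨1, one_mem _, rfl⟩))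

theorem go_D (h : FB p P e B) (hθ : IsCharacter G θ) (hθ' : IsGeneralizedCharacter G θ') :
    GO fun t : P => dd p e θ t * conj (dd p e θ' t) := by
  have := Fintype.ofFinite G
  have := Fintype.ofFinite P
  refine go_of h.fr.comm fun l => ?_
  set Γ := ga P (Stab (NS P) e)
  have h1 : AI Γ fun t => conj (au Γ (os Γ l) t) := fun γ hγ t => by simp [au, ai_os l γ hγ]
  have h2 : au Γ (os Γ l) 1 = 0 := by simp [au, os_one]
  obtain ⟨n, hn⟩ := H3.inner_gen_int (gen_star h.hM h.hm (h.st h1) (H3.gen_conj (H3.gen_sub (gen_os l)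
    (H3.gen_nsmul (H3.char_gen (H3.char_hom 1)) _))) hθ) hθ'
  refine ⟨n, mul_left_cancel₀ (card_Γ_ne Γ) ?_⟩
  rw [← (h.ai_D (H3.char_class hθ) (H3.gen_class hθ')).off.inner_au, ← hn, h.inner h1 (by simp [h2]) (H3.char_class hθ)
    (H3.gen_class hθ'), inner_off _ h2]
  exact congrArg _ (Finset.sum_congr rfl fun t _ => by simp only [Pi.mul_apply, starRingEnd_apply]; ring)

theorem toFS (h : FB p P e B) [Fintype G] [Fintype P] (h0 : χ₀ ∈ B) (hw : AI (ga P (Stab (NS P) e)) w)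
    (h1 : ∀ t, t ≠ 1 → w t * conj (w t) = dd p e χ₀.1 t * conj (dd p e χ₀.1 t)) (h2 : ∀ t, t ≠ 1 → (w t)⁻¹ ∈ O M)
    {x : IrrCharacter G → P → ℂ} (hx : ∀ χ ∈ B, IsGeneralizedCharacter P (x χ) ∧
      ∀ t, t ≠ 1 → x χ t * dd p e χ₀.1 t = dd p e χ.1 t * w t) :
    FS (ga P (Stab (NS P) e)) M p B (Th p e χ₀.1 w) x := by
  have c0 := H3.irr_class χ₀.2
  have k0 : ∀ t, t ≠ 1 → dd p e χ₀.1 t ≠ 0 := fun t ht => h.dd_ne ht h0
  have k1 : ∀ t, t ≠ 1 → w t ≠ 0 := fun t ht e => by simpa [e, k0 t ht] using h1 t ht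
  have k2 : ∀ η, AI (ga P (Stab (NS P) e)) η → AI (ga P (Stab (NS P) e)) (off w⁻¹ * η) := fun η hη γ hγ t => by
    rw [Pi.mul_apply, hη γ hγ, AI.off (η := w⁻¹) (fun γ hγ t => by simp [hw γ hγ]) γ hγ, Pi.mul_apply]
  have k3 : ∀ χ ∈ B, AI (ga P (Stab (NS P) e)) (x χ) := fun χ hχ => AI.congr (η := fun t => dd p e χ.1 t *
    conj (dd p e χ₀.1 t) * w t / (dd p e χ₀.1 t * conj (dd p e χ₀.1 t))) (fun γ hγ t => by
      simp only [h.ai_D (H3.irr_class χ.2) c0 γ hγ t, h.ai_D c0 c0 γ hγ t, hw γ hγ]) fun t ht => by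
      rw [mul_right_comm, ← (hx χ hχ).2 t ht, mul_assoc, mul_div_cancel_right₀ _ (by simp [k0 t ht])]
  refine ⟨h.fr, fun η => blockPart_star h.hM h.hB h.hm c0 _, fun η => ?_, fun η g hg => ?_, fun η η' hη hη' => ?_, k3,
    fun χ hχ => (hx χ hχ).1, fun χ hχ t ht e => ?_, fun χ hχ g hg => ?_, fun η _ hη => star_int h.hM h.hB h.hm h0 fun t => ?_⟩
  · exact congrArg (star p e χ₀.1) (funext fun t => by by_cases ht : t = 1 <;> simp [off, ht])
  · rw [Th_apply, star_of_reg h.hM h.hB h.hm h0 _ hg]; simp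
  · rw [Th_apply, Th_apply, inner_star_star h.hM c0 c0, h.inner (fun γ hγ t => by
      rw [Pi.mul_apply, k2 η hη γ hγ, k2 η' hη' γ hγ]; rfl) (by simp) c0 c0]
    refine congrArg _ (Finset.sum_congr rfl fun t _ => ?_)
    by_cases ht : t = 1
    · simp [ht]
    have := k1 t ht
    simp only [Pi.mul_apply, off_of_ne _ ht, mul_assoc, ← starRingEnd_apply, ← h1 t ht, Pi.inv_apply, map_mul, map_inv₀]
    have : conj (w t) ≠ 0 := by simpa
    field_simp
  · simpa [e, k1 t ht, h.dd_ne ht hχ] using (hx χ hχ).2 t ht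
  · rw [Th_apply, h.star_eq (η' := off 1) (k2 _ (k3 χ hχ)) (by simp) (AI.off fun _ _ _ => rfl) (by simp) c0
      (H3.irr_class χ.2) fun t ht => by
        simp [off_of_ne _ ht, mul_assoc, (hx χ hχ).2 t ht, mul_comm (dd p e χ.1 t), k1 t ht],
      star_apply_of h.hM h.hB h.hm hχ (c := 1) (g := g) fun t ht => off_of_ne (t := t) _ fun e =>
        (pp_eq_one_iff hp.out).1 (by simpa [e] using ht) hg, one_mul]
  · by_cases ht : t = 1
    · simp [ht]
    · exact mul_mem (by simpa [off_of_ne _ ht] using h2 t ht) (hη t)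

theorem fs_one (h : FB p P e B) [Fintype G] [Fintype P] (h0 : χ₀ ∈ B)
    (h1 : ∀ t : P, t ≠ 1 → dd p e χ₀.1 t * conj (dd p e χ₀.1 t) = 1) : ∃ x, FS (ga P (Stab (NS P) e)) M p B
      (Th p e χ₀.1 1) x ∧ ∀ χ : IrrCharacter G, ∀ t, t ≠ 1 → x χ t = dd p e χ.1 t * conj (dd p e χ₀.1 t) := by
  choose x h2 h3 using fun χ : IrrCharacter G => h.go_D (H3.irr_char χ.2) (H3.char_gen (H3.irr_char χ₀.2))
  exact ⟨x, h.toFS h0 (fun _ _ _ => rfl) (fun t ht => by simp [h1 t ht]) (fun t _ => by simp) fun χ _ => ⟨h2 χ, fun t ht => by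
    rw [h3 χ t ht, mul_assoc, mul_comm (conj _), h1 t ht, Pi.one_apply]⟩, h3⟩

end FB

end H4
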