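import Cfsg.Agent.H4.Frob
import Cfsg.Agent.H4.Cover2

/-!
# Frobenius blocks: transport, principal blocks, Klein four defect groups
-/

set_option autoImplicit false
set_option linter.unusedSectionVars false

namespace H4
open MonoidAlgebra Cfsg H1
open scoped Pointwise ComplexConjugate

variable {G : Type*} [Group G] [Finite G] {M : Ideal AlgInt} {p : ℕ} [hp : Fact p.Prime]
variable {H Q P T : Subgroup G} {e : (k M)[G]} {θ θ' : G → ℂ} {g u : G} {z : H}
  {b : Set (IrrCharacter H)} {B : Set (IrrCharacter G)} {χ ψ χ₀ : IrrCharacter G} {η η' w : P → ℂ} {t : P}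

theorem FS.transport [Fintype G] {A A' : Type*} [Group A] [Fintype A] [Group A'] [Fintype A'] {Γ : Subgroup (MulAut A)}
    {Θ : (A → ℂ) →ₗ[ℂ] (G → ℂ)} {x : IrrCharacter G → A → ℂ} (h : FS Γ M p B Θ x) (φ : A' ≃* A) :
    FS (Γ.comap (MulAut.congr φ).toMonoidHom) M p B (Θ ∘ₗ LinearMap.funLeft ℂ ℂ φ.symm) fun χ a => x χ (φ a) := by
  have k1 : ∀ η : A' → ℂ, AI (Γ.comap (MulAut.congr φ).toMonoidHom) η → AI Γ (LinearMap.funLeft ℂ ℂ φ.symm η) :=
    fun η hη γ hγ a => by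
      simpa using hη ((MulAut.congr φ).symm γ) (Subgroup.mem_comap.2 (by
        rwa [MulEquiv.coe_toMonoidHom, MulEquiv.apply_symm_apply])) (φ.symm a)
  have k2 : ∀ η : A' → ℂ, LinearMap.funLeft ℂ ℂ φ.symm (H4.off η) = H4.off (LinearMap.funLeft ℂ ℂ φ.symm η) := fun η =>
    funext fun a => by classical exact if_congr (by simp) rfl rfl
  refine ⟨⟨fun a b => φ.injective (by simp [h.comm (φ a)]), fun γ hγ t ht e => (MulAut.congr φ).injective ?_⟩,
    fun η => h.bp _, fun η => by simp only [LinearMap.comp_apply, k2, h.off], fun η => h.reg0 _, fun η η' hη hη' => ?_,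
    fun χ hχ γ hγ a => by simpa using h.ai χ hχ _ hγ (φ a), fun χ hχ => H3.gen_comp (h.gen χ hχ) φ.toMonoidHom,
    fun χ hχ t ht => h.ne χ hχ _ (by simpa using ht), fun χ hχ g hg => (h.exp χ hχ g hg).trans ?_, fun η hη h1 g => ?_⟩
  · rw [map_one]; exact h.free _ hγ (φ t) (by simpa using ht) (by simp [e])
  · rw [Subgroup.comap_equiv_eq_map_symm', Subgroup.card_map_of_injective (MulAut.congr φ).symm.injective, LinearMap.comp_apply, LinearMap.comp_apply,
      h.inner _ _ (k1 η hη) (k1 η' hη'), ← k2, classInner, classInner, Nat.card_congr φ.toEquiv]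
    exact congrArg _ (Fintype.sum_equiv φ.symm.toEquiv _ _ fun _ => rfl)
  · exact congrArg (Θ · g) (funext fun a => by simp [LinearMap.funLeft_apply])
  · rw [Nat.card_congr φ.toEquiv]; exact h.int _ (k1 η hη) (fun t => h1 _) g

theorem maxP_of_ind (hM : IsPModular p M) (hP : IsDefectGroup p M B P) {c : Set (IrrCharacter (CS P))}
    (hc : IsInducedBlock M (CS P) c B) : MaxP p (eB M B) P (aE M _ c) :=
  have h := (dg_iff_ADG_top hM hc.2.1).1 hP
  ⟨isBI_eB hM hc.2.1, h, isBI_aE hM hc.1, (ind_CS_iff hM h.isP hc.1 hc.2.1).1 hc⟩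

theorem MaxP.not_dvd' (hM : IsPModular p M) {j : (k M)[G]} (h : MaxP p j P e) (hab : P ≤ CS P) :
    ¬ p ∣ (CS P).relIndex (Stab (NS P) e) := by
  simpa only [sup_eq_right.2 hab] using h.not_dvd hM

theorem Br_mul_of_ind (hM : IsPModular p M) (hind : IsInducedBlock M H b B) (hP : IsPGroup p P) (h1 : P ≤ H)
    (h2 : CS P ≤ H) (he : IsBI (CS P) e) (h : Br P (aE M H b) * e = e) : Br P (eB M B) * e = e := by
  have := charP_k hM
  have k1 := (isBI_eB hM hind.2.1).mem_Z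
  have k2 : eB M B ∈ Fix (k M) H := Fix_anti le_top (mem_ZA.1 (isBI_eB hM hind.2.1).mem).1
  obtain ⟨w, h3, h4⟩ := exists_mul_eq_aE hM hind.1 (trunc_mem_ZA k2) (by
    rw [aL_trunc _ subset_rfl]; exact (ind_iff_of_defined hM ⟨B, hind⟩ hind.2.1).1 hind)
  refine he.mul_eq (Br_mem_ZA' P (Fix_anti h2 k2)) (Br_idem hP (Fix_anti h1 k2) (isBI_eB hM hind.2.1).idem) fun h5 => he.ne ?_
  rw [← h, ← h4, Br_mul hP (Fix_anti h1 h3.1) (Fix_anti h1 (trunc_mem_ZA k2).1), mul_assoc, Br_trunc h2, h5, mul_zero]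

theorem MaxP.up (hM : IsPModular p M) (hind : IsInducedBlock M H b B) (hP : IsDefectGroup p M B P) (h : NS P ≤ H)
    {e : (k M)[H]} (hm : MaxP p (eB M b) (P.subgroupOf H) e) : MaxP p (eB M B) P (incA H e) ∧
      (Stab (NS (P.subgroupOf H)) e).map H.subtype = Stab (NS P) (incA H e) := by
  have h0 := (dg_iff_ADG_top hM hind.2.1).1 hP
  have h1 : P ≤ H := Subgroup.le_normalizer.trans h
  have h2 := Subgroup.map_subgroupOf_eq_of_le h1
  have h3 := isBI_incA.2 hm.be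
  rw [CS_map_subtype, h2, inf_eq_left.2 ((CS_le_NS P).trans h)] at h3
  refine ⟨⟨isBI_eB hM hind.2.1, h0, h3, Br_mul_of_ind hM hind h0.isP h1 ((CS_le_NS P).trans h) h3 ?_⟩, ?_⟩
  · conv_lhs => rw [← h2, Br_incA, ← map_mul, hm.mul]
  · have h4 : ∀ y : H, y ∈ NS (P.subgroupOf H) ↔ (y : G) ∈ NS P := fun y => by
      rw [← Subgroup.mem_map_iff_mem H.subtype_injective, NS_subgroupOf_map h1]; exact and_iff_left y.2
    ext y
    refine ⟨fun ⟨y, h5, h6⟩ => h6 ▸ ⟨(h4 y).1 h5.1, (cj_incA y e).trans (congrArg _ h5.2)⟩,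
      fun h5 => ⟨⟨y, h h5.1⟩, ⟨(h4 _).2 h5.1, incA_injective ((cj_incA _ e).symm.trans h5.2)⟩, rfl⟩⟩

theorem ga_sub (h : P ≤ H) {T : Subgroup H} (h1 : T ≤ NS (P.subgroupOf H)) (h2 : T.map H.subtype ≤ NS P) :
    (ga P (T.map H.subtype)).comap (MulAut.congr (Subgroup.subgroupOfEquivOfLe h)).toMonoidHom = ga (P.subgroupOf H) T := by
  ext γ
  rw [Subgroup.mem_comap, mem_ga h1, mem_ga h2]
  exact ⟨fun ⟨_, ⟨y, h3, rfl⟩, h4⟩ => ⟨y, h3, fun t => Subtype.ext (h4 (Subgroup.subgroupOfEquivOfLe h t))⟩,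
    fun ⟨y, h3, h4⟩ => ⟨y, ⟨y, h3, rfl⟩, fun t => congrArg Subtype.val (h4 ((Subgroup.subgroupOfEquivOfLe h).symm t))⟩⟩

theorem FB.sub (h : NS P ≤ H) {e : (k M)[H]} (hm : MaxP p (eB M b) (P.subgroupOf H) e) (hb : IsPBlock M b)
    (hF : FB p P (incA H e) B) (h1 : (Stab (NS (P.subgroupOf H)) e).map H.subtype = Stab (NS P) (incA H e)) :
    FB p (P.subgroupOf H) e b :=
  ⟨hF.hM, hb, hm, fun a ha b hb => Subtype.ext (hF.ab ha b hb), fun g hg x hx h2 h3 a ha => Subtype.ext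
    (hF.free g (h1 ▸ ⟨g, hg, rfl⟩) x hx (by simpa using h2) (congrArg Subtype.val h3) a ha)⟩

theorem MaxP.lb_eq (hM : IsPModular p M) (hB : IsPBlock M B) (hm : MaxP p (eB M B) P e)
    {b : Set (IrrCharacter (C1 (t : G)))} (hb : IsInducedBlock M _ b B) (h : ∀ s : P, IsConj (t : G) s → s = t) :
    b = H4.lb p P e t := by
  obtain ⟨s, y, h1, h2⟩ := ((sec_cEl (isPElt_of_mem hp.out hm.dg.isP t.2)).brel_iff hM hb.1 hB hm).2 hb
  obtain rfl := h s (isConj_iff.2 ⟨y, h1.symm⟩)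
  rw [mem_Fix.1 (mem_ZA.1 (aE_mem_ZA _ b)).1 y (mem_centralizer_singleton.2 (mul_inv_eq_iff_eq_mul.1 h1.symm).symm)] at h2
  exact aE_inj hM hb.1 (hm.lb hM hB s).1.1 (h2.unique hM (hm.lb hM hB s).2)

namespace FB

theorem apply_uniq (h : FB p P e B) (ht : t ≠ 1) (hu : ∀ b, IsInducedBlock M (C1 (t : G)) b B → b = lb p P e t)
    (hχ : χ ∈ B) {y : C1 (t : G)} (hy : ¬ p ∣ orderOf y) : χ.1 (t * y) = dd p e χ.1 t * (xi p P e t).1 y := by
  classical
  have := congrFun ((h.sec t).sum_sb' h.hM h.hB hχ) y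
  rw [Finset.sum_eq_single_of_mem (lb p P e t) (by simpa using ⟨(h.ind t).1, h.ind t⟩) fun b hb h1 =>
    (h1 (hu b (Finset.mem_filter.1 hb).2)).elim, h.sb_eq ht] at this
  simpa [reg_of_not_dvd _ hy] using this.symm

theorem dd_int (h : FB p P e B) (ht : t ≠ 1) (h2 : t ^ 2 = 1) (hθ : IsGeneralizedCharacter G θ) :
    ∃ n : ℤ, dd p e θ t = n := by
  have := Fintype.ofFinite (C1 (t : G))
  choose n hn using fun ψ : IrrCharacter (C1 (t : G)) => H3.inner_gen_int (gen_shift (H3.gen_restrict hθ _)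
    (h.sec t).center (Subtype.ext (congrArg P.subtype h2))) (H3.char_gen (H3.irr_char ψ.2))
  exact ⟨∑ ψ ∈ fs (lb p P e t), n ψ, by rw [h.dd_eq ht, Int.cast_sum]; exact Finset.sum_congr rfl fun ψ _ => hn ψ⟩

theorem small (h : FB 2 P e B) (ht : t ≠ 1) (h2 : t ^ 2 = 1) (h4 : Nat.card P ≤ 4) :
    Nat.card B = Nat.card P ∧ ∀ χ ∈ B, dd 2 e χ.1 t = 1 ∨ dd 2 e χ.1 t = -1 := by
  classical
  choose n hn using fun χ : IrrCharacter G => h.dd_int ht h2 (H3.char_gen (H3.irr_char χ.2))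
  have h1 := h.sum_dd ht
  simp only [hn, map_intCast, ← Int.cast_mul, ← Int.cast_sum] at h1
  replace h1 : ∑ χ ∈ fs B, n χ * n χ = Nat.card P := by exact_mod_cast h1
  obtain ⟨χ₀, h0, h3⟩ := exists_height_zero h.hM h.hB
  have h5 := h.red_dd ht h0 h3
  rw [hn, map_intCast, ← Int.cast_mul, red_intCast, Ne, intCast_eq_zero_iff h.hM] at h5
  have h6 : ∀ χ ∈ B, n χ * n χ = 1 := fun χ hχ => by
    have k1 : n χ ≠ 0 := fun e => h.dd_ne ht hχ (by rw [hn, e, Int.cast_zero])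
    have k2 := Finset.sum_le_sum_of_subset_of_nonneg (f := fun χ => n χ * n χ) (s := {χ, χ₀}) (t := fs B)
      (fun a ha => by simp at ha; rcases ha with rfl | rfl <;> simpa) fun a _ _ => mul_self_nonneg _
    rw [h1] at k2
    by_contra k3
    have k4 : 4 ≤ n χ * n χ := by
      by_contra k4
      obtain k | k | k : n χ = 1 ∨ n χ = -1 ∨ n χ = 0 := by
        have : n χ < 2 := by nlinarith
        have : -2 < n χ := by nlinarith
        omega
      all_goals simp_all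
    by_cases k5 : χ = χ₀
    · subst k5; simp at k2; omega
    · rw [Finset.sum_pair k5] at k2
      have := mul_self_nonneg (n χ₀)
      omega
  rw [Finset.sum_congr rfl fun χ hχ => h6 χ (mem_fs.1 hχ)] at h1
  exact ⟨by simpa [card_fs] using h1, fun χ hχ => by rcases mul_self_eq_one_iff.1 (h6 χ hχ) with e | e <;> simp [hn, e]⟩

end FB

theorem kf_free (hP : IsKleinFour P) (h1 : T ≤ NS P) (h2 : ¬ 2 ∣ (CS P).relIndex T) : Free P T := fun g hg x hx h3 h4 => by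
  let γ : ga P T := ⟨_, ⟨g, h1 hg⟩, hg, rfl⟩
  have h5 : γ.1 ⟨x, hx⟩ = ⟨x, hx⟩ := Subtype.ext h4
  have h6 : γ ^ 2 = 1 := Subtype.ext (MulEquiv.ext fun s => by
    show γ.1 (γ.1 s) = s
    by_cases e : γ.1 s = s
    · rw [e, e]
    have k1 : (⟨x, hx⟩ : P) ≠ 1 := by simpa using h3
    have k2 : s ≠ 1 := fun e' => e (by simp [e'])
    have k3 : ⟨x, hx⟩ ≠ s := fun e' => e (e' ▸ h5)
    have k4 := IsKleinFour.eq_mul_of_ne_all k1 k2 k3 (z := γ.1 s) (by simpa using k2) (fun e' => k3 (γ.1.injective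
      (h5.trans e'.symm))) e
    rw [k4, map_mul, h5, k4, ← mul_assoc, IsKleinFour.mul_self, one_mul])
  have h7 : γ = 1 := by
    rw [← card_ga h1] at h2
    exact orderOf_eq_one_iff.1 (((Nat.dvd_prime Nat.prime_two).1 (orderOf_dvd_of_pow_eq_one h6)).resolve_right
      fun e => h2 (e ▸ orderOf_dvd_natCard γ))
  exact fun s hs => (mul_inv_eq_iff_eq_mul.1 (show g * s * g⁻¹ = s from
    congrArg (fun γ : ga P T => (γ.1 ⟨s, hs⟩ : G)) h7)).symm

theorem fb_kf (hM : IsPModular 2 M) (hB : IsPBlock M B) (hm : MaxP 2 (eB M B) P e) (hP : IsKleinFour P) : FB 2 P e B :=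
  have h : P ≤ CS P := fun a ha b hb => congrArg Subtype.val (IsKleinFour.isMulCommutative.1.1 (⟨b, hb⟩ : P) ⟨a, ha⟩)
  ⟨hM, hB, hm, h, kf_free hP (Stab_le _ _) (hm.not_dvd' hM h)⟩

theorem FB.kf (h : FB 2 P e B) (hP : IsKleinFour P) : Nat.card B = 4 ∧
    (∀ χ ∈ B, ∀ t : P, t ≠ 1 → dd 2 e χ.1 t = 1 ∨ dd 2 e χ.1 t = -1) ∧ ((CS P).relIndex (Stab (NS P) e) = 1 ∨
      (CS P).relIndex (Stab (NS P) e) = 3) ∧ blockRank 2 B = (CS P).relIndex (Stab (NS P) e) := by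
  have h1 := fun (t : P) ht => h.small ht (by rw [sq, IsKleinFour.mul_self t]) hP.card_four.le
  have := Finite.one_lt_card_iff_nontrivial.1 (show 1 < Nat.card P by simp)
  obtain ⟨t, ht⟩ := exists_ne (1 : P)
  have h2 := (h1 t ht).1.trans hP.card_four
  have h3 := h.free.count h.hM h.hB h.hm h.ab
  rw [h2, hP.card_four] at h3
  have h4 : (CS P).relIndex (Stab (NS P) e) ∣ 3 := (Nat.dvd_add_right (dvd_mul_right _ (blockRank 2 B))).1
    (by rw [show _ + 3 = (CS P).relIndex (Stab (NS P) e) * 4 by omega]; exact dvd_mul_right _ _)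
  have h5 := (Nat.dvd_prime Nat.prime_three).1 h4
  exact ⟨h2, fun χ hχ t ht => (h1 t ht).2 χ hχ, h5, by rcases h5 with e | e <;> rw [e] at h3 ⊢ <;> omega⟩

theorem FB.kf_fs (h : FB 2 P e B) (hP : IsKleinFour P) [Fintype G] [Fintype P] :
    ∃ Θ x, FS (ga P (Stab (NS P) e)) M 2 B Θ x :=
  let ⟨χ, h0⟩ := block_nonempty h.hM h.hB
  let ⟨x, h1, _⟩ := h.fs_one h0 fun t ht => by rcases (h.kf hP).2.1 χ h0 t ht with e | e <;> simp [e]
  ⟨_, x, h1⟩

/-- the idempotent of the principal block of `C_G(P)` -/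
noncomputable abbrev e0 (M : Ideal AlgInt) (P : Subgroup G) : (k M)[G] := aE M (CS P) (principalBlock M (CS P))

theorem stab_e0 (hM : IsPModular p M) (P : Subgroup G) : Stab (NS P) (e0 M P) = NS P :=
  le_antisymm (Stab_le _ _) fun _ h => ⟨h, cj_aE_principal hM (NS_le_NS_CS P h)⟩

theorem maxP_e0 (hM : IsPModular p M) (P : Sylow p G) : MaxP p (eB M (principalBlock M G)) P (e0 M P) :=
  ⟨isBI_eB hM isPBlock_principal, (dg_iff_ADG_top hM isPBlock_principal).1 ((dg_principal_iff hM).2 (isSylowIn_top P)),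
    isBI_aE hM isPBlock_principal, (principal_pair_iff hM P.isPGroup' (isBI_aE hM isPBlock_principal)).2 rfl⟩

theorem fb_e0 (hM : IsPModular p M) (P : Sylow p G) (h : (P : Subgroup G) ≤ CS P) (h' : Free (P : Subgroup G) (NS P)) :
    FB p (P : Subgroup G) (e0 M P) (principalBlock M G) :=
  ⟨hM, isPBlock_principal, maxP_e0 hM P, h, (stab_e0 hM (P : Subgroup G)).symm ▸ h'⟩

theorem FB.principal (h : FB p P e (principalBlock M G)) (ht : t ≠ 1) (hχ : χ ∈ principalBlock M G) :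
    dd p e χ.1 t = χ.1 t ∧ ∀ g : G, pp p g = t → χ.1 g = χ.1 t := by
  have := Fintype.ofFinite (C1 (t : G))
  have h1 : ∀ b, IsInducedBlock M (C1 (t : G)) b (principalBlock M G) → b = principalBlock M _ := fun b hb =>
    (third_main h.hM ⟨_, hb⟩).1 hb
  have h2 : ∀ y : C1 (t : G), ¬ p ∣ orderOf y → χ.1 (t * y) = dd p e χ.1 t := fun y hy => by
    have := congrFun ((h.loc ht).2.2.1 _ (h1 _ (h.ind t) ▸ triv_mem_principal h.hM)) y
    rw [reg_of_not_dvd _ hy, reg_of_not_dvd _ hy] at this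
    rw [h.apply_uniq ht (fun b hb => (h1 b hb).trans (h1 _ (h.ind t)).symm) hχ hy, ← this]; simp
  have h3 : dd p e χ.1 t = χ.1 t := by simpa using (h2 1 (not_dvd_orderOf_one hp.out)).symm
  refine ⟨h3, fun g hg => ?_⟩
  rw [← h3, ← h2 ⟨pq p g, mem_centralizer_singleton.2 (hg ▸ commute_pp_pq g)⟩ (by
    rw [← Subgroup.orderOf_coe]; exact not_dvd_orderOf_pq hp.out g)]
  exact congrArg _ ((pp_mul_pq g).symm.trans (congrArg (· * _) hg))

theorem FB.principal_fs (h : FB p P e (principalBlock M G)) [Fintype G] [Fintype P] :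
    ∃ Θ x, FS (ga P (Stab (NS P) e)) M p (principalBlock M G) Θ x ∧
      ∀ χ ∈ principalBlock M G, ∀ t : P, t ≠ 1 → ∀ g : G, pp p g = t → χ.1 g = x χ t :=
  have h0 := triv_mem_principal (G := G) h.hM
  let ⟨x, h1, h2⟩ := h.fs_one h0 fun t ht => by simp [(h.principal ht h0).1]
  ⟨_, x, h1, fun χ hχ t ht g hg => by
    simp [h2 χ t ht, (h.principal ht h0).1, (h.principal ht hχ).1, (h.principal ht hχ).2 g hg]⟩

end H4
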