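import Cfsg.Agent.H4.Klein
import Cfsg.Agent.S4646

/-!
# Principal blocks with abelian Sylow subgroup and Frobenius automizer
-/

set_option autoImplicit false
set_option linter.unusedSectionVars false

namespace H4
open MonoidAlgebra Cfsg H1
open scoped Pointwise ComplexConjugate

section
variable {A : Type*} [Group A] [Fintype A] {Γ : Subgroup (MulAut A)} {o : A → ℂ}

theorem Fr.not_const (h : Fr Γ) (ho : o ∈ OS Γ) {c : ℂ} (hc : ∀ t, t ≠ 1 → o t = c) : (OS Γ).card = 1 := by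
  classical
  have h1 : ∀ o' ∈ OS Γ, classInner (au Γ o) (au Γ o') = (c - Nat.card Γ) * -Nat.card Γ := fun o' ho' => by
    rw [← inner_off _ (au_one ho'), off_congr (η' := (c - Nat.card Γ) • H3.hf 1) fun t ht => by simp [au, hc t ht],
      inner_off _ (au_one ho'), H3.inner_smul_left]
    obtain ⟨l, hl, rfl⟩ := mem_OS.1 ho'
    rw [AI.inner_au fun _ _ _ => rfl]; simp [H3.inner_hf, hl.symm]
  refine Finset.card_eq_one.2 ⟨o, Finset.eq_singleton_iff_unique_mem.2 ⟨ho, fun o' ho' => by_contra fun e => ?_⟩⟩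
  have := (h1 o ho).trans (h1 o' ho').symm
  rw [h.inner_au ho ho, h.inner_au ho ho', if_pos rfl, if_neg (Ne.symm e)] at this
  simpa using mul_left_cancel₀ (card_Γ_ne Γ) this

theorem Fr.three (h : Fr Γ) (h3 : Nat.card Γ = 3) {γ : MulAut A} (hγ : γ ∈ Γ) (h1 : γ ≠ 1) (a : A) :
    a * γ a * γ (γ a) = 1 ∧ ∀ f : MulAut A → ℂ, ∑ y ∈ fs (Γ : Set (MulAut A)), f y = f 1 + (f γ + f (γ * γ)) := by
  classical
  have h2 : γ * γ * γ = 1 := by
    rw [← pow_three', ← h3]; exact congrArg Subtype.val (pow_card_eq_one' (x := (⟨γ, hγ⟩ : Γ)))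
  have h4 : γ * γ ≠ 1 := fun e => h1 (by simpa [e] using h2)
  refine ⟨by_contra fun e => h1 (h.free γ hγ _ e ?_), fun f => ?_⟩
  · rw [map_mul, map_mul, show γ (γ (γ a)) = a from DFunLike.congr_fun h2 a, h.comm, mul_assoc]
  · have h5 : γ ≠ γ * γ := by simpa using h1
    have h6 : 1 ∉ ({γ, γ * γ} : Finset _) := by simp [h1.symm, h4.symm]
    rw [← Finset.eq_of_subset_of_card_le (s := {1, γ, γ * γ}) (t := fs (Γ : Set (MulAut A))) (fun y hy => by
      simp at hy; rcases hy with rfl | rfl | rfl <;> simp [hγ, mul_mem, one_mem]) (by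
      rw [card_fs, Finset.card_insert_of_notMem h6, Finset.card_pair h5]; exact h3.le), Finset.sum_insert h6, Finset.sum_pair h5]

theorem Fr.os_sq (h : Fr Γ) (h3 : Nat.card Γ = 3) (ho : o ∈ OS Γ) {t : A} (ht : t * t = 1) : o t = 3 ∨ o t = -1 := by
  obtain ⟨l, -, rfl⟩ := mem_OS.1 ho
  have := Finite.one_lt_card_iff_nontrivial.1 (show 1 < Nat.card Γ by omega)
  obtain ⟨γ, hγ⟩ := exists_ne (1 : Γ)
  obtain ⟨h1, h2⟩ := h.three h3 γ.2 (by simpa using hγ) t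
  have h4 : ∀ y : MulAut A, (l (y t) : ℂ) = 1 ∨ (l (y t) : ℂ) = -1 := fun y => mul_self_eq_one_iff.1 (by
    rw [← Units.val_mul, ← map_mul, ← map_mul, ht]; simp)
  have h5 := congrArg (fun a => (l a : ℂ)) h1
  rw [os_apply, h2]
  simp only [map_mul, Units.val_mul, map_one, Units.val_one] at h5
  rcases h4 1 with e1 | e1 <;> rcases h4 γ with e2 | e2 <;> rcases h4 (γ * γ) with e3 | e3 <;>
    simp only [MulAut.one_apply, MulAut.mul_apply] at e1 e3 ⊢ <;> rw [e1, e2, e3] at h5 ⊢ <;>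
    first | norm_num; done | norm_num at h5

end

theorem arith_neg1 {x y z u v w : ℚ} (hx : 0 < x) (hy : 0 < y) (h1 : 1 + x + y = z) (h2 : 1 + u + v = w)
    (h3 : 1 + u ^ 2 / x + v ^ 2 / y = w ^ 2 / z) : u = x := by
  subst h1 h2
  field_simp at h3
  have h4 : (x - u) ^ 2 * y + (y - v) ^ 2 * x + (u * y - v * x) ^ 2 = 0 := by linear_combination h3
  have h5 : (x - u) ^ 2 * y = 0 := by
    nlinarith [mul_nonneg (sq_nonneg (x - u)) hy.le, mul_nonneg (sq_nonneg (y - v)) hx.le, sq_nonneg (u * y - v * x)]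
  exact (sub_eq_zero.1 (pow_eq_zero_iff two_ne_zero |>.1 ((mul_eq_zero.1 h5).resolve_right hy.ne'))).symm

theorem arith_neg2 {x y z u v w : ℚ} (hx : 0 < x) (hy : 0 < y) (hz : 0 < z) (h1 : 1 + x = y + z) (h2 : 1 + u = v + w)
    (h3 : 1 + u ^ 2 / x = v ^ 2 / y + w ^ 2 / z) (h : u ≠ x) : IsSquare (x * y * z) := by
  refine ⟨x * (v * z - w * y) / (x - u), ?_⟩
  have := sub_ne_zero.2 h.symm
  field_simp at h3 ⊢
  obtain rfl : x = y + z - 1 := by linarith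
  obtain rfl : u = v + w - 1 := by linarith
  linear_combination (y + z) * h3

theorem arith_sq {a b c u v w : ℤ} {x y z : ℕ} (ha : a = 1 ∨ a = -1) (hb : b = 1 ∨ b = -1) (hc : c = 1 ∨ c = -1)
    (hx : x ≠ 0) (hy : y ≠ 0) (hz : z ≠ 0) (hu : u ≠ x) (hv : v ≠ y) (hw : w ≠ z) (h1 : 1 + a * x + b * y + c * z = 0)
    (h2 : 1 + a * u + b * v + c * w = 0) (h3 : (1 : ℚ) + a * (u ^ 2 / x) + b * (v ^ 2 / y) + c * (w ^ 2 / z) = 0) :
    (if a = -1 then 1 else 0) + (if b = -1 then 1 else 0) + (if c = -1 then 1 else 0) = 2 ∧ IsSquare (z * (x * y)) := by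
  have kx : (0 : ℚ) < x := by positivity
  have ky : (0 : ℚ) < y := by positivity
  have kz : (0 : ℚ) < z := by positivity
  have k1 : (1 : ℚ) + a * x + b * y + c * z = 0 := by exact_mod_cast h1
  have k2 : (1 : ℚ) + a * u + b * v + c * w = 0 := by exact_mod_cast h2
  have ku : (u : ℚ) ≠ x := by exact_mod_cast hu
  have kv : (v : ℚ) ≠ y := by exact_mod_cast hv
  have kw : (w : ℚ) ≠ z := by exact_mod_cast hw
  rw [← Rat.isSquare_natCast_iff]
  rcases ha with rfl | rfl <;> rcases hb with rfl | rfl <;> rcases hc with rfl | rfl <;> push_cast at k1 k2 h3 ⊢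
  · omega
  · exact (ku (arith_neg1 (z := z) (v := v) (w := w) kx ky (by linarith) (by linarith) (by linarith))).elim
  · exact (ku (arith_neg1 (z := y) (v := w) (w := v) kx kz (by linarith) (by linarith) (by linarith))).elim
  · exact ⟨trivial, by convert arith_neg2 (v := v) (w := w) kx ky kz (by linarith) (by linarith) (by linarith) ku using 1; ring⟩
  · exact (kv (arith_neg1 (z := x) (v := w) (w := u) ky kz (by linarith) (by linarith) (by linarith))).elim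
  · exact ⟨trivial, by convert arith_neg2 (v := u) (w := w) ky kx kz (by linarith) (by linarith) (by linarith) kv using 1; ring⟩
  · exact ⟨trivial, by convert arith_neg2 (v := u) (w := v) kz kx ky (by linarith) (by linarith) (by linarith) kw using 1; ring⟩
  · omega

variable {G : Type*} [Group G] [Finite G] {M : Ideal AlgInt} {p : ℕ} [hp : Fact p.Prime] {P : Sylow p G} {s t : G}

theorem fb_frob (hM : IsPModular p M) (hab : IsMulCommutative P)
    (h : ∀ y ∈ (P : Subgroup G), y ≠ 1 → C1 y ⊓ NS P = CS P) : FB p (P : Subgroup G) (e0 M P) (principalBlock M G) :=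
  fb_e0 hM P (fun a ha b hb => congrArg Subtype.val (hab.1.1 (⟨b, hb⟩ : P) ⟨a, ha⟩)) fun _ hg x hx h1 h2 =>
    (h x hx h1).le ⟨mem_centralizer_singleton.2 (mul_inv_eq_iff_eq_mul.1 h2).symm, hg⟩

theorem sylow_fus (hab : IsMulCommutative P) {a b : (P : Subgroup G)} (h : IsConj (a : G) b) :
    ∃ γ ∈ ga (P : Subgroup G) (NS P), γ a = b := by
  obtain ⟨x, hx⟩ := isConj_iff.1 h
  obtain ⟨n, hn, h7⟩ := P.conj_eq_normalizer_conj_of_mem a x⁻¹ a.2 (by simp [hx])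
  exact ⟨_, ⟨⟨n⁻¹, inv_mem hn⟩, inv_mem hn, rfl⟩, Subtype.ext (show n⁻¹ * a * n⁻¹⁻¹ = b by rw [← hx]; simpa using h7.symm)⟩

theorem os_finsum {P : Subgroup G} [Fintype P] (h : Fr (ga P (NS P))) {l : P →* ℂˣ} (hl : l ≠ 1) (y : P) :
    os (ga P (NS P)) l y = ∑ᶠ m ∈ {m : P →* ℂˣ | ∃ n ∈ NS P, ∀ w w' : P, (w' : G) = n * w * n⁻¹ → m w' = l w}, (m y : ℂ) := by
  classical
  rw [h.os_eq hl, finsum_mem_eq_fs, Finset.sum_apply]
  refine Finset.sum_congr (Finset.ext fun m => ?_) fun _ _ => rfl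
  rw [Finset.mem_filter, h.os_eq_iff hl, mem_fs, and_iff_right (Finset.mem_univ _)]
  refine ⟨fun ⟨γ, h1, h2⟩ => ?_, fun ⟨n, h1, h2⟩ => ⟨_, inv_mem ⟨⟨n, h1⟩, h1, rfl⟩, MonoidHom.ext fun w => h2 _ _ ?_⟩⟩
  · obtain ⟨n, h3, h4⟩ := (mem_ga le_rfl).1 (inv_mem h1)
    exact ⟨n, h3, fun w w' e => by rw [show w' = γ⁻¹ w from Subtype.ext (e.trans (h4 w).symm), h2]; simp⟩
  · exact congrArg Subtype.val ((P : Subgroup G).normalizerMonoidHom ⟨n, h1⟩ |>.apply_inv_self _ w).symm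

theorem os_conj {P : Subgroup G} [Fintype P] {l m : P →* ℂˣ}
    (h : ∃ n ∈ NS P, ∀ w w' : P, (w' : G) = n * w * n⁻¹ → m w' = l w) : os (ga P (NS P)) m = os (ga P (NS P)) l := by
  obtain ⟨n, h1, h2⟩ := h
  rw [← os_comp (Γ := ga P (NS P)) ⟨⟨n, h1⟩, h1, rfl⟩ m]
  exact congrArg _ (MonoidHom.ext fun w => h2 _ _ rfl)

theorem frob_pp [Fintype P] (hab : IsMulCommutative P) (h : Fr (ga (P : Subgroup G) (NS P)))
    (h3 : Nat.card (ga (P : Subgroup G) (NS P)) = 3) (hs : orderOf s = 2) (ht : orderOf t = 2) (hc : IsConj s t) :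
    pp p (s * t) = 1 ∨ (p = 2 ∧ IsConj (pp p (s * t)) t) := by
  refine or_iff_not_imp_left.2 fun h1 => ?_
  have h2 : s * pp p (s * t) * s⁻¹ = (pp p (s * t))⁻¹ := by
    rw [← pp_conj, ← pp_inv, ← mul_assoc, mul_self_of_two hs, mul_inv_rev, inv_of_two ht, one_mul]
  have h4 : pp p (s * t) * pp p (s * t) = 1 := by
    obtain ⟨x, hx⟩ := exists_conj_mem_sylow P (isPElt_pp hp.out (s * t))
    obtain ⟨γ, h5, h6⟩ := sylow_fus hab (a := ⟨_, hx⟩) (b := ⟨_, hx⟩⁻¹) (isConj_iff.2 ⟨x * s * x⁻¹, by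
      simp [← h2, mul_assoc]⟩)
    by_cases e : γ = 1
    · simpa [e, eq_inv_iff_mul_eq_one, Subtype.ext_iff] using h6
    · have := (h.three h3 h5 e ⟨_, hx⟩).1
      rw [h6, map_inv, h6, mul_inv_cancel, one_mul, inv_inv] at this
      exact (h1 (by simpa [Subtype.ext_iff] using this)).elim
  have h5 := orderOf_two_of h4 h1
  obtain rfl : p = 2 := by
    obtain ⟨n, hn⟩ := isPElt_pp hp.out (s * t)
    exact ((Nat.prime_dvd_prime_iff_eq Nat.prime_two hp.out).1 (Nat.prime_two.dvd_of_dvd_pow (hn ▸ h5.symm.dvd))).symm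
  rw [inv_of_two h5] at h2
  have h6 : Commute (pp 2 (s * t)) s := (mul_inv_eq_iff_eq_mul.1 h2).symm
  have h7 : Commute (pp 2 (s * t)) t := by simpa [← mul_assoc, mul_self_of_two hs] using h6.mul_right (commute_pp (s * t))
  have h8 : pp 2 (s * t) * t * (pp 2 (s * t) * t) = 1 := by
    rw [← sq, h7.mul_pow, sq, sq, h4, mul_self_of_two ht, mul_one]
  obtain ⟨j, hj⟩ := dih_odd (mul_self_of_two hs) h8 (by
    rw [← mul_assoc, ← h6.eq, mul_assoc]
    nth_rewrite 2 [← pp_mul_pq (p := 2) (s * t)]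
    rw [← mul_assoc, h4, one_mul]
    exact not_dvd_orderOf_pq Nat.prime_two _)
  obtain ⟨x, -, h9, h10⟩ := exists_conj_mem (isSylowIn_top P) (isPElt_pp hp.out (s * t)) (isPElt_two ht) trivial trivial h7
  obtain ⟨γ, k1, k2⟩ := sylow_fus hab (a := ⟨_, h10⟩) (b := ⟨_, h9⟩ * ⟨_, h10⟩) ((isConj_iff.2 ⟨x, rfl⟩).symm.trans
    (hc.symm.trans ((isConj_iff.2 ⟨_, hj⟩).trans (isConj_iff.2 ⟨x, by simp [mul_assoc]⟩))))
  have k3 := (h.three h3 k1 (fun e => h1 (by simpa [e, Subtype.ext_iff] using k2)) ⟨_, h10⟩).1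
  obtain ⟨n, -, k4⟩ := (mem_ga le_rfl).1 (mul_mem k1 k1)
  have k5 : (⟨_, h10⟩ * ⟨_, h10⟩ : (P : Subgroup G)) = 1 := Subtype.ext (conj_mul_self (mul_self_of_two ht) x)
  nth_rewrite 1 [k2] at k3
  rw [h.comm ⟨_, h9⟩, ← mul_assoc, k5, one_mul, h.comm, mul_eq_one_iff_eq_inv] at k3
  refine ⟨rfl, (isConj_iff.2 ⟨x, rfl⟩).trans (.trans (isConj_iff.2 ⟨n⁻¹, ?_⟩) (isConj_iff.2 ⟨x, rfl⟩).symm)⟩
  have := (k4 ⟨_, h10⟩).symm.trans (congrArg Subtype.val k3)
  rw [← inv_of_two h5, inv_inv, mul_assoc, inv_mul_eq_iff_eq_mul, mul_inv_eq_iff_eq_mul.1 this]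
  simp [mul_assoc]

theorem frob_exc [Fintype G] [Fintype P] [Nontrivial P] (hM : IsPModular p M) (hab : IsMulCommutative P)
    (h : ∀ y ∈ (P : Subgroup G), y ≠ 1 → C1 y ⊓ NS P = CS P) : ∃ Θ x, FS (ga (P : Subgroup G) (NS P)) M p
      (principalBlock M G) Θ x ∧ (∀ χ ∈ principalBlock M G, ∀ t : P, t ≠ 1 → ∀ g : G, pp p g = t → χ.1 g = x χ t) ∧
      ∀ ζ a d δ, Exc (ga (P : Subgroup G) (NS P)) p (principalBlock M G) x ζ a d δ →
        (OS (ga (P : Subgroup G) (NS P))).card ≠ 1 → triv G ∈ principalBlock M G \ ζ '' OS (ga (P : Subgroup G) (NS P)) ∧ a (triv G) = 1 := by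
  obtain ⟨Θ, x, h1, h2⟩ := (fb_frob hM hab h).principal_fs
  rw [stab_e0 hM] at h1
  refine ⟨Θ, x, h1, h2, fun ζ a d δ h3 h4 => ?_⟩
  have h5 : ∀ t : P, t ≠ 1 → x (triv G) t = 1 := fun t ht =>
    (h2 _ (triv_mem_principal hM) t ht t (pp_of_isPElt hp.out (isPElt_of_mem hp.out P.isPGroup' t.2))).symm
  have h6 : triv G ∈ principalBlock M G \ ζ '' OS (ga (P : Subgroup G) (NS P)) := ⟨triv_mem_principal hM, fun ⟨o, ho, e⟩ => h4 (h1.toFr.not_const ho
    (c := δ * (1 - d)) fun t ht => by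
      rw [← h5 t ht, ← e, h3.val o ho t ht]; rcases h3.sign with rfl | rfl <;> simp)⟩
  obtain ⟨t, ht⟩ := exists_ne (1 : P)
  exact ⟨h6, by exact_mod_cast ((h3.val' _ h6).2 t ht).symm.trans (h5 t ht)⟩

end H4
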