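import Cfsg.Agent.H4.Ctr

/-!
# Galois families of contributions
`GV N Λ`: families `k ↦ ∑ ω ^ k • a ω` over `N`-th roots of unity; averaging over the exponents prime to `p`
(`GV.prod_int`, `GV.avg_eq`, `GV.bound`), the family of contributions `Sec.cF`.
-/

set_option autoImplicit false
set_option linter.unusedSectionVars false

namespace H4
open MonoidAlgebra Cfsg H1 Finset
open scoped Pointwise ComplexConjugate

section gen
variable {V W : Type*} [AddCommGroup V] [Module ℂ V] [AddCommGroup W] [Module ℂ W] {N p : ℕ} {Λ : AddSubgroup V}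

/-- the `N`-th roots of unity -/
noncomputable abbrev mu (N : ℕ) : Finset ℂ := Polynomial.nthRootsFinset N 1

theorem mem_mu (hN : N ≠ 0) {ω : ℂ} : ω ∈ mu N ↔ ω ^ N = 1 := Polynomial.mem_nthRootsFinset hN.bot_lt _

/-- exponents below `N` prime to `p` -/
def Kp (p N : ℕ) : Finset ℕ := (range N).filter fun k => ¬ p ∣ k

theorem mem_Kp {k : ℕ} : k ∈ Kp p N ↔ k < N ∧ ¬ p ∣ k := by simp [Kp]

/-- Galois families -/
def GV (N : ℕ) (Λ : AddSubgroup V) : AddSubgroup (ℕ → V) :=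
  AddSubgroup.closure {x | ∃ (ω : ℂ) (a : V), ω ^ N = 1 ∧ a ∈ Λ ∧ x = fun k => ω ^ k • a}

theorem GV.gen {ω : ℂ} {a : V} (h : ω ^ N = 1) (ha : a ∈ Λ) : (fun k => ω ^ k • a) ∈ GV N Λ :=
  AddSubgroup.subset_closure ⟨ω, a, h, ha, rfl⟩

theorem GV.const {a : V} (ha : a ∈ Λ) : (fun _ => a) ∈ GV N Λ := by simpa using GV.gen (one_pow N) ha

theorem GV.ind {P : (ℕ → V) → Prop} (h1 : ∀ (ω : ℂ) a, ω ^ N = 1 → a ∈ Λ → P fun k => ω ^ k • a)
    (h2 : ∀ x y, P x → P y → P (x + y)) {x : ℕ → V} (h : x ∈ GV N Λ) : P x := by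
  induction h using AddSubgroup.closure_induction_left with
  | zero => simpa [Pi.zero_def] using h1 1 0 (one_pow N) (zero_mem _)
  | add_left x hx y _ ih => obtain ⟨ω, a, h3, h4, rfl⟩ := hx; exact h2 _ _ (h1 ω a h3 h4) ih
  | neg_add_cancel x hx y _ ih =>
    obtain ⟨ω, a, h3, h4, rfl⟩ := hx
    exact h2 _ _ (by simpa [Pi.neg_def] using h1 ω (-a) h3 (neg_mem h4)) ih

theorem GV.exists (hN : N ≠ 0) {x : ℕ → V} (h : x ∈ GV N Λ) :
    ∃ A : ℂ → V, (∀ ω, A ω ∈ Λ) ∧ ∀ k, x k = ∑ ω ∈ mu N, ω ^ k • A ω := by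
  classical
  refine GV.ind (P := fun x => ∃ A : ℂ → V, (∀ ω, A ω ∈ Λ) ∧ ∀ k, x k = ∑ ω ∈ mu N, ω ^ k • A ω)
    (fun ω a h1 h2 => ⟨fun η => if η = ω then a else 0, fun η => by dsimp only; split_ifs <;> simp [h2], fun k => ?_⟩) ?_ h
  · simp [(mem_mu hN).2 h1]
  · rintro x y ⟨A, h1, h2⟩ ⟨B, h3, h4⟩
    exact ⟨A + B, fun ω => add_mem (h1 ω) (h3 ω), fun k => by simp [h2, h4, sum_add_distrib]⟩

theorem GV.map {Λ' : AddSubgroup W} (L : V →ₗ[ℂ] W) (hL : ∀ a ∈ Λ, L a ∈ Λ') {x : ℕ → V} (h : x ∈ GV N Λ) :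
    (fun k => L (x k)) ∈ GV N Λ' :=
  GV.ind (P := fun x => (fun k => L (x k)) ∈ GV N Λ') (fun ω a h1 h2 => by simpa using GV.gen h1 (hL a h2))
    (fun x y h1 h2 => by simpa [Pi.add_def] using add_mem h1 h2) h

theorem GV.mod {x : ℕ → V} (h : x ∈ GV N Λ) (k : ℕ) : x (k % N) = x k :=
  GV.ind (P := fun x => x (k % N) = x k) (fun ω a h1 _ => by simp only [← pow_eq_pow_mod k h1])
    (fun x y h1 h2 => by simp [h1, h2]) h

/-- scalar families -/
abbrev SF (N : ℕ) : AddSubgroup (ℕ → ℂ) := GV N (AddSubgroup.zmultiples (1 : ℂ))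

theorem SF.gen {ω : ℂ} (h : ω ^ N = 1) (n : ℤ) : (fun k => ω ^ k * n) ∈ SF N := GV.gen h (mem_zmul_iff.2 ⟨n, rfl⟩)

theorem SF.ind {P : (ℕ → ℂ) → Prop} (h1 : ∀ (ω : ℂ) (n : ℤ), ω ^ N = 1 → P fun k => ω ^ k * n)
    (h2 : ∀ x y, P x → P y → P (x + y)) {x : ℕ → ℂ} (h : x ∈ SF N) : P x :=
  GV.ind (fun ω a h3 h4 => by obtain ⟨n, rfl⟩ := mem_zmul_iff.1 h4; exact h1 ω n h3) h2 h

theorem SF.integral (hN : N ≠ 0) {x : ℕ → ℂ} (h : x ∈ SF N) (k : ℕ) : IsIntegral ℤ (x k) :=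
  SF.ind (P := fun x => IsIntegral ℤ (x k))
    (fun ω n h1 => ((IsIntegral.of_pow hN.bot_lt (h1 ▸ isIntegral_one)).pow k).mul (isIntegral_algebraMap (x := n)))
    (fun _ _ => IsIntegral.add) h

theorem SF.map {x : ℕ → ℂ} (h : x ∈ SF N) {σ : ℂ →+* ℂ} {j : ℕ} (hσ : ∀ ω, ω ^ N = 1 → σ ω = ω ^ j) (k : ℕ) :
    σ (x k) = x (k * j) :=
  SF.ind (P := fun x => σ (x k) = x (k * j)) (fun ω n h1 => by simp [hσ ω h1, ← pow_mul, mul_comm])
    (fun x y h1 h2 => by simp [h1, h2]) h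

variable [hp : Fact p.Prime] {n : ℕ}

theorem Kp_bij {j : ℕ} (hj : j.Coprime (p ^ (n + 1))) {A : Type*} [CommMonoid A] (f : ℕ → A) :
    ∏ k ∈ Kp p (p ^ (n + 1)), f (k * j % p ^ (n + 1)) = ∏ k ∈ Kp p (p ^ (n + 1)), f k := by
  have h0 := pow_pos hp.out.pos (n + 1)
  have h1 : Set.InjOn (fun k => k * j % p ^ (n + 1)) (Kp p (p ^ (n + 1))) := fun a ha b hb e =>
    (Nat.ModEq.cancel_right_of_coprime hj.symm e).eq_of_lt_of_lt (mem_Kp.1 ha).1 (mem_Kp.1 hb).1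
  have h2 : (Kp p (p ^ (n + 1))).image (fun k => k * j % p ^ (n + 1)) = Kp p (p ^ (n + 1)) :=
    eq_of_subset_of_card_le (image_subset_iff.2 fun k hk => mem_Kp.2 ⟨Nat.mod_lt _ h0, by
      rw [Nat.dvd_mod_iff (dvd_pow_self p n.succ_ne_zero), hp.out.dvd_mul, not_or]
      exact ⟨(mem_Kp.1 hk).2, hp.out.coprime_iff_not_dvd.1 (hj.symm.coprime_dvd_left (dvd_pow_self p n.succ_ne_zero))⟩⟩)
      (card_image_of_injOn h1).ge
  conv_rhs => rw [← h2, prod_image h1]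

theorem SF.prod_int {x : ℕ → ℂ} (h : x ∈ SF (p ^ (n + 1))) : ∃ m : ℤ, ∏ k ∈ Kp p (p ^ (n + 1)), x k = m := by
  have h0 := (pow_pos hp.out.pos (n + 1)).ne'
  refine H3.int_of_fixed (IsIntegral.prod _ fun k _ => SF.integral h0 h k) fun σ => ?_
  obtain ⟨j, hj, hσ⟩ := H3.ringHom_root_pow σ h0
  rw [map_prod, ← Kp_bij hj x]
  exact prod_congr rfl fun k _ => by rw [SF.map h hσ, GV.mod h]

theorem SF.ne_zero {x : ℕ → ℂ} (h : x ∈ SF (p ^ (n + 1))) (h1 : x 1 ≠ 0) {k : ℕ} (hk : ¬ p ∣ k) : x k ≠ 0 := by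
  obtain ⟨σ, hσ⟩ := H3.exists_galois_pow (pow_pos hp.out.pos (n + 1)).ne'
    ((hp.out.coprime_iff_not_dvd.2 hk).symm.pow_right (n + 1))
  rw [← one_mul k, ← SF.map h hσ]; exact (map_ne_zero σ).2 h1

theorem one_mem_Kp : 1 ∈ Kp p (p ^ (n + 1)) :=
  mem_Kp.2 ⟨Nat.one_lt_pow n.succ_ne_zero hp.out.one_lt, hp.out.one_lt.ne' ∘ Nat.dvd_one.1⟩

theorem sum_Kp {A : Type*} [AddCommGroup A] (f : ℕ → A) :
    ∑ k ∈ Kp p (p ^ (n + 1)), f k = ∑ k ∈ range (p ^ (n + 1)), f k - ∑ k ∈ range (p ^ n), f (p * k) := by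
  rw [eq_sub_iff_add_eq, Kp, ← sum_filter_not_add_sum_filter (range (p ^ (n + 1))) (p ∣ ·) f]
  congr 1
  refine sum_bij (fun k _ => p * k) (fun k hk => mem_filter.2 ⟨mem_range.2 ?_, Dvd.intro _ rfl⟩)
    (fun a _ b _ e => Nat.eq_of_mul_eq_mul_left hp.out.pos e) (fun k hk => ?_) fun _ _ => rfl
  · rw [pow_succ']; exact Nat.mul_lt_mul_of_pos_left (mem_range.1 hk) hp.out.pos
  · obtain ⟨h1, j, rfl⟩ := mem_filter.1 hk
    rw [pow_succ', mem_range] at h1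
    exact ⟨j, mem_range.2 (Nat.lt_of_mul_lt_mul_left h1), rfl⟩

theorem card_Kp : ((Kp p (p ^ (n + 1))).card : ℝ) = p ^ n * (p - 1) := by
  have := sum_Kp (p := p) (n := n) fun _ => (1 : ℝ)
  simp only [sum_const, card_range, nsmul_eq_mul, mul_one] at this
  rw [this]; push_cast; ring

theorem card_Kp_pos : (0 : ℝ) < (Kp p (p ^ (n + 1))).card := by exact_mod_cast card_pos.2 ⟨1, one_mem_Kp⟩

theorem sum_pow_root {x : ℂ} {N : ℕ} (h : x ^ N = 1) : ∑ k ∈ range N, x ^ k = if x = 1 then (N : ℂ) else 0 := by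
  split_ifs with h1
  · simp [h1]
  · rw [geom_sum_eq h1, h, sub_self, zero_div]

theorem conj_root {ω : ℂ} {N : ℕ} (hN : N ≠ 0) (h : ω ^ N = 1) : conj ω = ω⁻¹ :=
  (Complex.inv_eq_conj (Complex.norm_eq_one_of_pow_eq_one h hN)).symm

theorem sum_Kp_root {ω η : ℂ} (h : ω ^ p ^ (n + 1) = 1) (h' : η ^ p ^ (n + 1) = 1) :
    ∑ k ∈ Kp p (p ^ (n + 1)), ω ^ k * conj (η ^ k) =
      p ^ n * ((if ω = η then (p : ℂ) else 0) - if ω ^ p = η ^ p then 1 else 0) := by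
  have h0 := (pow_pos hp.out.pos (n + 1)).ne'
  have h1 : η ≠ 0 := fun e => by rw [e, zero_pow h0] at h'; exact zero_ne_one h'
  have h2 : (ω / η) ^ p ^ (n + 1) = 1 := by rw [div_pow, h, h', div_one]
  simp only [map_pow, conj_root h0 h', ← mul_pow, ← div_eq_mul_inv]
  rw [sum_Kp, sum_pow_root h2]
  simp only [pow_mul]
  rw [sum_pow_root (by rw [← pow_mul, ← pow_succ', h2]), div_pow]
  simp only [div_eq_one_iff_eq h1, div_eq_one_iff_eq (pow_ne_zero p h1)]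
  split_ifs <;> push_cast <;> ring

theorem card_mu_pow {ω : ℂ} (h : ω ∈ mu (p ^ (n + 1))) :
    ((mu (p ^ (n + 1))).filter fun η => ω ^ p = η ^ p).card = p := by
  classical
  have h0 := (pow_pos hp.out.pos (n + 1)).ne'
  rw [mem_mu h0] at h
  have h1 : ω ≠ 0 := fun e => by rw [e, zero_pow h0] at h; exact zero_ne_one h
  have h2 := Complex.isPrimitiveRoot_exp p hp.out.ne_zero
  have h3 := h2.card_nthRoots (ω ^ p)
  rw [if_pos ⟨ω, rfl⟩, ← Multiset.toFinset_card_of_nodup (h2.nthRoots_nodup (pow_ne_zero p h1))] at h3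
  refine Eq.trans (congrArg _ (Finset.ext fun η => ?_)) h3
  rw [mem_filter, mem_mu h0, Multiset.mem_toFinset, Polynomial.mem_nthRoots hp.out.pos, eq_comm (a := ω ^ p)]
  exact ⟨And.right, fun e => ⟨by rw [pow_succ', pow_mul, e, ← pow_mul, ← pow_succ', h], e⟩⟩

theorem amgm {ι : Type*} {s : Finset ι} (hs : s.Nonempty) (z : ι → ℝ) (hz : ∀ i ∈ s, 0 ≤ z i) :
    ∏ i ∈ s, z i ≤ ((∑ i ∈ s, z i) / s.card) ^ s.card := by
  have h0 : (0 : ℝ) < s.card := by exact_mod_cast card_pos.2 hs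
  have := Real.geom_mean_le_arith_mean s (fun _ => 1) z (fun _ _ => zero_le_one) (by simpa using hs) hz
  simp only [Real.rpow_one, sum_const, nsmul_eq_mul, mul_one, one_mul] at this
  have h1 := pow_le_pow_left₀ (Real.rpow_nonneg (prod_nonneg hz) _) this s.card
  rwa [Real.rpow_inv_natCast_pow (prod_nonneg hz) (card_pos.2 hs).ne'] at h1

theorem amgm_le {ι : Type*} {s : Finset ι} (hs : s.Nonempty) (z : ι → ℝ) (hz : ∀ i ∈ s, 0 ≤ z i) {c : ℝ}
    (h : c ^ s.card ≤ ∏ i ∈ s, z i) : s.card * c ≤ ∑ i ∈ s, z i := by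
  have h0 : (0 : ℝ) < s.card := by exact_mod_cast card_pos.2 hs
  rw [← le_div_iff₀' h0]
  exact le_of_pow_le_pow_left₀ (card_pos.2 hs).ne' (div_nonneg (sum_nonneg hz) h0.le) (h.trans (amgm hs z hz))

theorem amgm_lt {ι : Type*} {s : Finset ι} (hs : s.Nonempty) (z : ι → ℝ) (hz : ∀ i ∈ s, 0 ≤ z i) {c : ℝ}
    (h : c ^ s.card < ∏ i ∈ s, z i) : s.card * c < ∑ i ∈ s, z i := by
  have h0 : (0 : ℝ) < s.card := by exact_mod_cast card_pos.2 hs
  rw [← lt_div_iff₀' h0]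
  exact lt_of_pow_lt_pow_left₀ _ (div_nonneg (sum_nonneg hz) h0.le) (h.trans_le (amgm hs z hz))

variable {M : Ideal AlgInt}

theorem SF.le_sum_norm (hM : IsPModular p M) {x : ℕ → ℂ} (h : x ∈ SF (p ^ (n + 1))) (h1 : x 1 ≠ 0) {j : ℕ}
    (hv : ∀ k, ¬ p ∣ k → v M (x k) ≤ v M (p : ℂ) ^ j) (e : ℕ) :
    (Kp p (p ^ (n + 1))).card * (p : ℝ) ^ (j * e) ≤ ∑ k ∈ Kp p (p ^ (n + 1)), ‖x k‖ ^ e := by
  obtain ⟨m, hm⟩ := SF.prod_int h
  have h2 : m ≠ 0 := by
    rintro rfl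
    obtain ⟨k, hk, e⟩ := prod_eq_zero_iff.1 (hm.trans Int.cast_zero)
    exact SF.ne_zero h h1 (mem_Kp.1 hk).2 e
  have h3 := (int_dvd_iff_v hM m (j * (Kp p (p ^ (n + 1))).card)).2 (by
    rw [← hm, map_prod, pow_mul, ← prod_const]; exact prod_le_prod' fun k hk => hv k (mem_Kp.1 hk).2)
  refine amgm_le ⟨1, one_mem_Kp⟩ _ (fun _ _ => by positivity) ?_
  rw [prod_pow, ← norm_prod, hm, Complex.norm_intCast, ← pow_mul, mul_right_comm, pow_mul]
  exact pow_le_pow_left₀ (by positivity) (by exact_mod_cast Int.le_of_dvd (abs_pos.2 h2) ((dvd_abs _ _).2 h3)) _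

theorem SF.lt_sum_norm (hM : IsPModular p M) {x : ℕ → ℂ} (h : x ∈ SF (p ^ (n + 1))) (h1 : x 1 ≠ 0) {j : ℕ}
    (hv : ∀ k, ¬ p ∣ k → v M (x k) < v M (p : ℂ) ^ j) :
    (Kp p (p ^ (n + 1))).card * (p : ℝ) ^ j < ∑ k ∈ Kp p (p ^ (n + 1)), ‖x k‖ := by
  obtain ⟨m, hm⟩ := SF.prod_int h
  have h2 : m ≠ 0 := by
    rintro rfl
    obtain ⟨k, hk, e⟩ := prod_eq_zero_iff.1 (hm.trans Int.cast_zero)
    exact SF.ne_zero h h1 (mem_Kp.1 hk).2 e
  have h3 := (int_dvd_succ_iff_v hM m (j * (Kp p (p ^ (n + 1))).card)).2 (by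
    rw [← hm, map_prod, pow_mul, ← prod_const]
    exact prod_lt_prod_of_nonempty (fun k hk => (Valuation.pos_iff _).2 (SF.ne_zero h h1 (mem_Kp.1 hk).2))
      (fun k hk => hv k (mem_Kp.1 hk).2) ⟨1, one_mem_Kp⟩)
  refine amgm_lt ⟨1, one_mem_Kp⟩ _ (fun _ _ => by positivity) ?_
  rw [← norm_prod, hm, Complex.norm_intCast, ← pow_mul]
  refine (pow_lt_pow_right₀ (by exact_mod_cast hp.out.one_lt) (Nat.lt_succ_self _)).trans_le ?_
  exact_mod_cast Int.le_of_dvd (abs_pos.2 h2) ((dvd_abs _ _).2 h3)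

variable {H : Type*} [Group H] [Fintype H] {Λ : AddSubgroup (H → ℂ)} {x y : ℕ → H → ℂ}

theorem GV.inner_mem {q : ℂ} (hN : N ≠ 0) (hq : ∀ a ∈ Λ, ∀ b ∈ Λ, ∃ m : ℤ, q * classInner a b = m) (hx : x ∈ GV N Λ)
    (hy : y ∈ GV N Λ) : (fun k => q * classInner (x k) (y k)) ∈ SF N := by
  refine GV.ind (P := fun x => (fun k => q * classInner (x k) (y k)) ∈ SF N) (fun ω a h1 h2 => ?_)
    (fun x y h1 h2 => by simp only [Pi.add_apply, H3.inner_add_left, mul_add]; exact add_mem h1 h2) hx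
  refine GV.ind (P := fun y => (fun k => q * classInner (ω ^ k • a) (y k)) ∈ SF N) (fun η b h3 h4 => ?_)
    (fun x y h1 h2 => by simp only [Pi.add_apply, H3.inner_add_right, mul_add]; exact add_mem h1 h2) hy
  obtain ⟨m, hm⟩ := hq a h2 b h4
  convert SF.gen (ω := ω * conj η) (N := N) (by rw [mul_pow, h1, ← map_pow, h3, map_one, mul_one]) m using 2 with k
  rw [H3.inner_smul_left, H3.inner_smul_right, ← hm, mul_pow, map_pow]; ring

theorem sum_Kp_inner (A B : ℂ → H → ℂ) :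
    ∑ k ∈ Kp p (p ^ (n + 1)), classInner (∑ ω ∈ mu (p ^ (n + 1)), ω ^ k • A ω) (∑ ω ∈ mu (p ^ (n + 1)), ω ^ k • B ω) =
      p ^ n * ∑ ω ∈ mu (p ^ (n + 1)), ∑ η ∈ mu (p ^ (n + 1)),
        ((if ω = η then (p : ℂ) else 0) - if ω ^ p = η ^ p then 1 else 0) * classInner (A ω) (B η) := by
  have h0 := (pow_pos hp.out.pos (n + 1)).ne'
  simp only [H3.inner_sum_left, H3.inner_smul_left]
  simp only [H3.inner_sum_right, H3.inner_smul_right, mul_sum]
  rw [sum_comm]; refine sum_congr rfl fun ω hω => ?_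
  rw [sum_comm]; refine sum_congr rfl fun η hη => ?_
  simp only [← mul_assoc]
  rw [← sum_mul, sum_Kp_root ((mem_mu h0).1 hω) ((mem_mu h0).1 hη)]

/-- Brauer's bound for the average of a quadratic form over a Galois family -/
theorem GV.bound (hs : ∀ a ∈ Λ, ∀ b ∈ Λ, classInner a b = classInner b a) {m : ℝ}
    (hm : ∀ a ∈ Λ, a ≠ 0 → m ≤ (classInner a a).re) (hx : x ∈ GV (p ^ (n + 1)) Λ) (h1 : x 1 ≠ 0) :
    (Kp p (p ^ (n + 1))).card * m ≤ ∑ k ∈ Kp p (p ^ (n + 1)), (classInner (x k) (x k)).re := by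
  classical
  have h0 := (pow_pos hp.out.pos (n + 1)).ne'
  rcases le_or_gt m 0 with hm0 | hm0
  · exact (mul_nonpos_of_nonneg_of_nonpos (Nat.cast_nonneg _) hm0).trans (sum_nonneg fun _ _ => H3.inner_self_re_nonneg _)
  obtain ⟨A, hA, hx⟩ := GV.exists h0 hx
  set μ := mu (p ^ (n + 1))
  obtain ⟨ω₀, h2, η₀, h3, h4, h5⟩ : ∃ ω ∈ μ, ∃ η ∈ μ, ω ^ p = η ^ p ∧ A η ≠ A ω := by
    by_contra! h
    have hζ := Complex.isPrimitiveRoot_exp p hp.out.ne_zero
    set ζ := Complex.exp _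
    have hz : ζ ^ p ^ (n + 1) = 1 := by rw [pow_succ', pow_mul, hζ.pow_eq_one, one_pow]
    have h2 : ∀ ω ∈ μ, ζ * ω ∈ μ := fun ω hω => (mem_mu h0).2 (by rw [mul_pow, hz, (mem_mu h0).1 hω, mul_one])
    have h3 : ∑ ω ∈ μ, (ζ * ω) • A (ζ * ω) = ∑ ω ∈ μ, ω • A ω :=
      sum_bij (fun ω _ => ζ * ω) h2 (fun _ _ _ _ => mul_left_cancel₀ (hζ.ne_zero hp.out.ne_zero))
        (fun ω hω => ⟨ζ⁻¹ * ω, (mem_mu h0).2 (by rw [mul_pow, inv_pow, hz, (mem_mu h0).1 hω]; simp),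
          mul_inv_cancel_left₀ (hζ.ne_zero hp.out.ne_zero) _⟩) fun _ _ => rfl
    rw [sum_congr rfl fun ω hω => by rw [h ω hω _ (h2 ω hω) (by rw [mul_pow, hζ.pow_eq_one, one_mul]), mul_smul],
      ← smul_sum, ← sub_eq_zero] at h3
    simp only [hx, pow_one] at h1
    nth_rewrite 2 [← one_smul ℂ (∑ ω ∈ μ, ω • A ω)] at h3
    rw [← sub_smul, smul_eq_zero, sub_eq_zero] at h3
    exact h3.elim (hζ.ne_one hp.out.one_lt) h1
  have h6 : 2 * ∑ ω ∈ μ, ∑ η ∈ μ, ((if ω = η then (p : ℂ) else 0) - if ω ^ p = η ^ p then 1 else 0) * classInner (A ω) (A η) =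
      ∑ ω ∈ μ, ∑ η ∈ μ, if ω ^ p = η ^ p then classInner (A ω - A η) (A ω - A η) else 0 := by
    have e1 : ∑ ω ∈ μ, ∑ η ∈ μ, (if ω ^ p = η ^ p then classInner (A ω) (A ω) else 0) =
        ∑ ω ∈ μ, p * classInner (A ω) (A ω) := sum_congr rfl fun ω hω => by
      rw [← sum_filter, sum_const, card_mu_pow hω, nsmul_eq_mul]
    have e2 : ∑ ω ∈ μ, ∑ η ∈ μ, (if ω ^ p = η ^ p then classInner (A η) (A η) else 0) =
        ∑ ω ∈ μ, p * classInner (A ω) (A ω) := by rw [sum_comm, ← e1]; simp only [eq_comm]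
    have e3 : ∑ ω ∈ μ, ∑ η ∈ μ, (if ω = η then (p : ℂ) else 0) * classInner (A ω) (A η) =
        ∑ ω ∈ μ, p * classInner (A ω) (A ω) := sum_congr rfl fun ω hω => by simp [hω]
    simp only [sub_mul, sum_sub_distrib, e3]
    rw [mul_sub, two_mul]
    nth_rewrite 1 [← e1]
    rw [← e2]
    simp only [mul_sum, ← sum_add_distrib, ← sum_sub_distrib]
    refine sum_congr rfl fun ω _ => sum_congr rfl fun η _ => ?_
    split_ifs
    · rw [H3.inner_sub_left, H3.inner_sub_right, H3.inner_sub_right, hs _ (hA η) _ (hA ω)]; ring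
    · ring
  set T := μ.filter fun η => ω₀ ^ p = η ^ p
  set T0 := T.filter fun η => A η = A ω₀
  set T1 := T.filter fun η => ¬ A η = A ω₀
  have c0 : (1 : ℝ) ≤ T0.card := by exact_mod_cast card_pos.2 ⟨ω₀, by simp [T0, T, h2]⟩
  have c1 : (1 : ℝ) ≤ T1.card := by exact_mod_cast card_pos.2 ⟨η₀, by simp [T1, T, h3, h4, h5]⟩
  have c2 : (T0.card : ℝ) + T1.card = p := by
    rw [← card_mu_pow h2, ← card_filter_add_card_filter_not (s := T) fun η => A η = A ω₀, Nat.cast_add]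
  have h7 : ∑ ω ∈ μ, ∑ η ∈ μ, ((if ω ∈ T0 then 1 else 0) * (if η ∈ T1 then 1 else 0) +
      (if ω ∈ T1 then 1 else 0) * (if η ∈ T0 then 1 else 0)) * m ≤
      ∑ ω ∈ μ, ∑ η ∈ μ, (if ω ^ p = η ^ p then classInner (A ω - A η) (A ω - A η) else 0).re := by
    refine sum_le_sum fun ω _ => sum_le_sum fun η _ => ?_
    have k1 : 0 ≤ (if ω ^ p = η ^ p then classInner (A ω - A η) (A ω - A η) else 0).re := by
      split_ifs; exacts [H3.inner_self_re_nonneg _, le_rfl]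
    have k2 : ∀ (_ : ω ∈ T) (_ : η ∈ T) (_ : A ω ≠ A η),
        m ≤ (if ω ^ p = η ^ p then classInner (A ω - A η) (A ω - A η) else 0).re := fun a b c => by
      rw [if_pos ((mem_filter.1 a).2.symm.trans (mem_filter.1 b).2)]
      exact hm _ (sub_mem (hA _) (hA _)) (sub_ne_zero.2 c)
    generalize (if ω ^ p = η ^ p then classInner (A ω - A η) (A ω - A η) else 0).re = r at k1 k2
    simp only [T0, T1, mem_filter (s := T)]
    by_cases a : ω ∈ T <;> by_cases b : η ∈ T <;> by_cases c : A ω = A ω₀ <;> by_cases d : A η = A ω₀ <;>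
      simp only [a, b, c, d, k1, true_and, false_and, not_true, not_false_iff, if_true, if_false, mul_zero, zero_mul,
        add_zero, zero_add, mul_one, one_mul]
    exacts [k2 a b fun e => d (e ▸ c), k2 a b fun e => c (e ▸ d)]
  have hT : ∀ U ⊆ T, ∑ ω ∈ μ, (if ω ∈ U then (1 : ℝ) else 0) = U.card := fun U hU => by
    rw [sum_ite_mem, inter_eq_right.2 (hU.trans (filter_subset _ _)), sum_const, nsmul_eq_mul, mul_one]
  simp only [← sum_mul, sum_add_distrib, ← mul_sum, hT T0 (filter_subset _ _), hT T1 (filter_subset _ _),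
    ← Complex.re_sum, ← h6] at h7
  simp only [← Complex.re_sum, hx, card_Kp]
  rw [sum_Kp_inner A A, show (p : ℂ) ^ n = ((p : ℝ) ^ n : ℝ) by simp, Complex.re_ofReal_mul, mul_assoc]
  refine mul_le_mul_of_nonneg_left ?_ (by positivity)
  rw [two_mul, Complex.add_re] at h7
  nlinarith [mul_nonneg (mul_nonneg (sub_nonneg.2 c0) (sub_nonneg.2 c1)) hm0.le]

/-- for `p = 2` the average is an integer of the expected parity -/
theorem GV.avg_two (hM : IsPModular 2 M) {q : ℂ} (hs : ∀ a ∈ Λ, ∀ b ∈ Λ, classInner a b = classInner b a)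
    (hq : ∀ a ∈ Λ, ∀ b ∈ Λ, ∃ m : ℤ, q * classInner a b = m) (hx : x ∈ GV (2 ^ (n + 1)) Λ) :
    ∃ m : ℤ, ∑ k ∈ Kp 2 (2 ^ (n + 1)), q * classInner (x k) (x k) = 2 ^ n * m ∧
      red M (q * classInner (x 1) (x 1)) = m := by
  classical
  have h0 : 2 ^ (n + 1) ≠ 0 := by positivity
  obtain ⟨A, hA, hx⟩ := GV.exists h0 hx
  choose b hb using fun ω η => hq _ (hA ω) _ (hA η)
  have hb' : ∀ ω η, b ω η = b η ω := fun ω η => by exact_mod_cast (hb ω η).symm.trans (hs _ (hA ω) _ (hA η) ▸ hb η ω)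
  refine ⟨∑ ω ∈ mu (2 ^ (n + 1)), ∑ η ∈ mu (2 ^ (n + 1)),
    ((if ω = η then 2 else 0) - if ω ^ 2 = η ^ 2 then 1 else 0) * b ω η, ?_, ?_⟩
  · simp only [hx, ← mul_sum]
    rw [sum_Kp_inner A A, mul_left_comm]
    push_cast; simp only [mul_sum, ← hb]
    exact sum_congr rfl fun _ _ => sum_congr rfl fun _ _ => by ring
  · have h1 : ∀ ω ∈ mu (2 ^ (n + 1)), ∀ η ∈ mu (2 ^ (n + 1)), ω * conj η * b ω η ∈ O M ∧
        red M (ω * conj η * b ω η) = b ω η := fun ω hω η hη => by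
      have h2 : (ω * conj η) ^ 2 ^ (n + 1) = 1 := by
        rw [mul_pow, (mem_mu h0).1 hω, ← map_pow, (mem_mu h0).1 hη, map_one, mul_one]
      have h3 := mem_O_of_pow_eq_one (M := M) h0 h2
      exact ⟨mul_mem h3 (intCast_mem _ _), by
        rw [red_mul h3 (intCast_mem _ _), red_eq_one_of_pow_p_pow hM h2, one_mul, red_intCast]⟩
    have h2 : q * classInner (x 1) (x 1) = ∑ ω ∈ mu (2 ^ (n + 1)), ∑ η ∈ mu (2 ^ (n + 1)), ω * conj η * b ω η := by
      simp only [hx, pow_one, H3.inner_sum_left, H3.inner_smul_left]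
      simp only [H3.inner_sum_right, H3.inner_smul_right, mul_sum, ← hb]
      exact sum_congr rfl fun _ _ => sum_congr rfl fun _ _ => by ring
    rw [h2, red_sum _ _ fun ω hω => sum_mem fun η hη => (h1 ω hω η hη).1,
      sum_congr rfl fun ω hω => (red_sum _ _ fun η hη => (h1 ω hω η hη).1).trans
        (sum_congr rfl fun η hη => (h1 ω hω η hη).2), ← sub_eq_zero]
    push_cast
    have h3 : (2 : k M) = 0 := p_eq_zero hM
    simp only [← sum_sub_distrib, ← sum_product', h3]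
    refine sum_involution (fun x _ => x.swap) (fun x _ => ?_) (fun x _ h e => h ?_) (fun x h => ?_) fun _ _ => rfl
    · simp only [Prod.fst_swap, Prod.snd_swap, hb' x.2 x.1, eq_comm (a := x.2 ^ 2), ite_self, ← two_mul, h3, zero_mul]
    · have : x.1 = x.2 := (congrArg Prod.snd e :)
      simp [this, ← two_mul, h3]
    · simpa [and_comm] using h

theorem v_root_sub_one (M : Ideal AlgInt) {ζ η : ℂ} {N : ℕ} (hN : N ≠ 0) (h : IsPrimitiveRoot ζ N) (h' : η ^ N = 1) :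
    v M (η - 1) ≤ v M (ζ - 1) := by
  haveI : NeZero N := ⟨hN⟩
  obtain ⟨i, -, rfl⟩ := h.eq_pow_of_pow_eq_one h'
  rw [← geom_sum_mul, map_mul]
  exact mul_le_of_le_one_left' (mem_O_iff.1 (sum_mem fun j _ => pow_mem (mem_O_of_pow_eq_one hN h.pow_eq_one) j))

theorem v_root_sub_one_pow (M : Ideal AlgInt) {ζ : ℂ} (h : IsPrimitiveRoot ζ (p ^ (n + 1))) :
    v M (ζ - 1) ^ (p ^ (n + 1)).totient = v M (p : ℂ) := by
  have h0 := (pow_pos hp.out.pos (n + 1)).ne'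
  rw [← Polynomial.eval_one_cyclotomic_prime_pow n, Polynomial.cyclotomic_eq_prod_X_sub_primitiveRoots h,
    Polynomial.eval_prod, map_prod, ← h.card_primitiveRoots, ← prod_const]
  refine prod_congr rfl fun η hη => ?_
  rw [mem_primitiveRoots h0.bot_lt] at hη
  simp only [Polynomial.eval_sub, Polynomial.eval_X, Polynomial.eval_C]
  rw [Valuation.map_sub_swap _ 1]
  exact le_antisymm (v_root_sub_one M h0 hη h.pow_eq_one) (v_root_sub_one M h0 h hη.pow_eq_one)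

/-- sums of terms with distinct valuations -/
theorem v_coeff_le (hM : IsPModular p M) {π : ℂ} {e : ℕ} (hπ : v M π ^ e = v M (p : ℂ)) {c : ℕ → ℂ}
    (hc : ∀ j < e, v M (c j) ≤ 1 ∧ (v M (c j) < 1 → v M (c j) ≤ v M (p : ℂ)))
    (h : v M (∑ j ∈ range e, c j * π ^ j) ≤ v M (p : ℂ)) : ∀ j < e, v M (c j) ≤ v M (p : ℂ) := by
  classical
  by_contra! h1
  obtain ⟨h2, h3⟩ := Nat.find_spec h1
  set i := Nat.find h1
  have h4 : v M π < 1 := lt_of_not_ge fun h => (v_p_lt_one hM).not_ge (hπ ▸ one_le_pow₀ h)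
  have h5 : 0 < v M π := (zero_le (a := v M π)).lt_of_ne' fun h => v_p_ne_zero hM (by rw [← hπ, h, zero_pow (by omega)])
  have h6 : v M (c i) = 1 := (hc i h2).1.eq_of_not_lt fun h => h3.not_ge ((hc i h2).2 h)
  have h7 : v M (p : ℂ) < v M π ^ i := hπ ▸ pow_lt_pow_right_of_lt_one₀ h5 h4 h2
  rw [Valuation.map_sum_eq_of_lt _ (mem_range.2 h2) fun j hj => ?_, map_mul, h6, one_mul, map_pow] at h
  · exact h7.not_ge h
  rw [mem_sdiff, mem_range, mem_singleton] at hj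
  simp only [map_mul, h6, one_mul, map_pow]
  rcases lt_or_gt_of_ne hj.2 with h8 | h8
  · exact (mul_le_of_le_one_right' (pow_le_one' h4.le _)).trans_lt
      ((not_lt.1 fun h => Nat.find_min h1 h8 ⟨hj.1, h⟩).trans_lt h7)
  · exact (mul_le_of_le_one_left' (hc j hj.1).1).trans_lt (pow_lt_pow_right_of_lt_one₀ h5 h4 h8)

open Polynomial in
theorem dvd_of_v_aeval (hM : IsPModular p M) {ζ : ℂ} (h : IsPrimitiveRoot ζ (p ^ (n + 1))) (j : ℕ) (f : ℤ[X])
    (hf : f.natDegree < (p ^ (n + 1)).totient) (hv : v M (aeval ζ f) ≤ v M (p : ℂ) ^ j) : C ((p : ℤ) ^ j) ∣ f := by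
  induction j generalizing f with
  | zero => simp
  | succ j ih =>
    have h1 : aeval ζ f = aeval (ζ - 1) (taylor 1 f) := by simp [taylor_apply, aeval_comp]
    have h2 := v_coeff_le hM (v_root_sub_one_pow M h) (c := fun i => ((taylor 1 f).coeff i : ℤ))
      (fun i _ => ⟨mem_O_iff.1 (intCast_mem _ _), fun h => by
        simpa using (int_dvd_iff_v hM _ 1).1 ((int_dvd_succ_iff_v hM _ 0).2 (by simpa using h))⟩) (by
        refine le_of_eq_of_le ?_ (hv.trans (by rw [pow_succ]; exact mul_le_of_le_one_left' (pow_le_one' (v_p_lt_one hM).le _)))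
        rw [h1, aeval_eq_sum_range' (by rwa [natDegree_taylor])]; simp)
    obtain ⟨g, hg⟩ : C (p : ℤ) ∣ taylor 1 f := (C_dvd_iff_dvd_coeff _ _).2 fun i => by
      by_cases hi : i < (p ^ (n + 1)).totient
      · simpa using (int_dvd_iff_v hM _ 1).2 (by simpa using h2 i hi)
      · rw [coeff_eq_zero_of_natDegree_lt (by rw [natDegree_taylor]; omega)]; exact dvd_zero _
    have h3 : f = C (p : ℤ) * taylor (-1) g := by
      rw [← taylor_zero f, ← neg_add_cancel (1 : ℤ), ← taylor_taylor, hg, taylor_mul, taylor_C]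
    rw [h3, natDegree_C_mul (by exact_mod_cast hp.out.ne_zero)] at hf
    rw [h3, map_mul, aeval_C, map_mul, pow_succ', algebraMap_int_eq, eq_intCast, Int.cast_natCast,
      mul_le_mul_iff_right₀ (v_p_pos hM)] at hv
    rw [h3, pow_succ', C_mul]; exact mul_dvd_mul_left _ (ih _ hf hv)

open Polynomial in
theorem GV.exists_basis {Λ : AddSubgroup V} {x : ℕ → V} (hx : x ∈ GV (p ^ (n + 1)) Λ) {ζ : ℂ}
    (h : IsPrimitiveRoot ζ (p ^ (n + 1))) : ∃ D : ℕ → V, (∀ j, D j ∈ Λ) ∧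
      ∀ k, ¬ p ∣ k → x k = ∑ j ∈ range (p ^ (n + 1)).totient, (ζ ^ j) ^ k • D j := by
  have h0 := pow_pos hp.out.pos (n + 1)
  refine GV.ind (P := fun x => ∃ D : ℕ → V, (∀ j, D j ∈ Λ) ∧
    ∀ k, ¬ p ∣ k → x k = ∑ j ∈ range (p ^ (n + 1)).totient, (ζ ^ j) ^ k • D j) (fun ω a h1 h2 => ?_) ?_ hx
  · haveI : NeZero (p ^ (n + 1)) := ⟨h0.ne'⟩
    obtain ⟨i, -, rfl⟩ := h.eq_pow_of_pow_eq_one h1
    refine ⟨fun j => (X ^ i %ₘ cyclotomic (p ^ (n + 1)) ℤ).coeff j • a, fun j => zsmul_mem h2 _, fun k hk => ?_⟩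
    have h3 := (h.pow_of_coprime k ((hp.out.coprime_iff_not_dvd.2 hk).symm.pow_right _)).isRoot_cyclotomic h0
    have h4 := aeval_modByMonic_eq_self_of_root (p := X ^ i) (q := cyclotomic (p ^ (n + 1)) ℤ) (x := ζ ^ k)
      (by rw [aeval_def, eval₂_eq_eval_map, map_cyclotomic]; exact h3)
    rw [aeval_eq_sum_range' (n := (p ^ (n + 1)).totient), map_pow, aeval_X] at h4
    · dsimp only
      rw [← pow_mul, mul_comm, pow_mul, ← h4, sum_smul]
      exact sum_congr rfl fun j _ => by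
        rw [← pow_mul, ← pow_mul, mul_comm j, ← Int.cast_smul_eq_zsmul ℂ, ← Int.cast_smul_eq_zsmul ℂ, smul_smul,
          smul_eq_mul, mul_comm]
    · rw [← natDegree_cyclotomic _ ℤ]
      exact natDegree_modByMonic_lt _ (cyclotomic.monic _ _) fun e =>
        (Nat.totient_pos.2 h0).ne' (by rw [← natDegree_cyclotomic _ ℤ, e, natDegree_one])
  · rintro x y ⟨A, h1, h2⟩ ⟨B, h3, h4⟩
    exact ⟨A + B, fun j => add_mem (h1 j) (h3 j), fun k hk => by simp [h2 k hk, h4 k hk, sum_add_distrib]⟩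

/-- the sublattice of vectors all of whose inner products are divisible by `c` -/
def dvdL (q c : ℂ) (Λ : AddSubgroup (H → ℂ)) : AddSubgroup (H → ℂ) where
  carrier := {a | a ∈ Λ ∧ ∀ b ∈ Λ, ∃ m : ℤ, q * classInner a b = c * m}
  zero_mem' := ⟨zero_mem _, fun _ _ => ⟨0, by simp⟩⟩
  add_mem' := fun {a b} h h' => ⟨add_mem h.1 h'.1, fun c hc => by
    obtain ⟨m, hm⟩ := h.2 c hc
    obtain ⟨n, hn⟩ := h'.2 c hc
    exact ⟨m + n, by rw [H3.inner_add_left, mul_add, hm, hn]; push_cast; ring⟩⟩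
  neg_mem' := fun {a} h => ⟨neg_mem h.1, fun c hc => by
    obtain ⟨m, hm⟩ := h.2 c hc
    exact ⟨-m, by rw [H3.inner_neg_left, mul_neg, hm]; push_cast; ring⟩⟩

open Polynomial in
theorem GV.exists_dvdL (hM : IsPModular p M) {q : ℂ} (hq : ∀ a ∈ Λ, ∀ b ∈ Λ, ∃ m : ℤ, q * classInner a b = m)
    (hx : x ∈ GV (p ^ (n + 1)) Λ) {j : ℕ} (h : ∀ b ∈ Λ, v M (q * classInner (x 1) b) ≤ v M (p : ℂ) ^ j) :
    ∃ y ∈ GV (p ^ (n + 1)) (dvdL q (p ^ j) Λ), ∀ k, ¬ p ∣ k → x k = y k := by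
  have h0 := pow_pos hp.out.pos (n + 1)
  have hζ := Complex.isPrimitiveRoot_exp _ h0.ne'
  obtain ⟨D, h1, h2⟩ := GV.exists_basis hx hζ
  refine ⟨_, sum_mem fun i (hi : i ∈ range (p ^ (n + 1)).totient) => GV.gen (a := D i)
    (by rw [← pow_mul, mul_comm, pow_mul, hζ.pow_eq_one, one_pow]) ⟨h1 i, fun b hb => ?_⟩,
    fun k hk => by rw [h2 k hk, Finset.sum_apply]⟩
  choose m hm using fun i => hq _ (h1 i) b hb
  have h3 := (C_dvd_iff_dvd_coeff _ _).1 (dvd_of_v_aeval hM hζ j (∑ i ∈ range (p ^ (n + 1)).totient, monomial i (m i))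
    ((natDegree_sum_le_of_forall_le _ _ fun i hi => (natDegree_monomial_le _).trans
      (Nat.le_sub_one_of_lt (mem_range.1 hi))).trans_lt (Nat.sub_one_lt (Nat.totient_pos.2 h0).ne')) (by
      refine le_of_eq_of_le ?_ (h b hb)
      simp only [h2 1 (mem_Kp.1 (one_mem_Kp (n := n))).2, map_sum, aeval_monomial, H3.inner_sum_left, mul_sum,
        H3.inner_smul_left, pow_one, mul_left_comm q, hm, algebraMap_int_eq, eq_intCast]
      simp only [mul_comm])) i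
  simp only [finset_sum_coeff, coeff_monomial, sum_ite_eq', hi, if_true] at h3
  obtain ⟨r, hr⟩ := h3
  exact ⟨r, by rw [hm, hr]; push_cast; rfl⟩

end gen

variable {G : Type*} [Group G] [Finite G] {M : Ideal AlgInt} {p : ℕ} [hp : Fact p.Prime]
  {B : Set (IrrCharacter G)} {χ ψ : IrrCharacter G} {θ η : G → ℂ}

variable (p) in
/-- the lattice spanned by the restrictions of the members of `B` to the `p`-regular elements -/
def LS (B : Set (IrrCharacter G)) : AddSubgroup (G → ℂ) where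
  carrier := {a | ∃ θ, IsGeneralizedCharacter G θ ∧ blockPart B θ = θ ∧ a = reg p θ}
  zero_mem' := ⟨0, H3.gen_zero, by simpa using blockPart_smul B 0 0, by simpa using (reg_smul 0 0).symm⟩
  add_mem' := by
    rintro _ _ ⟨a, h1, h2, rfl⟩ ⟨b, h3, h4, rfl⟩
    exact ⟨a + b, H3.gen_add h1 h3, by rw [blockPart_add, h2, h4], (reg_add _ _).symm⟩
  neg_mem' := by
    rintro _ ⟨a, h1, h2, rfl⟩
    exact ⟨-a, H3.gen_neg h1, by simpa [h2] using blockPart_smul B (-1) a, by simpa using (reg_smul (-1) a).symm⟩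

theorem reg_mem_LS (h : χ ∈ B) : reg p χ.1 ∈ LS p B := ⟨_, H3.irr_gen χ.2, blockPart_irr_of_mem h, rfl⟩

theorem LS_le_RS (h : θ ∈ LS p B) : θ ∈ RS p B := by obtain ⟨a, -, h, rfl⟩ := h; exact h ▸ reg_blockPart_mem B a

theorem LS_mem_O (h : θ ∈ LS p B) (g : G) : θ g ∈ O M := by
  obtain ⟨a, h, -, rfl⟩ := h
  unfold reg; split_ifs; exacts [zero_mem _, OC_apply (gen_mem_OC h) g]

theorem LS_int [Fintype G] (hM : IsPModular p M) : ∀ a ∈ LS p B, ∀ b ∈ LS p B,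
    ∃ m : ℤ, ((p ^ blockDefect p B : ℕ) : ℂ) * classInner a b = m := by
  rintro _ ⟨a, h1, -, rfl⟩ _ ⟨b, h3, h4, rfl⟩
  rw [← inner_reg_left, reg_reg, ← h4, blockPart_eq, H3.inner_sum_right, mul_sum, ← mem_zmul_iff]
  refine sum_mem fun ζ hζ => ?_
  obtain ⟨m, hm⟩ := H3.inner_gen_int h3 (H3.irr_gen ζ.2)
  obtain ⟨n, hn⟩ := inner_reg_int hM h1 ζ.2 (card_le_nu_add (mem_fs.1 hζ))
  exact mem_zmul_iff.2 ⟨m * n, by rw [H3.inner_smul_right, hm, mul_left_comm, hn]; simp⟩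

theorem q_ne_zero (n : ℕ) : ((p ^ n : ℕ) : ℂ) ≠ 0 := Nat.cast_ne_zero.2 (pow_ne_zero _ hp.out.ne_zero)

theorem LS_symm [Fintype G] (hM : IsPModular p M) : ∀ a ∈ LS p B, ∀ b ∈ LS p B, classInner a b = classInner b a :=
  fun a ha b hb => by
    obtain ⟨m, hm⟩ := LS_int hM a ha b hb
    have := congrArg conj hm
    rw [map_mul, map_natCast, map_intCast, H3.inner_conj_symm, ← hm] at this
    exact (mul_left_cancel₀ (q_ne_zero _) this).symm

theorem LS_red [Fintype G] (hM : IsPModular p M) (hB : IsPBlock M B) (h : θ ∈ LS p B) (h' : η ∈ LS p B) :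
    red M (((p ^ blockDefect p B : ℕ) : ℂ) * classInner θ η) ≠ 0 ↔ Lz M p B θ ≠ 0 ∧ Lz M p B η ≠ 0 := by
  obtain ⟨a, h1, h2, rfl⟩ := h
  obtain ⟨b, h3, -, rfl⟩ := h'
  have e : ∀ a : G → ℂ, Lz M p B (reg p a) = Lz M p B a := fun a => Lz_congr B fun g hg => by rw [reg_of_not_dvd _ hg]
  rw [← inner_reg_left, reg_reg, ← h2, red_inner hM hB (gen_mem_OC h1) (gen_mem_OC h3) fun g => (H3.gen_inv h3 g).symm,
    h2, e, e]

theorem conj_LS (h : θ ∈ LS p B) (g : G) : conj (θ g) = θ g⁻¹ := by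
  obtain ⟨a, h, -, rfl⟩ := h
  simp only [reg, orderOf_inv]; split_ifs; exacts [map_zero _, (H3.gen_inv h g).symm]

theorem inner_swap' [Fintype G] {θ' η' : G → ℂ} (h : ∀ g, conj (η g) = η' g⁻¹) (h' : ∀ g, conj (θ g) = θ' g⁻¹) :
    classInner θ' η = classInner η' θ := by
  rw [classInner, classInner, ← Equiv.sum_comp (Equiv.inv G)]
  exact congrArg _ (sum_congr rfl fun g _ => by simp only [h, h', Equiv.inv_apply, inv_inv, mul_comm])

theorem conj_blockPart {η' : G → ℂ} (h : ∀ g, conj (η g) = η' g⁻¹) (g : G) :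
    conj (blockPart B η g) = blockPart B η' g⁻¹ := by
  cases nonempty_fintype G
  simp only [blockPart_apply, map_sum, map_mul, H3.inner_conj_symm, irr_inv]
  exact sum_congr rfl fun ζ _ => by rw [inner_swap h (H3.irr_char ζ.2)]

variable {H : Subgroup G} {z : H} {b : Set (IrrCharacter H)} {N n : ℕ}

theorem sb_mem_GV (hz : z ∈ Subgroup.center H) (hN : z ^ N = 1) (b : Set (IrrCharacter H))
    (hθ : IsGeneralizedCharacter G θ) : (fun k => sb p (z ^ k) b θ) ∈ GV N (LS p b) := by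
  cases nonempty_fintype H
  choose m hm using fun ζ : IrrCharacter H => H3.inner_gen_int (H3.gen_restrict hθ H) (H3.irr_gen ζ.2)
  convert sum_mem fun ζ (hζ : ζ ∈ fs b) => GV.gen (central_pow_eq_one ζ.2 hz hN)
    (zsmul_mem (reg_mem_LS (p := p) (mem_fs.1 hζ)) (m ζ)) using 1
  ext1 k
  rw [sb, blockPart_eq, reg_sum, Finset.sum_apply]
  refine sum_congr rfl fun ζ _ => ?_
  rw [reg_smul, ← Int.cast_smul_eq_zsmul ℂ, smul_smul, ← hm]
  congr 1
  refine (inner_shift (fun h : H => θ h) ζ.2 (pow_mem hz k)).trans ?_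
  rw [central_pow ζ.2 hz, mul_div_cancel_right₀ _ (H3.irr_one_ne_zero ζ.2)]

theorem Sec.exists_pow (hz : Sec p z) : ∃ n, z ^ p ^ (n + 1) = 1 := by
  obtain ⟨n, hn⟩ := (isPElt_iff hp.out).1 (isPElt_coe.1 hz.elt)
  exact ⟨n, by rw [pow_succ, pow_mul, hn, one_pow]⟩

variable [Fintype H]

variable (p) in
/-- the contributions `p^{d(b)} m^{(z,b)}` -/
noncomputable def cF (z : H) (b : Set (IrrCharacter H)) (θ η : G → ℂ) : ℂ :=
  ((p ^ blockDefect p b : ℕ) : ℂ) * classInner (sb p z b θ) (sb p z b η)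

theorem cF_mem_SF (hM : IsPModular p M) (hz : z ∈ Subgroup.center H) (hN0 : N ≠ 0) (hN : z ^ N = 1)
    (b : Set (IrrCharacter H)) (hθ : IsGeneralizedCharacter G θ) (hη : IsGeneralizedCharacter G η) :
    (fun k => cF p (z ^ k) b θ η) ∈ SF N :=
  GV.inner_mem hN0 (LS_int hM) (sb_mem_GV hz hN b hθ) (sb_mem_GV hz hN b hη)

theorem conj_cF (z : H) (b : Set (IrrCharacter H)) (θ η : G → ℂ) : conj (cF p z b θ η) = cF p z b η θ := by
  rw [cF, map_mul, map_natCast, H3.inner_conj_symm, cF]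

theorem norm_inner_self {K : Type*} [Group K] [Fintype K] (c : ℕ) (a : K → ℂ) :
    (‖(c : ℂ) * classInner a a‖ : ℂ) = c * classInner a a := by
  rw [H3.inner_self_eq, ← Complex.ofReal_natCast, ← Complex.ofReal_mul, Complex.norm_real,
    Real.norm_of_nonneg (by positivity)]

theorem norm_cF_self (z : H) (b : Set (IrrCharacter H)) (θ : G → ℂ) : (‖cF p z b θ θ‖ : ℂ) = cF p z b θ θ :=
  norm_inner_self _ _

theorem Sec.sum_cF_mul (hM : IsPModular p M) (hz : Sec p z) (hind : IsInducedBlock M H b B) (θ η : G → ℂ) :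
    ∑ ψ ∈ fs B, cF p z b θ ψ.1 * cF p z b ψ.1 η = (p ^ blockDefect p b : ℕ) * cF p z b θ η := by
  cases nonempty_fintype G
  simp only [cF, ← hz.gram hM hind (sb_mem z b θ) (sb_mem z b η), mul_sum]
  exact sum_congr rfl fun _ _ => by ring

theorem Sec.sum_norm_cF_sq (hM : IsPModular p M) (hz : Sec p z) (hind : IsInducedBlock M H b B) (θ : G → ℂ) :
    ∑ ψ ∈ fs B, ‖cF p z b θ ψ.1‖ ^ 2 = p ^ blockDefect p b * ‖cF p z b θ θ‖ := by
  refine Complex.ofReal_injective ?_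
  push_cast
  rw [norm_cF_self, ← Nat.cast_pow, ← hz.sum_cF_mul hM hind]
  exact sum_congr rfl fun ψ _ => by rw [← conj_cF z b θ, Complex.mul_conj']

theorem Sec.sum_cF (hM : IsPModular p M) (hz : Sec p z) (hind : IsInducedBlock M H b B) :
    ∑ χ ∈ fs B, ‖cF p z b χ.1 χ.1‖ = p ^ blockDefect p b * blockRank p b := by
  cases nonempty_fintype G
  refine Complex.ofReal_injective ?_
  push_cast
  simp only [norm_cF_self]
  rw [← hz.sum_inner_sb hM hind, ← Nat.cast_pow, mul_sum]; rfl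

theorem Sec.red_cF (hM : IsPModular p M) (hz : Sec p z) (hind : IsInducedBlock M H b B) (hχ : χ ∈ B) (hψ : ψ ∈ B) :
    red M (cF p z b χ.1 ψ.1) ≠ 0 ↔ blockHeight p B χ.1 = 0 ∧ blockHeight p B ψ.1 = 0 := by
  cases nonempty_fintype G
  rw [cF, hz.red_inner_sb hM hind (H3.irr_gen χ.2) (H3.irr_gen ψ.2), Lz_ne_zero_iff hM hind.2.1,
    Lz_ne_zero_iff hM hind.2.1]; tauto

theorem Sec.v_cF (hM : IsPModular p M) (hz : Sec p z) (hind : IsInducedBlock M H b B)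
    (hd : blockDefect p b = blockDefect p B) (hχ : χ ∈ B) (hψ : ψ ∈ B) :
    (blockHeight p B χ.1 = 0 → v M (cF p z b χ.1 ψ.1) = v M (p : ℂ) ^ blockHeight p B ψ.1) ∧
      (blockHeight p B χ.1 ≠ 0 → v M (cF p z b χ.1 ψ.1) < v M (p : ℂ) ^ blockHeight p B ψ.1) := by
  cases nonempty_fintype G
  obtain ⟨u, h1, h2, h3⟩ := hz.exists_eq_hw hM hind hχ hψ
  rw [cF, hd, h2, map_mul, v_hw hM hψ]
  exact ⟨fun h => by rw [red_ne_zero_iff.1 ((h3 hd).2 h), mul_one], fun h => mul_lt_of_lt_one_right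
    (pow_pos (v_p_pos hM) _) ((red_eq_zero_iff h1).1 (not_not.1 fun e => h ((h3 hd).1 e)))⟩

theorem Sec.cF_ne_zero (hM : IsPModular p M) (hz : Sec p z) (hind : IsInducedBlock M H b B)
    (hd : blockDefect p b = blockDefect p B) (hχ : χ ∈ B) (hψ : ψ ∈ B) (h : blockHeight p B χ.1 = 0) :
    cF p z b χ.1 ψ.1 ≠ 0 :=
  (Valuation.pos_iff _).1 (((hz.v_cF hM hind hd hχ hψ).1 h).symm ▸ pow_pos (v_p_pos hM) _)

theorem Sec.cF_self_ne_zero (hM : IsPModular p M) (hz : Sec p z) (hind : IsInducedBlock M H b B)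
    (hd : blockDefect p b = blockDefect p B) (hχ : χ ∈ B) : cF p z b χ.1 χ.1 ≠ 0 := by
  cases nonempty_fintype G
  exact mul_ne_zero (q_ne_zero _) fun e => hz.sb_ne_zero hM hind hd hχ (H3.inner_self_eq_zero e)

variable (p n) in
/-- average over the exponents prime to `p` -/
noncomputable def avg (f : ℕ → ℝ) : ℝ := (∑ k ∈ Kp p (p ^ (n + 1)), f k) / (Kp p (p ^ (n + 1))).card

omit [Fintype H] in
theorem avg_sum {ι : Type*} (s : Finset ι) (f : ι → ℕ → ℝ) :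
    ∑ i ∈ s, avg p n (f i) = avg p n fun k => ∑ i ∈ s, f i k := by simp only [avg]; rw [sum_comm, sum_div]

omit [Fintype H] in
theorem avg_eq {f : ℕ → ℝ} {c : ℝ} (h : ∀ k, ¬ p ∣ k → f k = c) : avg p n f = c := by
  rw [avg, sum_congr rfl fun k hk => h k (mem_Kp.1 hk).2, sum_const, nsmul_eq_mul, mul_div_cancel_left₀ _ card_Kp_pos.ne']

omit [Fintype H] in
theorem avg_congr {f g : ℕ → ℝ} {c : ℝ} (h : ∀ k, ¬ p ∣ k → f k = c * g k) : avg p n f = c * avg p n g := by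
  rw [avg, avg, sum_congr rfl fun k hk => h k (mem_Kp.1 hk).2, ← mul_sum, mul_div_assoc]

variable (p n) in
/-- averaged diagonal contributions -/
noncomputable def aD (z : H) (b : Set (IrrCharacter H)) (χ : IrrCharacter G) : ℝ :=
  avg p n fun k => ‖cF p (z ^ k) b χ.1 χ.1‖

variable (p n) in
/-- averaged squares of contributions -/
noncomputable def aQ (z : H) (b : Set (IrrCharacter H)) (χ ψ : IrrCharacter G) : ℝ :=
  avg p n fun k => ‖cF p (z ^ k) b χ.1 ψ.1‖ ^ 2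

theorem aQ_nonneg (z : H) (b : Set (IrrCharacter H)) (χ ψ : IrrCharacter G) : 0 ≤ aQ p n z b χ ψ :=
  div_nonneg (sum_nonneg fun _ _ => by positivity) (Nat.cast_nonneg _)

theorem aD_nonneg (z : H) (b : Set (IrrCharacter H)) (χ : IrrCharacter G) : 0 ≤ aD p n z b χ :=
  div_nonneg (sum_nonneg fun _ _ => by positivity) (Nat.cast_nonneg _)

theorem Sec.sum_aD (hM : IsPModular p M) (hz : Sec p z) (hind : IsInducedBlock M H b B) :
    ∑ χ ∈ fs B, aD p n z b χ = p ^ blockDefect p b * blockRank p b :=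
  (avg_sum _ _).trans (avg_eq fun _ hk => (hz.pow hk).sum_cF hM hind)

theorem Sec.sum_aQ (hM : IsPModular p M) (hz : Sec p z) (hind : IsInducedBlock M H b B) (χ : IrrCharacter G) :
    ∑ ψ ∈ fs B, aQ p n z b χ ψ = p ^ blockDefect p b * aD p n z b χ :=
  (avg_sum _ _).trans (avg_congr fun _ hk => (hz.pow hk).sum_norm_cF_sq hM hind _)

theorem Sec.one_le_aQ (hM : IsPModular p M) (hz : Sec p z) (hn : z ^ p ^ (n + 1) = 1) (hind : IsInducedBlock M H b B)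
    (hχ : χ ∈ B) (hψ : ψ ∈ B) (h : blockHeight p B χ.1 = 0) (h' : blockHeight p B ψ.1 = 0) : 1 ≤ aQ p n z b χ ψ := by
  rw [aQ, avg, le_div_iff₀' card_Kp_pos]
  simpa using SF.le_sum_norm hM (cF_mem_SF hM hz.center (pow_pos hp.out.pos _).ne' hn b (H3.irr_gen χ.2) (H3.irr_gen ψ.2))
    (ne_zero_of_red_ne_zero (((hz.pow hp.out.not_dvd_one).red_cF hM hind hχ hψ).2 ⟨h, h'⟩)) (j := 0)
    (fun k hk => (red_ne_zero_iff.1 (((hz.pow hk).red_cF hM hind hχ hψ).2 ⟨h, h'⟩)).le) 2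

theorem Sec.le_aQ (hM : IsPModular p M) (hz : Sec p z) (hn : z ^ p ^ (n + 1) = 1) (hind : IsInducedBlock M H b B)
    (hd : blockDefect p b = blockDefect p B) (hχ : χ ∈ B) (hψ : ψ ∈ B) (h : blockHeight p B χ.1 = 0) :
    (p : ℝ) ^ (blockHeight p B ψ.1 * 2) ≤ aQ p n z b χ ψ := by
  rw [aQ, avg, le_div_iff₀' card_Kp_pos]
  exact SF.le_sum_norm hM (cF_mem_SF hM hz.center (pow_pos hp.out.pos _).ne' hn b (H3.irr_gen χ.2) (H3.irr_gen ψ.2))
    ((hz.pow hp.out.not_dvd_one).cF_ne_zero hM hind hd hχ hψ h) (fun k hk => (((hz.pow hk).v_cF hM hind hd hχ hψ).1 h).le) 2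

theorem Sec.le_aD (hM : IsPModular p M) (hz : Sec p z) (hn : z ^ p ^ (n + 1) = 1) (h : sb p z b χ.1 ≠ 0) {m : ℝ}
    (hm : ∀ a ∈ LS p b, a ≠ 0 → m ≤ (classInner a a).re) : p ^ blockDefect p b * m ≤ aD p n z b χ := by
  have := GV.bound (LS_symm hM) hm (sb_mem_GV hz.center hn b (H3.irr_gen χ.2)) (by rwa [pow_one])
  rw [aD, avg, le_div_iff₀' card_Kp_pos, mul_left_comm]
  refine (mul_le_mul_of_nonneg_left this (by positivity)).trans_eq ?_
  rw [mul_sum]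
  exact sum_congr rfl fun k _ => by
    rw [← Complex.ofReal_re ‖_‖, norm_cF_self, cF, ← Complex.ofReal_natCast (p ^ _), Complex.re_ofReal_mul, Nat.cast_pow]

theorem Sec.v_inner_LS (hM : IsPModular p M) (hz : Sec p z) (hind : IsInducedBlock M H b B)
    (hd : blockDefect p b = blockDefect p B) (hψ : ψ ∈ B) {a : H → ℂ} (ha : a ∈ LS p b) :
    v M (((p ^ blockDefect p b : ℕ) : ℂ) * classInner (sb p z b ψ.1) a) ≤ v M (p : ℂ) ^ blockHeight p B ψ.1 := by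
  cases nonempty_fintype G
  have h3 := LS_le_RS ha
  obtain ⟨c, hc⟩ := exists_inner_eq_hw hM hind.2.1 (class_up z⁻¹ a)
    (hz.inv.up_mem_O (class_of_RS h3) (reg_of_mem_RS h3) (LS_mem_O ha))
  obtain ⟨u, h4, -, h5⟩ := hc ψ hψ
  rw [inner_up' _ _ (H3.irr_class ψ.2), inner_swap' (hz.inv.conj_sh (H3.irr_gen ψ.2)) (conj_LS ha), inv_inv] at h5
  rw [inner_sb hM hind.1 _ _ h3, hd, h5, map_mul, v_hw hM hψ]
  exact mul_le_of_le_one_right' (mem_O_iff.1 h4)

omit [Fintype H] in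
theorem defect_eq_of_dg (hM : IsPModular p M) (hind : IsInducedBlock M H b B) {D : Subgroup G}
    (hD : IsDefectGroup p M B D) (hb : IsDefectGroup p M b (D.subgroupOf H)) (h : D ≤ H) :
    blockDefect p b = blockDefect p B := by
  rw [← dg_factorization hM hind.1 hb, ← dg_factorization hM hind.2.1 hD,
    Nat.card_congr (Subgroup.subgroupOfEquivOfLe h).toEquiv]

theorem card_Kp_two : ((Kp 2 (2 ^ (n + 1))).card : ℝ) = 2 ^ n := by rw [card_Kp]; norm_num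

theorem Sec.aD_two (hM : IsPModular 2 M) (hz : Sec 2 z) (hn : z ^ 2 ^ (n + 1) = 1) (χ : IrrCharacter G) :
    ∃ m : ℤ, aD 2 n z b χ = m ∧ red M (cF 2 z b χ.1 χ.1) = m := by
  obtain ⟨m, h1, h2⟩ := GV.avg_two hM (LS_symm hM) (LS_int hM) (sb_mem_GV hz.center hn b (H3.irr_gen χ.2))
  refine ⟨m, ?_, by rw [pow_one z] at h2; exact h2⟩
  rw [aD, avg, card_Kp_two, div_eq_iff (by positivity)]
  refine Complex.ofReal_injective ?_
  push_cast; simp only [norm_cF_self]; rw [mul_comm, ← h1]; rfl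

theorem Sec.aD_two_odd (hM : IsPModular 2 M) (hz : Sec 2 z) (hn : z ^ 2 ^ (n + 1) = 1) (hind : IsInducedBlock M H b B)
    (hχ : χ ∈ B) (h : blockHeight 2 B χ.1 = 0) : ∃ m : ℕ, aD 2 n z b χ = 2 * m + 1 := by
  obtain ⟨m, h1, h2⟩ := hz.aD_two (b := b) hM hn χ
  have h3 := (hz.red_cF hM hind hχ hχ).2 ⟨h, h⟩
  rw [h2, Ne, intCast_eq_zero_iff hM] at h3
  have h4 : 0 ≤ m := by exact_mod_cast h1 ▸ aD_nonneg z b χ
  refine ⟨(m / 2).toNat, h1.trans ?_⟩
  exact_mod_cast (by push_cast at h3; omega : m = 2 * (m / 2).toNat + 1)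

theorem Sec.le_aD_two (hM : IsPModular 2 M) (hz : Sec 2 z) (hn : z ^ 2 ^ (n + 1) = 1) (hind : IsInducedBlock M H b B)
    (hd : blockDefect 2 b = blockDefect 2 B) (hψ : ψ ∈ B) (h : blockHeight 2 B ψ.1 ≠ 0) :
    2 * 2 ^ blockHeight 2 B ψ.1 ≤ aD 2 n z b ψ := by
  set j := blockHeight 2 B ψ.1
  set q : ℂ := ((2 ^ blockDefect 2 b : ℕ) : ℂ) with hq
  obtain ⟨y, h1, h2⟩ := GV.exists_dvdL hM (LS_int hM) (sb_mem_GV hz.center hn b (H3.irr_gen ψ.2)) (j := j) fun a ha => by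
    rw [pow_one]; exact hz.v_inner_LS hM hind hd hψ ha
  have h0 : ((2 : ℕ) : ℂ) ^ j ≠ 0 := pow_ne_zero _ (Nat.cast_ne_zero.2 two_ne_zero)
  obtain ⟨m, h3, h4⟩ := GV.avg_two hM (Λ := dvdL q _ (LS 2 b)) (q := q / (2 : ℕ) ^ j)
    (fun a ha b hb => LS_symm hM a ha.1 b hb.1)
    (fun a ha b hb => (ha.2 b hb.1).imp fun m hm => by rw [div_mul_eq_mul_div, hm, mul_div_cancel_left₀ _ h0]) h1
  have h5 : aD 2 n z b ψ = 2 ^ j * m := by
    rw [aD, avg, card_Kp_two, div_eq_iff (by positivity)]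
    refine Complex.ofReal_injective ?_
    push_cast; simp only [norm_cF_self]
    rw [mul_assoc, mul_comm (m : ℂ), ← h3, mul_sum]
    exact sum_congr rfl fun k hk => by rw [← h2 k (mem_Kp.1 hk).2, cF, ← hq]; push_cast; field_simp
  rw [← h2 1 Nat.prime_two.not_dvd_one, pow_one, div_mul_eq_mul_div, red_eq_zero_of_v_lt_one (by
    rw [map_div₀, map_pow, div_lt_one₀ (pow_pos (v_p_pos hM) _)]; exact (hz.v_cF hM hind hd hψ hψ).2 h), eq_comm,
    intCast_eq_zero_iff hM] at h4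
  have h6 : 0 < aD 2 n z b ψ := div_pos (sum_pos' (fun _ _ => norm_nonneg _) ⟨1, one_mem_Kp, norm_pos_iff.2
    ((hz.pow Nat.prime_two.not_dvd_one).cF_self_ne_zero hM hind hd hψ)⟩) card_Kp_pos
  rw [h5] at h6 ⊢
  have h7 : 0 < m := by exact_mod_cast pos_of_mul_pos_right h6 (by positivity)
  rw [mul_comm]
  exact mul_le_mul_of_nonneg_left (by exact_mod_cast Int.le_of_dvd h7 h4) (by positivity)

theorem LS_pos (hM : IsPModular p M) {a : H → ℂ} (ha : a ∈ LS p b) (h : a ≠ 0) : ∃ m : ℕ, 0 < m ∧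
    ((p ^ blockDefect p b : ℕ) : ℂ) * classInner a a = m ∧ (classInner a a).re = m / p ^ blockDefect p b := by
  obtain ⟨m, hm⟩ := LS_int hM a ha a ha
  have h1 : m ≠ 0 := by rintro rfl; exact mul_ne_zero (q_ne_zero _) (fun e => h (H3.inner_self_eq_zero e)) (by simpa using hm)
  have h2 := congrArg Complex.re hm
  rw [← Complex.ofReal_natCast, Complex.re_ofReal_mul, Complex.intCast_re] at h2
  have h3 : 0 ≤ m := by exact_mod_cast h2 ▸ mul_nonneg (Nat.cast_nonneg _) (H3.inner_self_re_nonneg a)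
  lift m to ℕ using h3
  have := hp.out.pos
  exact ⟨m, by omega, by simpa using hm, by rw [eq_div_iff (by positivity), mul_comm]; simpa using h2⟩

/-- Brauer–Olsson: `k(B) ≤ p ^ d` for a major subsection with `l(b) ≤ 2` -/
theorem Sec.card_le_of_rank_le_two (hM : IsPModular p M) (hz : Sec p z) (hind : IsInducedBlock M H b B)
    (hd : blockDefect p b = blockDefect p B) (hl : blockRank p b ≤ 2) : Nat.card B ≤ p ^ blockDefect p B := by
  classical
  cases nonempty_fintype G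
  obtain ⟨n, hn⟩ := hz.exists_pow
  have p2 : (2 : ℝ) ≤ p := by exact_mod_cast hp.out.two_le
  have l2 : (blockRank p b : ℝ) ≤ 2 := by exact_mod_cast hl
  have N0 := (pow_pos hp.out.pos (n + 1)).ne'
  rw [← card_fs, ← hd, ← Nat.cast_le (α := ℝ), Nat.cast_pow]
  have hs := hz.sum_aD (n := n) hM hind
  set Q : ℝ := p ^ blockDefect p b with hQ
  have Q0 : 0 < Q := by positivity
  set q : ℂ := ((p ^ blockDefect p b : ℕ) : ℂ) with hq
  by_cases h : ∃ φ ∈ LS p b, q * classInner φ φ = 1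
  swap
  · have := sum_le_sum fun χ (hχ : χ ∈ fs B) => hz.le_aD hM hn (hz.sb_ne_zero hM hind hd (mem_fs.1 hχ)) (m := 2 / Q)
      fun a ha h0 => by
        obtain ⟨m, h1, h2, h3⟩ := LS_pos hM ha h0
        have : m ≠ 1 := fun e => h ⟨a, ha, by rw [h2, e, Nat.cast_one]⟩
        rw [h3]; gcongr; exact_mod_cast (by omega : 2 ≤ m)
    rw [hs, sum_const, nsmul_eq_mul, ← hQ, mul_div_cancel₀ _ Q0.ne'] at this
    nlinarith
  obtain ⟨φ, h1, h2⟩ := h
  have hx := fun χ : IrrCharacter G => sb_mem_GV (p := p) hz.center hn b (H3.irr_gen χ.2)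
  obtain ⟨d, hd'⟩ : ∃ d : IrrCharacter G → ℕ → ℂ, ∀ χ k, d χ k = q * classInner (sb p (z ^ k) b χ.1) φ := ⟨_, fun _ _ => rfl⟩
  have d1 : ∀ χ, d χ ∈ SF (p ^ (n + 1)) := fun χ => funext (hd' χ) ▸ GV.inner_mem N0 (LS_int hM) (hx χ) (GV.const h1)
  have cq : conj q = q := map_natCast _ _
  have d2 : ∀ k, ¬ p ∣ k → ∑ χ ∈ fs B, ‖d χ k‖ ^ 2 = Q := fun k hk => Complex.ofReal_injective (by
    have := (hz.pow hk).gram hM hind (LS_le_RS h1) (LS_le_RS h1)
    push_cast [hQ]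
    rw [← Nat.cast_pow, ← hq, ← mul_one q, ← h2, ← this, mul_sum, mul_sum]
    exact sum_congr rfl fun χ _ => by rw [← Complex.mul_conj', hd', map_mul, cq, H3.inner_conj_symm]; ring)
  have d3 : ∀ j, ∀ S ⊆ fs B, (∀ χ ∈ S, d χ 1 ≠ 0 ∧ j ≤ blockHeight p B χ.1) → S.card * (p : ℝ) ^ (j * 2) ≤ Q :=
    fun j S hS h => by
      have := sum_le_sum fun χ (hχ : χ ∈ S) => (le_div_iff₀' card_Kp_pos).2 (SF.le_sum_norm hM (d1 χ) (h χ hχ).1 (j := j)
        (fun k hk => (hd' χ k ▸ (hz.pow hk).v_inner_LS hM hind hd (mem_fs.1 (hS hχ)) h1).trans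
          ((v_pow_le_iff hM).2 (h χ hχ).2)) 2)
      rw [sum_const, nsmul_eq_mul] at this
      exact this.trans ((sum_le_sum_of_subset_of_nonneg hS fun _ _ _ => by positivity).trans_eq
        ((avg_sum _ _).trans (avg_eq d2)))
  by_cases h3 : ∀ χ ∈ fs B, d χ 1 ≠ 0
  · simpa using d3 0 _ subset_rfl fun χ hχ => ⟨h3 χ hχ, Nat.zero_le _⟩
  push Not at h3
  obtain ⟨ψ, h3, h4⟩ := h3
  let L : (H → ℂ) →ₗ[ℂ] H → ℂ :=
    { toFun := fun a => a - (q * classInner a φ) • φ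
      map_add' := fun a b => by rw [H3.inner_add_left, mul_add, add_smul]; abel
      map_smul' := fun c a => by rw [H3.inner_smul_left, mul_left_comm, smul_sub, smul_smul]; rfl }
  have l1 : ∀ a a', q * classInner (L a) (L a') = q * classInner a a' - q * classInner a φ * conj (q * classInner a' φ) :=
    fun a a' => by
      simp only [L, LinearMap.coe_mk, AddHom.coe_mk, H3.inner_sub_left, H3.inner_sub_right, H3.inner_smul_left,
        H3.inner_smul_right, map_mul, cq, H3.inner_conj_symm]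
      linear_combination q ^ 2 * classInner a φ * classInner φ a' * h2
  set Λ := LS p b ⊓ (AddMonoidHom.mk' (fun a => classInner a φ) fun a b => H3.inner_add_left a b φ).ker
  have l3 : ∀ a ∈ LS p b, L a ∈ Λ := fun a ha => by
    obtain ⟨m, hm⟩ := LS_int hM a ha φ h1
    refine ⟨(LS p b).sub_mem ha (by rw [hm, Int.cast_smul_eq_zsmul]; exact zsmul_mem h1 m), ?_⟩
    change classInner (a - (q * classInner a φ) • φ) φ = 0
    rw [H3.inner_sub_left, H3.inner_smul_left]; linear_combination -classInner a φ * h2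
  have l4 : ∀ a ∈ Λ, a ≠ 0 → p / Q ≤ (classInner a a).re := fun a ha h0 => by
    obtain ⟨m, e1, e2, e3⟩ := LS_pos hM ha.1 h0
    have e4 := (LS_red hM hind.1 h1 h1).1 (by rw [h2, red_one]; exact one_ne_zero)
    have e5 := mt (LS_red hM hind.1 ha.1 h1).2 (by rw [show classInner a φ = 0 from ha.2]; simp)
    have e6 := mt (LS_red hM hind.1 ha.1 ha.1).1 fun e => e5 ⟨e.1, e4.1⟩
    rw [e2, red_natCast, not_not, natCast_eq_zero_iff hM] at e6
    rw [e3]; gcongr; exact Nat.le_of_dvd e1 e6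
  set R := (fs B).filter fun χ => L (sb p z b χ.1) ≠ 0
  have r1 : R.card * (p : ℝ) ≤ Q := by
    have e1 := sum_le_sum fun χ (hχ : χ ∈ R) => (le_div_iff₀' card_Kp_pos).2 (GV.bound (Λ := Λ)
      (fun a ha b hb => LS_symm hM a ha.1 b hb.1) l4 (GV.map L l3 (hx χ)) (by rw [pow_one]; exact (mem_filter.1 hχ).2))
    have e2 : ∀ k, ¬ p ∣ k → ∑ χ ∈ fs B, (classInner (L (sb p (z ^ k) b χ.1)) (L (sb p (z ^ k) b χ.1))).re =
        blockRank p b - 1 := fun k hk => by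
      refine mul_left_cancel₀ Q0.ne' ?_
      rw [mul_sub, mul_one, ← (hz.pow hk).sum_cF hM hind, mul_sum, ← d2 k hk, ← sum_sub_distrib]
      refine sum_congr rfl fun χ hχ => ?_
      have := congrArg Complex.re (l1 (sb p (z ^ k) b χ.1) (sb p (z ^ k) b χ.1))
      rw [← hd', Complex.mul_conj', ← cF, ← norm_cF_self, ← Complex.ofReal_pow, ← Complex.ofReal_sub, Complex.ofReal_re,
        hq, ← Complex.ofReal_natCast, Complex.re_ofReal_mul, Nat.cast_pow] at this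
      rw [← this, d2 k hk]
    have e3 := e1.trans ((sum_le_sum_of_subset_of_nonneg (filter_subset _ _) fun _ _ _ => div_nonneg
      (sum_nonneg fun _ _ => H3.inner_self_re_nonneg _) card_Kp_pos.le).trans_eq ((avg_sum _ _).trans (avg_eq e2)))
    rw [sum_const, nsmul_eq_mul, ← mul_div_assoc, div_le_iff₀ Q0] at e3
    nlinarith
  have r2 := d3 1 ((fs B).filter fun χ => ¬ L (sb p z b χ.1) ≠ 0) (filter_subset _ _) fun χ hχ => by
    obtain ⟨e1, e2⟩ := mem_filter.1 hχ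
    rw [not_not] at e2
    refine ⟨fun e => hz.sb_ne_zero hM hind hd (mem_fs.1 e1) ?_, Nat.pos_of_ne_zero fun e =>
      hz.cF_ne_zero hM hind hd (mem_fs.1 e1) (mem_fs.1 h3) e ?_⟩
    · rw [hd', pow_one] at e; simpa [L, e] using e2
    · rw [hd', pow_one] at h4
      simpa only [e2, h4, H3.inner_zero_left, mul_zero, map_zero, sub_zero, cF] using (l1 (sb p z b χ.1) (sb p z b ψ.1)).symm
  rw [← card_filter_add_card_filter_not (s := fs B) fun χ => L (sb p z b χ.1) ≠ 0, Nat.cast_add]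
  have r3 : (R.card : ℝ) * 2 ≤ Q := (mul_le_mul_of_nonneg_left p2 (Nat.cast_nonneg _)).trans r1
  have r4 := (mul_le_mul_of_nonneg_left (show (2 : ℝ) ≤ p ^ (1 * 2) by rw [one_mul]; nlinarith) (Nat.cast_nonneg _)).trans r2
  linarith

end H4
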