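import Cfsg.Agent.H9.FF2
import Cfsg.Agent.H5.Dih

set_option autoImplicit false

namespace H4.Invl
open Cfsg Subgroup

variable {G : Type*} [Group G]

theorem p_part [Finite G] (p : ℕ) [hp : Fact p.Prime] (x : G) : ∃ m, ¬ p ∣ m ∧ ∃ k, orderOf (x ^ m) = p ^ k := by
  obtain ⟨k, m, hm, e⟩ := Nat.exists_eq_pow_mul_and_not_dvd (orderOf_pos x).ne' p hp.out.ne_one
  refine ⟨m, hm, ?_⟩
  have : orderOf (x ^ m) ∣ p ^ k := orderOf_dvd_of_pow_eq_one (by rw [← pow_mul, mul_comm, ← e, pow_orderOf_eq_one])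
  obtain ⟨j, -, hj⟩ := (Nat.dvd_prime_pow hp.out).1 this
  exact ⟨j, hj⟩

theorem sr_pow_odd {n : ℕ} (i : ZMod n) {m : ℕ} (hm : ¬ 2 ∣ m) : (DihedralGroup.sr i) ^ m = DihedralGroup.sr i := by
  obtain ⟨k, rfl⟩ : Odd m := Nat.odd_iff.2 (by omega)
  rw [pow_succ, pow_mul, pow_two, DihedralGroup.sr_mul_self, one_pow, one_mul]

/-- the rotation subgroup -/
def rot (n : ℕ) : Subgroup (DihedralGroup n) where
  carrier := {g | ∃ i, g = DihedralGroup.r i}
  mul_mem' := by rintro _ _ ⟨i, rfl⟩ ⟨j, rfl⟩; exact ⟨_, DihedralGroup.r_mul_r _ _⟩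
  one_mem' := ⟨0, rfl⟩
  inv_mem' := by rintro _ ⟨i, rfl⟩; exact ⟨_, DihedralGroup.inv_r _⟩

instance (n : ℕ) : (rot n).Normal := ⟨by
  rintro _ ⟨i, rfl⟩ (j | j)
  · exact ⟨_, by simp; rfl⟩
  · exact ⟨_, by simp; rfl⟩⟩

theorem frat [Finite G] {p : ℕ} [hp : Fact p.Prime] (h2 : p ≠ 2) (f : G →* DihedralGroup p) (hf : Function.Surjective f) :
    ∃ (x : G) (P : Subgroup G), (∃ k, orderOf x = 2 ^ k) ∧ IsPGroup p P ∧ x ∈ normalizer (P : Set G) ∧ x ∉ centralizer (P : Set G) := by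
  obtain ⟨y0, hy⟩ := hf (.r 1)
  obtain ⟨m, hm, k, hk⟩ := p_part p y0
  have h1 : IsPGroup p (zpowers (y0 ^ m)) := IsPGroup.of_card (by rw [Nat.card_zpowers, hk])
  obtain ⟨P, hP⟩ := h1.exists_le_sylow
  have hle : (P : Subgroup G) ≤ (rot p).comap f := by
    intro z hz
    obtain ⟨j, hj⟩ := P.2 ⟨z, hz⟩
    have h3 : f z ^ p ^ j = 1 := by rw [← map_pow, show z ^ p ^ j = 1 from congrArg Subtype.val hj, map_one]
    rw [mem_comap]
    rcases e : f z with i | i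
    · exact ⟨i, rfl⟩
    · rw [e, sr_pow_odd i fun h => h2 ((Nat.prime_dvd_prime_iff_eq Nat.prime_two hp.out).1
        (Nat.prime_two.dvd_of_dvd_pow h)).symm] at h3
      exact absurd h3 (by rw [DihedralGroup.one_def]; exact fun h => by cases h)
  have h4 := Sylow.normalizer_sup_eq_top' P hle
  obtain ⟨x, hx, hx'⟩ : ∃ x ∈ normalizer ((P : Subgroup G) : Set G), x ∉ (rot p).comap f := by
    by_contra hc
    push Not at hc
    rw [sup_eq_right.2 (show _ ≤ _ from hc)] at h4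
    obtain ⟨t, ht⟩ := hf (.sr 0)
    obtain ⟨i, hi⟩ : f t ∈ rot p := (h4.ge (mem_top t) :)
    rw [ht] at hi
    cases hi
  obtain ⟨l, hl, hl'⟩ := p_part 2 x
  refine ⟨x ^ l, P, hl', P.2, pow_mem hx _, fun hc => ?_⟩
  have h5 := congrArg f (hc _ (hP (mem_zpowers _)))
  rcases e : f x with i | i
  · exact hx' ⟨i, e⟩
  · rw [map_mul, map_mul, map_pow, map_pow, hy, e, sr_pow_odd i hl, DihedralGroup.r_one_pow] at h5
    simp only [DihedralGroup.r_mul_sr, DihedralGroup.sr_mul_r, DihedralGroup.sr.injEq] at h5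
    have h6 : ((2 * m : ℕ) : ZMod p) = 0 := by push_cast; linear_combination -h5
    rw [ZMod.natCast_eq_zero_iff, hp.out.dvd_mul] at h6
    exact h6.elim (fun h => h2 ((Nat.prime_dvd_prime_iff_eq hp.out Nat.prime_two).1 h)) hm

theorem inv_of [Finite G] {p : ℕ} [Fact p.Prime] {x : G} {P : Subgroup G} (hx : ∃ k, orderOf x = 2 ^ k) (hP : IsPGroup p P)
    (h1 : x ∈ normalizer (P : Set G)) (h2 : x ∉ centralizer (P : Set G)) :
    ∃ x y : G, (∃ k : ℕ, orderOf x = 2 ^ k) ∧ (∃ k : ℕ, orderOf y = p ^ k) ∧ y ≠ 1 ∧ x * y * x⁻¹ = y⁻¹ := by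
  classical
  obtain ⟨k, hk⟩ := hx
  have ex : ∃ j, x ^ 2 ^ j ∈ centralizer (P : Set G) := ⟨k, by rw [← hk, pow_orderOf_eq_one]; exact one_mem _⟩
  have h3 := Nat.find_spec ex
  rcases e : Nat.find ex with _ | j
  · rw [e] at h3; exact absurd (by simpa using h3) h2
  have h4 := Nat.find_min ex (show j < Nat.find ex by omega)
  rw [e, pow_succ, pow_mul] at h3
  set s := x ^ 2 ^ j with hs
  have hsn : s ∈ normalizer (P : Set G) := pow_mem h1 _
  rw [mem_centralizer_iff] at h4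
  push Not at h4
  obtain ⟨z, hz, hz'⟩ := h4
  have hm : z⁻¹ * (s * z * s⁻¹) ∈ P := mul_mem (inv_mem hz) ((mem_normalizer_iff.1 hsn z).1 hz)
  refine ⟨s, z⁻¹ * (s * z * s⁻¹), ?_, ?_, fun h => hz' ?_, ?_⟩
  · have : orderOf s ∣ 2 ^ k := hk ▸ orderOf_pow_dvd _
    obtain ⟨i, -, hi⟩ := (Nat.dvd_prime_pow Nat.prime_two).1 this
    exact ⟨i, hi⟩
  · obtain ⟨i, hi⟩ := IsPGroup.iff_orderOf.1 hP ⟨_, hm⟩
    exact ⟨i, by rw [← hi, ← Subgroup.orderOf_coe]⟩
  · rw [inv_mul_eq_one, eq_mul_inv_iff_mul_eq] at h; exact h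
  · have := h3 z hz
    rw [pow_two] at this
    calc _ = s * z⁻¹ * s⁻¹ * (s * s * z) * s⁻¹ * s⁻¹ := by group
      _ = _ := by rw [← this]; group

theorem ord_p {p : ℕ} [hp : Fact p.Prime] {x y : G} (hy : ∃ k : ℕ, orderOf y = p ^ k) (h1 : y ≠ 1) (h : x * y * x⁻¹ = y⁻¹) :
    ∃ y : G, orderOf y = p ∧ x * y * x⁻¹ = y⁻¹ := by
  obtain ⟨k, hk⟩ := hy
  rcases k with _ | k
  · exact absurd (orderOf_eq_one_iff.1 (by simpa using hk)) h1
  refine ⟨y ^ p ^ k, ?_, by rw [← conj_pow, h, inv_pow]⟩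
  rw [orderOf_pow_of_dvd (pow_pos hp.out.pos _).ne' (hk ▸ pow_dvd_pow _ k.le_succ), hk, pow_succ,
    Nat.mul_div_cancel_left _ (pow_pos hp.out.pos _)]

theorem sect_of [Finite G] {p : ℕ} [hp : Fact p.Prime] (h2 : p ≠ 2) {x y : G} (hx : ∃ k, orderOf x = 2 ^ k)
    (hy : orderOf y = p) (h : x * y * x⁻¹ = y⁻¹) : H9.Sect (DihedralGroup p) (⊤ : Subgroup G) := by
  obtain ⟨k, hk⟩ := hx
  have hc : x ^ 2 * y = y * x ^ 2 := by
    have h' : x * y⁻¹ * x⁻¹ = y := by rw [← conj_inv, h, inv_inv]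
    calc _ = x * (x * y * x⁻¹) * x⁻¹ * x ^ 2 := by rw [pow_two]; group
      _ = _ := by rw [h, h']
  let C := centralizer ({x ^ 2} : Set G)
  let x' : C := ⟨x, mem_centralizer_singleton_iff.2 (by group)⟩
  let y' : C := ⟨y, mem_centralizer_singleton_iff.2 hc.symm⟩
  have hcen : zpowers (x' ^ 2) ≤ center C := zpowers_le.2 (mem_center_iff.2 fun g =>
    Subtype.ext (mem_centralizer_singleton_iff.1 g.2))
  haveI : (zpowers (x' ^ 2)).Normal := ⟨fun n hn g => by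
    rw [mem_center_iff.1 (hcen hn) g, mul_inv_cancel_right]; exact hn⟩
  let π := QuotientGroup.mk' (zpowers (x' ^ 2))
  have ho : orderOf (π y') = p := by
    have h3 : orderOf (π y') ∣ p := (orderOf_map_dvd π y').trans (by rw [← Subgroup.orderOf_coe]; exact hy.dvd)
    refine ((Nat.dvd_prime hp.out).1 h3).resolve_left fun h4 => ?_
    have h5 : y' ∈ zpowers (x' ^ 2) := (QuotientGroup.eq_one_iff _).1 (orderOf_eq_one_iff.1 h4)
    have h6 := (orderOf_dvd_of_mem_zpowers h5).trans (orderOf_pow_dvd _)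
    rw [← Subgroup.orderOf_coe, ← Subgroup.orderOf_coe x'] at h6
    change orderOf y ∣ orderOf x at h6
    rw [hy, hk] at h6
    exact h2 ((Nat.prime_dvd_prime_iff_eq hp.out Nat.prime_two).1 (hp.out.dvd_of_dvd_pow h6))
  have hs : π x' * π x' = 1 := by
    rw [← map_mul, ← pow_two]; exact (QuotientGroup.eq_one_iff _).2 (mem_zpowers _)
  have hi : π x' * π y' * (π x')⁻¹ = (π y')⁻¹ := by
    rw [← map_inv, ← map_inv, ← map_mul, ← map_mul]; exact congrArg π (Subtype.ext h)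
  have hn : π x' ∉ zpowers (π y') := by
    rintro ⟨i, e⟩
    simp only at e
    rw [← e, show π y' ^ i * π y' * (π y' ^ i)⁻¹ = π y' by group, eq_inv_iff_mul_eq_one, ← pow_two] at hi
    have := orderOf_dvd_of_pow_eq_one hi
    rw [ho] at this
    exact h2 ((Nat.prime_dvd_prime_iff_eq hp.out Nat.prime_two).1 this)
  have inj := H5.dihHom_injective p (π y') (π x') ho hs hi hn
  have e := MonoidHom.ofInjective inj
  have s1 : H9.Sect (DihedralGroup p) ((⊤ : Subgroup C).map π) :=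
    ⟨_, by rw [← MonoidHom.range_eq_map, MonoidHom.range_eq_top.2 (QuotientGroup.mk'_surjective _)]; exact le_top,
      e.symm.toMonoidHom, e.symm.surjective⟩
  exact (H9.Sect.of_coe (s1.of_map π)).mono le_top

theorem main [Finite G] {p : ℕ} [hp : Fact p.Prime] (h2 : p ≠ 2) (h : H9.Sect (DihedralGroup p) (⊤ : Subgroup G)) :
    ∃ (x : G) (P : Subgroup G), (∃ k, orderOf x = 2 ^ k) ∧ IsPGroup p P ∧ x ∈ normalizer (P : Set G) ∧ x ∉ centralizer (P : Set G) := by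
  obtain ⟨L, -, f, hf⟩ := h
  obtain ⟨x, P, ⟨k, hk⟩, h3, h4, h5⟩ := frat h2 f hf
  refine ⟨x, P.map L.subtype, ⟨k, by rw [Subgroup.orderOf_coe, hk]⟩, h3.map _,
    le_normalizer_map L.subtype ⟨x, h4, rfl⟩, fun hc => h5 fun z hz => Subtype.ext (hc _ ⟨z, hz, rfl⟩)⟩

universe u

theorem s4 (n : ℕ) : ∀ (G : Type u) [Group G] [Finite G], Nat.card G = n → ∀ (T : Subgroup G) [T.Normal], IsPGroup 2 T →
    ∀ (x y : G) (k : ℕ), x ^ 2 ^ k = 1 → (∀ t ∈ T, y * (y * (y * t * y⁻¹) * y⁻¹) * y⁻¹ = t) → (∃ t ∈ T, y * t * y⁻¹ ≠ t) →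
    (∀ t ∈ T, x * (y * t * y⁻¹) * x⁻¹ = y⁻¹ * (x * t * x⁻¹) * y) → H9.Sect (Equiv.Perm (Fin 4)) (⊤ : Subgroup G) := by
  induction n using Nat.strong_induction_on with
  | _ n ih =>
  intro G _ _ hn T hT h2 x y k hk h3 h4 h5
  let Z : Subgroup G :=
    { carrier := {z | z ∈ T ∧ z * z = 1 ∧ ∀ t ∈ T, z * t = t * z}
      mul_mem' := fun {a b} ha hb => ⟨mul_mem ha.1 hb.1, by
        rw [mul_assoc, ← mul_assoc b, ← ha.2.2 b hb.1, mul_assoc, hb.2.1, mul_one, ha.2.1], fun t ht => by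
        rw [mul_assoc, hb.2.2 t ht, ← mul_assoc, ha.2.2 t ht, mul_assoc]⟩
      one_mem' := ⟨one_mem _, one_mul _, fun t _ => by simp⟩
      inv_mem' := fun {a} ha => by rwa [inv_eq_of_mul_eq_one_left ha.2.1] }
  haveI hZ : Z.Normal := ⟨fun z hz g => ⟨hT.conj_mem _ hz.1 g, by
    rw [conj_mul, hz.2.1]; simp, fun t ht => by
    have := hz.2.2 _ (hT.conj_mem _ ht g⁻¹)
    calc _ = g * (z * (g⁻¹ * t * g⁻¹⁻¹)) * g⁻¹ := by group
      _ = _ := by rw [this]; group⟩⟩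
  by_cases hc : ∃ v ∈ Z, y * v * y⁻¹ ≠ v
  · obtain ⟨v, hv, hv'⟩ := hc
    let S : Set G := {w | w ∈ Z ∧ w * (y * w * y⁻¹) = y⁻¹ * w * y}
    have cm : ∀ a ∈ Z, ∀ b ∈ Z, a * b = b * a := fun a ha b hb => ha.2.2 b hb.1
    have c1 : ∀ g, ∀ a ∈ Z, g * a * g⁻¹ ∈ Z := fun g a ha => hZ.conj_mem a ha g
    have c2 : ∀ a ∈ Z, y⁻¹ * a * y ∈ Z := fun a ha => by simpa using hZ.conj_mem a ha y⁻¹
    have y2 : ∀ a ∈ Z, y * (y * a * y⁻¹) * y⁻¹ = y⁻¹ * a * y := fun a ha => by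
      conv_rhs => rw [← h3 a ha.1]
      group
    have Smul : ∀ a ∈ S, ∀ b ∈ S, a * b ∈ S := fun a ha b hb => ⟨mul_mem ha.1 hb.1, by
      calc a * b * (y * (a * b) * y⁻¹) = a * (b * (y * a * y⁻¹)) * (y * b * y⁻¹) := by group
        _ = a * (y * a * y⁻¹) * (b * (y * b * y⁻¹)) := by rw [cm b hb.1 _ (c1 y a ha.1)]; group
        _ = _ := by rw [ha.2, hb.2]; group⟩
    have Sx : ∀ a ∈ S, x * a * x⁻¹ ∈ S := fun a ha => ⟨c1 x a ha.1, by
      have e1 := h5 a ha.1.1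
      have e2 := h5 _ (c2 a ha.1).1
      rw [show y * (y⁻¹ * a * y) * y⁻¹ = a by group] at e2
      have e3 : y * (x * a * x⁻¹) * y⁻¹ = x * (y⁻¹ * a * y) * x⁻¹ := by rw [e2]; group
      rw [e3, ← e1, ← ha.2, conj_mul, ← mul_assoc a, ha.1.2.1, one_mul]⟩
    have Sxn : ∀ i : ℕ, ∀ a ∈ S, x ^ i * a * (x ^ i)⁻¹ ∈ S := fun i => by
      induction i with
      | zero => simp
      | succ i ih =>
        intro a ha
        have := Sx _ (ih a ha)
        rwa [show x * (x ^ i * a * (x ^ i)⁻¹) * x⁻¹ = x ^ (i + 1) * a * (x ^ (i + 1))⁻¹ by group] at this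
    have fix : ∀ j : ℕ, (∃ w ∈ S, w ≠ 1 ∧ x ^ 2 ^ j * w * (x ^ 2 ^ j)⁻¹ = w) → ∃ w ∈ S, w ≠ 1 ∧ x * w * x⁻¹ = w := by
      intro j
      induction j with
      | zero => simp
      | succ j ih =>
        rintro ⟨w, hw, w1, e⟩
        apply ih
        by_cases h : x ^ 2 ^ j * w * (x ^ 2 ^ j)⁻¹ = w
        · exact ⟨w, hw, w1, h⟩
        refine ⟨w * (x ^ 2 ^ j * w * (x ^ 2 ^ j)⁻¹), Smul _ hw _ (Sxn _ _ hw), fun h' => h ?_, ?_⟩
        · rw [← hw.1.2.1] at h'; exact mul_left_cancel h'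
        · rw [pow_succ, pow_mul, pow_two] at e
          rw [← conj_mul, cm w hw.1 _ (c1 _ _ hw.1)]
          congr 1
          conv_rhs => rw [← e]
          group
    obtain ⟨w, hw, w1, e⟩ := fix k ⟨v * (y * v * y⁻¹), ⟨mul_mem hv (c1 y v hv), by
      rw [← conj_mul, y2 v hv, mul_assoc v, ← mul_assoc (y * v * y⁻¹), (c1 y v hv).2.1, one_mul]
      rw [cm v hv _ (c2 v hv)]
      group⟩, fun h => hv' (by rw [← hv.2.1] at h; exact mul_left_cancel h), by rw [hk]; simp⟩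
    have u1 : y * w * y⁻¹ ≠ w := fun h => w1 (by
      have := hw.2
      rw [h, hw.1.2.1] at this
      calc w = y * (y⁻¹ * w * y) * y⁻¹ := by group
        _ = 1 := by rw [← this]; group)
    have e1 := h5 w hw.1.1
    rw [e] at e1
    have e2 := h5 _ (c2 w hw.1).1
    rw [show y * (y⁻¹ * w * y) * y⁻¹ = w by group, e] at e2
    have := H9.nat2_of_four (V := ⊤) (a := x) (b := y * x * y⁻¹) (u := y * w * y⁻¹) (d := w) trivial trivial
      (c1 y w hw.1).2.1 hw.1.2.1 (cm _ hw.1 _ (c1 y w hw.1)) (by simpa using w1) w1 u1 (by rw [e1, hw.2]) e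
      (by
        rw [← cm _ hw.1 _ (c1 y w hw.1), hw.2, ← y2 w hw.1]
        conv_rhs => rw [e2]
        group)
      (by conv_rhs => rw [← e]
          group)
    exact (H9.sect_s4_iff.2 this.sect_two).mono le_top
  · push Not at hc
    obtain ⟨t, ht, ht'⟩ := h4
    have hZ0 : Z ≠ ⊥ := by
      haveI : Nontrivial T := ⟨⟨⟨t, ht⟩, 1, fun h => ht' (by rw [show t = 1 from congrArg Subtype.val h]; simp)⟩⟩
      haveI := h2.center_nontrivial
      obtain ⟨m, hm, e⟩ := (h2.to_subgroup (center T)).nontrivial_iff_card.1 inferInstance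
      obtain ⟨z, hz⟩ := exists_prime_orderOf_dvd_card' (G := center T) 2 (e ▸ dvd_pow_self 2 hm.ne')
      intro h
      have : ((z : T) : G) ∈ Z := ⟨z.1.2, by
        rw [← Subgroup.coe_mul, ← Subgroup.coe_mul, ← pow_two, ← hz, pow_orderOf_eq_one]; rfl, fun s hs =>
        (congrArg Subtype.val (mem_center_iff.1 z.2 ⟨s, hs⟩)).symm⟩
      rw [h, mem_bot] at this
      rw [show z = 1 from Subtype.ext (Subtype.ext this), orderOf_one] at hz
      omega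
    let π := QuotientGroup.mk' Z
    have hs : Function.Surjective π := QuotientGroup.mk'_surjective _
    haveI : (T.map π).Normal := hT.map π hs
    have := ih (Nat.card (G ⧸ Z)) (by
      rw [← hn, card_eq_card_quotient_mul_card_subgroup Z]
      exact lt_mul_of_one_lt_right Nat.card_pos (Z.one_lt_card_iff_ne_bot.2 hZ0)) (G ⧸ Z) rfl (T.map π) (h2.map π)
      (π x) (π y) k (by rw [← map_pow, hk, map_one])
      (by rintro _ ⟨s, hs, rfl⟩; simpa using congrArg π (h3 s hs))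
      ⟨π t, ⟨t, ht, rfl⟩, fun h => ht' (by
        rw [← map_inv, ← map_mul, ← map_mul] at h
        obtain ⟨z, hz, e⟩ := (QuotientGroup.mk'_eq_mk' Z).1 h.symm
        have e3 := h3 t ht
        have e4 : y * (y * t * y⁻¹) * y⁻¹ = t := by
          rw [← e, ← conj_mul, ← e, hc z hz, mul_assoc, hz.2.1, mul_one]
        rwa [e4] at e3)⟩
      (by rintro _ ⟨s, hs, rfl⟩; simpa using congrArg π (h5 s hs))
    exact H9.Sect.of_map π (this.mono (by rw [← MonoidHom.range_eq_map, MonoidHom.range_eq_top.2 hs]))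

end H4.Invl
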