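import Cfsg.Agent.H4.Cover2
import Cfsg.Agent.H4.Second
import Cfsg.Agent.H9.Subn
import Cfsg.Agent.H1.Product
import Cfsg.Agent.H1.Coprime
import Cfsg.Agent.H1.Fitting
import Cfsg.Agent.H3.Galois
import Cfsg.Agent.H3.Mono

/-!
# Kazarin's theorem: an element with a class of prime power size lies in the solvable radical
`kazarin`, `comm_mem_pCore`, `mem_principal_of_ker`.
-/

set_option autoImplicit false
set_option linter.unusedSectionVars false

namespace H4
open MonoidAlgebra Cfsg H1 Subgroup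
open scoped Pointwise ComplexConjugate

universe u
variable {G : Type u} [Group G] [Finite G] {M : Ideal AlgInt} {p : ℕ} [hp : Fact p.Prime]

theorem mem_principal_of_ker (hM : IsPModular p M) {N : Subgroup G} [N.Normal] {n : ℕ} (h : N.index = p ^ n)
    {χ : IrrCharacter G} (hχ : ∀ g ∈ N, (χ : G → ℂ) g = (χ : G → ℂ) 1) : χ ∈ principalBlock M G := by
  cases nonempty_fintype N
  have hB := isPBlock_blockOf (M := M) χ.2
  rw [← cov_unique hM h (isBI_aE hM isPBlock_principal) hB isPBlock_principal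
    ((cov_iff hM hB isPBlock_principal).1 ⟨χ, mem_blockOf_self hM χ, _, triv_mem_principal hM, inner_triv_ne_zero hχ⟩)
    (principal_cov hM N)]
  exact mem_blockOf_self hM χ

theorem index_C1_map_dvd {Q : Type*} [Group Q] {f : G →* Q} (hf : Function.Surjective f) (x : G) :
    (C1 (f x)).index ∣ (C1 x).index := by
  refine (index_dvd_of_le ?_).trans (index_map_dvd _ hf)
  rintro _ ⟨y, hy, rfl⟩
  exact mem_centralizer_singleton.2 ((mem_centralizer_singleton.1 hy).map f)

theorem relIndex_dvd_of_le_sup {K H C : Subgroup G} [K.Normal] (h1 : K ≤ H) (h2 : H ≤ K ⊔ C) :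
    C.relIndex H ∣ C.index := by
  have := ((fac_of_normalizer (A := K) (B := C) (.inr (by simp [normalizer_eq_top]))).mono h1 le_rfl h2
    le_sup_right).relIndex_eq
  rw [this]
  exact relIndex_dvd_index_of_le le_sup_right

theorem le_of_normal_of_index {Q H : Subgroup G} [Q.Normal] (hQ : IsPGroup p Q) (h : ¬ p ∣ H.index) : Q ≤ H := by
  obtain ⟨P, hP⟩ := exists_isSylowIn (p := p) H
  exact ((hP.trans le_top (by simpa using h)).ge_of_normal hQ le_top (by simp [normalizer_eq_top])).trans hP.le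

theorem kaz_aux (ih : ∀ H : Subgroup G, H ≠ ⊤ → ∀ (x : H) (k : ℕ), (C1 x).index ∣ p ^ k →
      Group.IsSolvable (normalClosure {x}))
    (h0 : ∀ N : Subgroup G, N.Normal → Group.IsSolvable N → N = ⊥) {y : G} {q k : ℕ} (hq : q.Prime)
    (hy : orderOf y = q) (hk : (C1 y).index ∣ p ^ k) : False := by
  classical
  haveI := Fact.mk hq
  have y1 : y ≠ 1 := by rintro rfl; exact hq.ne_one (by rw [← hy, orderOf_one])
  have ab : ∀ N : Subgroup G, N.Normal → N ≤ CS N → N = ⊥ := fun N hN h =>
    h0 N hN (isSolvable_of_isMulCommutative (isMulCommutative_of_comm fun a ha b hb => h hb a ha))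
  have ha : ∀ K : Subgroup G, K.Normal → K ⊔ zpowers y = ⊤ ∨ y ∈ CS K := fun K hK => by
    refine or_iff_not_imp_left.2 fun hH => ?_
    set H := K ⊔ zpowers y
    have hyH : y ∈ H := mem_sup_right (mem_zpowers y)
    have h1 := ih H hH ⟨y, hyH⟩ k (by
      rw [C1_coe]
      exact (relIndex_dvd_of_le_sup le_sup_left (sup_le_sup_left (zpowers_le_C1 y) _)).trans hk)
    set L := (normalClosure {(⟨y, hyH⟩ : H)}).map H.subtype
    have h2 : H ≤ NS L := normal_map_subtype_iff.1 inferInstance
    have h3 : y ∈ L := ⟨⟨y, hyH⟩, subset_normalClosure rfl, rfl⟩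
    have h4 : L ⊓ K ≤ ⊥ := by
      rw [← h0 _ H9.fitCl_sol.rad_top_normal (H9.fitCl_sol.rad_spec ⊤)]
      exact H9.fitCl_sol.le_rad_of_sn (.step inf_le_right
        (le_normalizer_inf (le_sup_left.trans h2) le_normalizer) (.of_normal_top K))
        (isSolvable_of_le inf_le_left (isSolvable_map _ h1))
    intro c hc
    have := h4 (x := c * y * c⁻¹ * y⁻¹) ⟨L.mul_mem (conj_mem_of_mem_normalizer (h2 (mem_sup_left hc)) h3) (L.inv_mem h3),
      by simpa [mul_assoc] using K.mul_mem hc (hK.conj_mem _ (K.inv_mem hc) y)⟩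
    rw [mem_bot, mul_inv_eq_one, mul_inv_eq_iff_eq_mul] at this
    exact this
  have hb : ∀ K : Subgroup G, K.Normal → K ≠ ⊥ → K ⊔ zpowers y = ⊤ := fun K hK h1 => by
    refine (ha K hK).resolve_right fun h2 => ?_
    rcases ha (CS K) inferInstance with h | h
    · rw [sup_eq_left.2 (zpowers_le.2 h2)] at h
      exact h1 (ab K hK (h ▸ le_top))
    · have := ab (CS K ⊓ CS (CS K)) inferInstance (inf_le_right.trans (CS_anti inf_le_left))
      exact y1 (mem_bot.1 (this ▸ ⟨h2, h⟩))
  have hc : commutator G ≠ ⊥ := fun h => y1 (mem_bot.1 (ab ⊤ inferInstance (by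
    rwa [← commutator_eq_bot_iff_le_centralizer]) ▸ mem_top y))
  have hi : (commutator G).index ∣ q := by
    rw [← relIndex_top_right, ← hb _ inferInstance hc, relIndex_sup_left, ← hy, ← Nat.card_zpowers]
    exact relIndex_dvd_card _ _
  have hd : ∀ P, IsSylowIn p P ⊤ → y ∈ NS P → False := fun P hP h => by
    have h1 : Fac (C1 y) (zpowers y ⊔ P) ⊤ := (fac_of_coprime_index (A := C1 y) (B := P)
      ((Nat.Coprime.pow_left k ((Nat.Prime.coprime_iff_not_dvd hp.out).2
        (by simpa using hP.not_dvd))).coprime_dvd_left hk)).mono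
      le_rfl le_sup_right le_top le_top
    have := h0 _ inferInstance (isSolvable_of_le (h1.normalClosure_le (C1_le_normalizer_zpowers y) le_sup_left)
      (isSolvable_sup (zpowers_le.2 h) (isSolvable_zpowers y) (isSolvable_of_isPGroup hP.isPGroup)))
    exact y1 (mem_bot.1 (this ▸ subset_normalClosure (mem_zpowers y)))
  by_cases hpq : q = p
  · subst hpq
    obtain ⟨P, hP, h⟩ := exists_isSylowIn_ge (isPGroup_zpowers hq ⟨1, by rw [hy, pow_one]⟩) le_top
    exact hd P hP (le_normalizer (zpowers_le.1 h))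
  have hpi : ¬ p ∣ (commutator G).index := fun h =>
    hpq ((Nat.prime_dvd_prime_iff_eq hp.out hq).1 (h.trans hi)).symm
  by_cases h1 : q ∣ Nat.card (commutator G)
  swap
  · obtain ⟨P, hP, h⟩ := exists_invariant_sylow (p := p) (A := zpowers y) (K := commutator G)
      (by simp [normalizer_eq_top]) (by rw [Nat.card_zpowers, hy]; exact (Nat.Prime.coprime_iff_not_dvd hq).2 h1)
      (.inl (isSolvable_zpowers y))
    exact hd P (hP.trans le_top (by simpa using hpi)) (zpowers_le.1 h)
  obtain ⟨M, hM⟩ := exists_isPModular hq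
  obtain ⟨M', hM'⟩ := exists_isPModular hp.out
  obtain ⟨w, hw⟩ := exists_prime_orderOf_dvd_card' q h1
  rw [← orderOf_coe] at hw
  have h2 := KB_eq_zero_weak' hM isPBlock_principal (g := (w : G)) (h := 1) (by rw [hw]) (not_dvd_orderOf_one hq)
  obtain ⟨n, -, hn⟩ := (Nat.dvd_prime_pow hq).1 (hi.trans (by rw [pow_one] : q ∣ q ^ 1))
  have h3 := H3.sum_sq_degree_ker (commutator G)
  have h4 : ∀ χ ∈ principalBlock M G, (¬ ∀ n ∈ commutator G, χ.1 n = χ.1 1) → p ∣ charDegree χ.1 := fun χ hχ h => by
    by_contra h5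
    have h6 : χ.1 y ≠ 0 := irr_ne_zero_of_lamB_cls hM isPBlock_principal hχ (by
      rw [lamB_cls hM isPBlock_principal (triv_mem_principal hM)]
      simp only [centralChar, triv_apply, mul_one, div_one]
      exact red_natCast_ne_zero hM fun h => hpq ((Nat.prime_dvd_prime_iff_eq hq hp.out).1
        (hq.dvd_of_dvd_pow (h.trans hk))))
    have h7 := (H3.burnside_zero_or_center χ.2 (irr_one_eq χ) y
      ((Nat.Coprime.pow_left k ((Nat.Prime.coprime_iff_not_dvd hp.out).2 h5)).coprime_dvd_left hk).symm).resolve_left h6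
    have h8 : y ∈ H3.charCenter χ.1 := (H3.mem_charCenter (H3.irr_char χ.2) y).2 (by rw [h7, irr_one_eq]; simp)
    by_cases h9 : H3.charKer χ.1 = ⊥
    · rw [H3.charCenter_eq_center χ.2 h9] at h8
      have := ab (center G) inferInstance fun a ha b _ => mem_center_iff.1 ha b
      exact y1 (mem_bot.1 (this ▸ h8))
    have := hb _ (H3.charKer_normal (H3.irr_class χ.2)) h9
    have := (H3.degree_one_iff_commutator_le χ.2).1 (H3.degree_one_of_charCenter_eq_top χ.2 fun g =>
      sup_le (H3.charKer_le_charCenter _) (zpowers_le.2 h8) (this ▸ mem_top g))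
    exact h fun n hn => (H3.mem_charKer (H3.irr_char χ.2) n).1 (this hn)
  rw [KB, ← Finset.sum_filter_add_sum_filter_not _ fun χ : IrrCharacter G => ∀ n ∈ commutator G, χ.1 n = χ.1 1] at h2
  have h5 : ∑ χ ∈ fs (principalBlock M G) with ∀ n ∈ commutator G, χ.1 n = χ.1 1, χ.1 w * conj (χ.1 1) =
      (commutator G).index := by
    rw [← h3]
    refine Finset.sum_congr ?_ fun χ hχ => ?_
    · ext χ
      simpa using fun h => mem_principal_of_ker hM hn h
    · rw [(Finset.mem_filter.1 hχ).2 w w.2, irr_one_eq, sq]; simp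
  rw [h5, add_eq_zero_iff_eq_neg] at h2
  refine red_natCast_ne_zero hM' hpi ?_
  rw [h2, red_neg, red_sum _ _ fun χ _ => (O M').mul_mem _ _ (irr_mem_O χ _) (conj_irr_mem_O χ _), neg_eq_zero]
  refine Finset.sum_eq_zero fun χ hχ => ?_
  rw [Finset.mem_filter, mem_fs] at hχ
  rw [red_mul (irr_mem_O χ _) (conj_irr_mem_O χ _), irr_one_eq, map_natCast, red_natCast,
    (natCast_eq_zero_iff hM' _).2 (h4 χ hχ.1 hχ.2), mul_zero]

theorem kazarin (x : G) {k : ℕ} (hx : (C1 x).index ∣ p ^ k) : Group.IsSolvable (normalClosure {x}) := by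
  revert x k
  refine group_induction (P := fun G _ _ => ∀ (x : G) {k : ℕ}, (C1 x).index ∣ p ^ k →
    Group.IsSolvable (normalClosure {x})) (fun G _ _ ih x k hx => ?_) G
  by_cases h0 : ∀ N : Subgroup G, N.Normal → Group.IsSolvable N → N = ⊥
  · by_cases h1 : x = 1
    · rw [h1, show ({1} : Set G) = (⊥ : Subgroup G) by simp, normalClosure_eq_self]; infer_instance
    obtain ⟨y, hy, hq⟩ := exists_prime_orderOf_mem (H := zpowers x) (by simpa using h1)
    refine (kaz_aux (p := p) (fun H hH x k => ih H (card_subgroup_lt hH) x) h0 hq rfl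
      ((index_dvd_of_le fun g hg => ?_).trans hx)).elim
    obtain ⟨n, rfl⟩ := hy
    exact mem_centralizer_singleton.2 ((mem_centralizer_singleton.1 hg).zpow_left n)
  push Not at h0
  obtain ⟨N, hN, h1, h2⟩ := h0
  have h3 := ih (G ⧸ N) (card_quotient_lt h2) (QuotientGroup.mk' N x)
    ((index_C1_map_dvd (QuotientGroup.mk'_surjective N) x).trans hx)
  rw [← Set.image_singleton, ← map_normalClosure _ _ (QuotientGroup.mk'_surjective N)] at h3
  have := isSolvable_subgroupOf (normalClosure {x}) h1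
  refine solvable_of_ker_le_range (N.subgroupOf _).subtype ((QuotientGroup.mk' N).subgroupMap _) fun g hg => ?_
  rw [range_subtype, mem_subgroupOf, ← QuotientGroup.eq_one_iff]
  exact congrArg Subtype.val hg

theorem normalClosure_comm (h : pCore p G = ⊥) (x : G) {k : ℕ} (hx : (C1 x).index ∣ p ^ k) :
    normalClosure {x} ≤ CS (normalClosure {x}) := by
  have h1 : normalClosure {x} ≤ CS (fittingSubgroup G) := by
    refine normalClosure_le_normal (Set.singleton_subset_iff.2 (le_centralizer_singleton.1 ?_))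
    rw [fitting_eq_iSup_pCore]
    refine iSup_le fun q => ?_
    by_cases e : q.1 = p
    · rw [e, h]; exact bot_le
    haveI := Fact.mk q.2
    exact le_of_normal_of_index pCore_isPGroup fun h =>
      e ((Nat.prime_dvd_prime_iff_eq q.2 hp.out).1 (q.2.dvd_of_dvd_pow (h.trans hx)))
  exact h1.trans (CS_anti (le_fitting_of_le_centralizer _ (kazarin x hx) h1))

theorem comm_mem_pCore (x : G) {k : ℕ} (hx : (C1 x).index ∣ p ^ k) {a b : G} (ha : a ∈ normalClosure {x})
    (hb : b ∈ normalClosure {x}) : a * b * a⁻¹ * b⁻¹ ∈ pCore p G := by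
  have hs := QuotientGroup.mk'_surjective (pCore p G)
  have := normalClosure_comm pCore_quotient_pCore _ ((index_C1_map_dvd hs x).trans hx)
  rw [← Set.image_singleton, ← map_normalClosure _ _ hs] at this
  have := this (mem_map_of_mem _ hb) _ (mem_map_of_mem _ ha)
  rw [← QuotientGroup.eq_one_iff]
  simpa [mul_inv_eq_iff_eq_mul] using this

end H4
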