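import Cfsg.Agent.H4.Gal
import Cfsg.Agent.H4.Kaz
import Cfsg.Agent.H4.Cons

/-!
# Major subsections, counting blocks, Robinson's matrix
`ind_defect_le`, `exists_major`, `card_block_le`, `landau`, `principal_of_stable`, `blocks_le_classes`,
`red_ev_Z_single`, `red_part`, `red_det`, `exists_det_ne_zero`, `inner_reg_ne_zero`, `sameBlock_indep`.
-/

set_option autoImplicit false
set_option linter.unusedSectionVars false

namespace H4
open MonoidAlgebra Cfsg H1
open scoped Pointwise ComplexConjugate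

variable {G : Type*} [Group G] [Finite G] {M : Ideal AlgInt} {p : ℕ} [hp : Fact p.Prime]
  {B : Set (IrrCharacter G)} {χ ψ : IrrCharacter G} {θ η : G → ℂ}

theorem ind_defect_le (hM : IsPModular p M) {H : Subgroup G} {b : Set (IrrCharacter H)}
    (h : IsInducedBlock M H b B) : blockDefect p b ≤ blockDefect p B := by
  obtain ⟨D, hD⟩ := exists_dg (p := p) hM h.1
  obtain ⟨E, hE, h1⟩ := ind_dg_le hM h hD
  have := Subgroup.card_le_of_le h1
  rwa [Subgroup.card_map_of_injective H.subtype_injective, dg_card hM h.1 hD, dg_card hM h.2.1 hE,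
    Nat.pow_le_pow_iff_right hp.out.one_lt] at this

theorem exists_isBI_Br (hM : IsPModular p M) {H Q : Subgroup G} {z : (k M)[G]} (hz : z ∈ ZA (k M) H)
    (hzz : z * z = z) (h : Br Q z ≠ 0) : ∃ f, IsBI H f ∧ z * f = f ∧ Br Q f ≠ 0 := by
  rw [← mul_one z, ← sum_BIs hM H, Finset.mul_sum, map_sum] at h
  obtain ⟨f, hf, h1⟩ := Finset.exists_ne_zero_of_sum_ne_zero h
  rw [mem_BIs hM] at hf
  have := hf.mul_eq hz hzz fun e => h1 (by rw [e, map_zero])
  exact ⟨f, hf, this, this ▸ h1⟩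

theorem ind_C1_iff (hM : IsPModular p M) {x : G} (hx : IsPElt p x) {b : Set (IrrCharacter (C1 x))}
    (hb : IsPBlock M b) (hB : IsPBlock M B) : IsInducedBlock M (C1 x) b B ↔
      Br (Subgroup.zpowers x) (eB M B) * aE M (C1 x) b = aE M (C1 x) b :=
  ind_iff_mul hM (isPGroup_zpowers hp.out hx) (zpowers_le_C1 x) (H4.centralizer_zpowers x).le
    (C1_le_normalizer_zpowers x) hb hB

theorem exists_major (hM : IsPModular p M) (hB : IsPBlock M B) {D : Subgroup G} (hD : IsDefectGroup p M B D)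
    {x : G} (hx : x ∈ D) (hx' : x ∈ CS D) : ∃ b, IsInducedBlock M (C1 x) b B ∧
      IsDefectGroup p M b (D.subgroupOf (C1 x)) ∧ blockDefect p b = blockDefect p B := by
  haveI := charP_k hM
  have h1 := isPElt_of_mem hp.out (dg_isPGroup hD) hx
  have hQ := isPGroup_zpowers hp.out h1
  have h2 : D ≤ C1 x := le_centralizer_singleton.2 hx'
  obtain ⟨f, hf, h3, h4⟩ := exists_isBI_Br hM (H := C1 x) (Q := D) (z := Br (Subgroup.zpowers x) (eB M B))
    (Br_mem_ZA (H4.centralizer_zpowers x).le (C1_le_normalizer_zpowers x) (Z_le_Fix _ (eB_mem_Z B)))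
    (Br_idem hQ (Z_le_Fix _ (eB_mem_Z B)) (eB_mul_self hM hB))
    (by rw [Br_Br (Subgroup.zpowers_le.2 hx)]; exact dg_Br_ne_zero hM hD)
  obtain ⟨b, hb, rfl⟩ := hf.exists_block hM
  have h5 := (ind_C1_iff hM h1 hb hB).2 h3
  have h6 : IsDefectGroup p M b (D.subgroupOf (C1 x)) := dg_of_card hM hb ((dg_isPGroup hD).comap_subtype)
    (Br_aE_ne_zero_iff.1 (by rwa [Subgroup.map_subgroupOf_eq_of_le h2])) (by
      rw [card_subgroupOf h2, dg_card hM hB hD]
      exact Nat.pow_le_pow_right hp.out.pos (ind_defect_le hM h5))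
  exact ⟨b, h5, h6, defect_eq_of_dg hM h5 hD h6 h2⟩

theorem exists_center_elt {D : Subgroup G} (hD : IsPGroup p D) (h : D ≠ ⊥) :
    ∃ x ∈ D, x ∈ CS D ∧ orderOf x = p := by
  have h1 := inf_centralizer_ne_bot_of_isPGroup hD hD Subgroup.le_normalizer h
  obtain ⟨x, hx, h2⟩ := exists_prime_orderOf_mem h1
  obtain ⟨n, hn⟩ := isPElt_of_mem hp.out hD hx.1
  exact ⟨x, hx.1, hx.2, (Nat.prime_dvd_prime_iff_eq h2 hp.out).1 (h2.dvd_of_dvd_pow hn.dvd)⟩

theorem card_block_le (hM : IsPModular p M) (hB : IsPBlock M B) : Nat.card B ≤ p ^ (2 * blockDefect p B) := by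
  have h1 := brauer_feit hM hB
  have h2 : Nat.card B ≤ ∑ χ ∈ fs B, p ^ (2 * blockHeight p B χ.1) := by
    rw [← card_fs, Finset.card_eq_sum_ones]
    exact Finset.sum_le_sum fun _ _ => Nat.pow_pos hp.out.pos
  have := Nat.pow_pos (n := 2 * blockDefect p B) hp.out.pos
  omega

theorem landau_aux (k : ℕ) : ∀ q : ℚ, ∃ N : ℕ, ∀ s : Multiset ℕ, s.card ≤ k → (∀ n ∈ s, 0 < n) →
    (s.map fun n : ℕ => (n : ℚ)⁻¹).sum = q → ∀ n ∈ s, n ≤ N := by
  induction k with
  | zero => exact fun q => ⟨0, fun s hs _ _ n hn => by simp_all⟩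
  | succ k ih =>
    intro q
    choose f hf using ih
    refine ⟨⌊(k + 1) / q⌋₊ + ∑ i ∈ Finset.range (⌊(k + 1) / q⌋₊ + 1), f (q - (i : ℚ)⁻¹), fun s hs h0 h n hn => ?_⟩
    obtain ⟨m, hm, h1⟩ := s.toFinset.exists_min_image id ⟨n, Multiset.mem_toFinset.2 hn⟩
    simp only [Multiset.mem_toFinset, id] at hm h1
    have hm0 : (0 : ℚ) < m := by exact_mod_cast h0 m hm
    have hq : 0 < q := h ▸ lt_of_lt_of_le (inv_pos.2 hm0) (Multiset.single_le_sum (by
      simp only [Multiset.mem_map]; rintro _ ⟨a, -, rfl⟩; positivity) _ (Multiset.mem_map_of_mem _ hm))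
    have h2 : m ≤ ⌊(k + 1) / q⌋₊ := by
      refine Nat.le_floor ((le_div_iff₀ hq).2 ?_)
      have := Multiset.sum_le_card_nsmul (s.map fun n : ℕ => (n : ℚ)⁻¹) (m : ℚ)⁻¹ (by
        simp only [Multiset.mem_map]; rintro _ ⟨a, ha, rfl⟩
        exact inv_anti₀ hm0 (by exact_mod_cast h1 a ha))
      rw [h, Multiset.card_map, nsmul_eq_mul, ← div_eq_mul_inv, le_div_iff₀ hm0] at this
      have h3 : (s.card : ℚ) ≤ k + 1 := by exact_mod_cast hs
      linarith
    obtain ⟨t, rfl⟩ := Multiset.exists_cons_of_mem hm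
    rcases Multiset.mem_cons.1 hn with rfl | hn
    · omega
    · have := hf (q - (m : ℚ)⁻¹) t (by simpa using hs) (fun n hn => h0 n (Multiset.mem_cons_of_mem hn))
        (by rw [← h]; simp) n hn
      have := Finset.single_le_sum (f := fun i : ℕ => f (q - (i : ℚ)⁻¹)) (fun _ _ => Nat.zero_le _)
        (Finset.mem_range.2 (Nat.lt_add_one_of_le h2))
      omega

/-- Landau's theorem -/
theorem landau (k : ℕ) : ∃ N : ℕ, ∀ (G : Type*) [Group G] [Finite G], Nat.card (ConjClasses G) ≤ k →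
    Nat.card G ≤ N := by
  classical
  obtain ⟨N, hN⟩ := landau_aux k 1
  refine ⟨N, fun G _ _ h => ?_⟩
  have := Fintype.ofFinite G
  have := Fintype.ofFinite (ConjClasses G)
  refine hN (Finset.univ.val.map fun C : ConjClasses G => Nat.card (C1 (Quotient.out C))) (by simpa using h)
    (fun n hn => by obtain ⟨C, -, rfl⟩ := Multiset.mem_map.1 hn; exact Nat.card_pos) ?_ _ (Multiset.mem_map.2 ⟨ConjClasses.mk 1, Finset.mem_univ _, by
      rw [card_C1_isConj (isConj_out 1), C1_one, Subgroup.card_top]⟩)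
  rw [Multiset.map_map, ← Finset.sum_eq_multiset_sum]
  have h0 : (Nat.card G : ℚ) ≠ 0 := by exact_mod_cast Nat.card_pos.ne'
  apply mul_left_cancel₀ h0
  rw [mul_one, Finset.mul_sum]
  conv_rhs => rw [Nat.card_eq_fintype_card, ← Finset.card_univ,
    Finset.card_eq_sum_card_fiberwise (f := ConjClasses.mk) (t := Finset.univ) (fun _ _ => Finset.mem_univ _)]
  push_cast
  refine Finset.sum_congr rfl fun C _ => ?_
  have h1 := H3.card_class_mul_card_centralizer (Quotient.out C : G)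
  have h2 : ((Nat.card (C1 (Quotient.out C : G)) : ℕ) : ℚ) ≠ 0 := by exact_mod_cast Nat.card_pos.ne'
  rw [Function.comp, ← div_eq_mul_inv, div_eq_iff h2, ← h1, Nat.cast_mul, Nat.card_eq_fintype_card,
    Fintype.card_subtype]
  congr 3
  ext g
  simp only [Finset.mem_filter, Finset.mem_univ, true_and, isConj_out_iff, eq_comm]

theorem red_blockCoeff_one (hM : IsPModular p M) (hB : IsPBlock M B)
    (hd : blockDefect p B = (Nat.card G).factorization p) : red M (blockCoeff B 1) ≠ 0 := by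
  have h := red_KB_one hM hB
  have h1 : red M (((p ^ blockDefect p B : ℕ) : ℂ) / Nat.card G) ≠ 0 :=
    (red_natCast_div_ne_zero_iff hM (pow_pos hp.out.pos _).ne' Nat.card_pos.ne').2 (by
      rw [hp.out.factorization_pow, Finsupp.single_eq_same, hd])
  rw [show ((p ^ blockDefect p B : ℕ) : ℂ) * KB B 1 1 / Nat.card G / Nat.card G =
    ((p ^ blockDefect p B : ℕ) : ℂ) / Nat.card G * blockCoeff B 1 by rw [blockCoeff_eq_KB]; ring,
    red_mul (mem_O_of_red_ne_zero h1) (blockCoeff_mem_O hM hB 1)] at h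
  exact right_ne_zero_of_mul h

theorem lam_triv [Fintype G] {z : (k M)[G]} (hz : z ∈ Z (k M) G) : lam M (triv G : G → ℂ) z = ∑ g, z.coeff g := by
  rw [lam_eq_red_om (triv G).2 hz, om_apply_sum, red_sum _ _ fun g _ => by simpa using sec_mem _]
  simp

theorem principal_of_stable (hM : IsPModular 2 M) (hB : IsPBlock M B)
    (hd : blockDefect 2 B = (Nat.card G).factorization 2) (τ : G → G) (h1 : Function.Surjective τ)
    (h2 : ∀ g, ¬ 2 ∣ orderOf g → τ g = g⁻¹) (h : ∀ χ ∈ B, ∃ ψ ∈ B, ∀ g, ψ.1 g = χ.1 (τ g)) :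
    B = principalBlock M G := by
  classical
  cases nonempty_fintype G
  haveI := charP_k hM
  choose! F hF hF' using h
  have τ1 : τ 1 = 1 := by rw [h2 1 (by simp), inv_one]
  have h3 : ∀ g, (eB M B).coeff g⁻¹ = (eB M B).coeff g := fun g => by
    by_cases hg : 2 ∣ orderOf g
    · rw [coeff_eB, coeff_eB, blockCoeff_eq_zero hM hB hg, blockCoeff_eq_zero hM hB (by rwa [orderOf_inv])]
    rw [coeff_eB, coeff_eB, blockCoeff_eq, blockCoeff_eq]
    congr 2
    refine Finset.sum_bij (fun χ _ => F χ) (fun χ hχ => mem_fs.2 (hF χ (mem_fs.1 hχ))) ?_ ?_ fun χ hχ => ?_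
    · intro a ha b hb e
      refine Subtype.ext (funext fun g => ?_)
      obtain ⟨g, rfl⟩ := h1 g
      rw [← hF' a (mem_fs.1 ha), ← hF' b (mem_fs.1 hb), e]
    · refine fun b hb => (Finset.surj_on_of_inj_on_of_card_le (s := fs B) (t := fs B) (fun χ _ => F χ)
        (fun χ hχ => mem_fs.2 (hF χ (mem_fs.1 hχ))) (fun a b ha hb e => ?_) le_rfl b hb).imp fun a ⟨h, e⟩ => ⟨h, e.symm⟩
      refine Subtype.ext (funext fun g => ?_)
      obtain ⟨g, rfl⟩ := h1 g
      rw [← hF' a (mem_fs.1 ha), ← hF' b (mem_fs.1 hb), e]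
    · rw [hF' χ (mem_fs.1 hχ), hF' χ (mem_fs.1 hχ), τ1, h2 g hg]
  refine block_eq_of_mem hM hB isPBlock_principal ((mem_iff_lam_eB hM hB).2 ?_) (triv_mem_principal hM)
  rw [lam_triv (eB_mem_Z B), ← Finset.add_sum_erase _ _ (Finset.mem_univ 1), Finset.sum_involution
    (fun g _ => g⁻¹) (fun g _ => by rw [h3, CharTwo.add_self_eq_zero]) (fun g hg h e => ?_) (by simp) (by simp),
    add_zero]
  · exact red_blockCoeff_one hM hB hd
  · refine not_dvd_of_eB_ne_zero hM hB h (dvd_of_eq (orderOf_eq_prime ?_ (by simpa using hg)).symm)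
    rw [sq]; nth_rw 1 [← e]; simp

theorem defect_eq_of_nu (hχ : χ ∈ B) (h : nu p χ.1 = 0) : blockDefect p B = (Nat.card G).factorization p := by
  have := mB_le (p := p) hχ
  rw [blockDefect_eq]; omega

theorem centralChar_conj (hχ : IsCharacter G θ) (g : G) : centralChar (fun g => conj (θ g)) g = centralChar θ g⁻¹ := by
  rw [centralChar, centralChar, H3.char_inv hχ, ← H3.char_inv hχ 1, inv_one]
  congr 4
  ext x
  simp only [mem_centralizer_singleton, Commute.inv_left_iff]

theorem sameBlock_conj (hθ : IsCharacter G θ) (hη : IsCharacter G η) (h : SameBlock M θ η) :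
    SameBlock M (fun g => conj (θ g)) fun g => conj (η g) := fun g => by
  rw [centralChar_conj hθ, centralChar_conj hη]; exact h _

theorem real_odd_principal (hM : IsPModular 2 M) (h : ∀ g, (χ.1 g).im = 0) (h1 : Odd (charDegree χ.1)) :
    χ ∈ principalBlock M G := by
  have hB := isPBlock_blockOf (M := M) χ.2
  have h2 := mem_blockOf_self hM χ
  rw [← principal_of_stable hM hB (defect_eq_of_nu h2 (Nat.factorization_eq_zero_of_not_dvd
    (Nat.two_dvd_ne_zero.2 (Nat.odd_iff.1 h1)))) (·⁻¹) inv_surjective (fun _ _ => rfl) fun ψ hψ =>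
    ⟨⟨_, H3.irr_conj ψ.2⟩, ?_, fun g => (irr_inv ψ g).symm⟩]
  · exact h2
  · have := sameBlock_conj (H3.irr_char χ.2) (H3.irr_char ψ.2) hψ
    simp only [Complex.conj_eq_iff_im.2 (h _)] at this
    exact this

theorem card_le_of_mul_eq_one {F ι κ : Type*} [Field F] [Fintype ι] [Fintype κ] [DecidableEq ι]
    (A : Matrix ι κ F) (C : Matrix κ ι F) (h : A * C = 1) : Fintype.card ι ≤ Fintype.card κ := by
  rw [← Matrix.rank_one (R := F), ← h]
  exact (Matrix.rank_mul_le_left A C).trans A.rank_le_card_width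

theorem lamB_eq_sum [Fintype (ConjClasses G)] (B : Set (IrrCharacter G)) {z : (k M)[G]} (hz : z ∈ Z (k M) G) :
    lamB M B z = ∑ C : ConjClasses G, z.coeff (Quotient.out C) * lamB M B (cls (k M) (Quotient.out C)) := by
  conv_lhs => rw [Z_eq_sum_cls hz, map_sum]
  simp

theorem lamB_eB (hM : IsPModular p M) (hB : IsPBlock M B) {B' : Set (IrrCharacter G)} (hB' : IsPBlock M B')
    [Decidable (B = B')] : lamB M B (eB M B') = if B = B' then 1 else 0 := by
  split_ifs with h
  · rw [← h, lamB_eB_self hM hB]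
  · exact lamB_eB_ne hM hB hB' h

theorem sum_lamB_eB (hM : IsPModular p M) (hB : IsPBlock M B) {B' : Set (IrrCharacter G)} (hB' : IsPBlock M B')
    [Decidable (B = B')] {ι : Type*} [Fintype ι] (K : ι → ConjClasses G) (hK : Function.Injective K)
    (h : ∀ g, (eB M B').coeff g ≠ 0 → lamB M B (cls (k M) g) ≠ 0 → ∃ i, K i = ConjClasses.mk g) :
    ∑ i, lamB M B (cls (k M) (Quotient.out (K i))) * (eB M B').coeff (Quotient.out (K i)) =
      if B = B' then 1 else 0 := by
  classical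
  have := Fintype.ofFinite (ConjClasses G)
  rw [← lamB_eB hM hB hB', lamB_eq_sum B (eB_mem_Z B')]
  simp only [mul_comm (lamB M B _)]
  refine Finset.sum_of_injOn K hK.injOn (fun _ _ => Finset.mem_univ _) (fun C _ hC => ?_) fun _ _ => rfl
  by_contra h1
  obtain ⟨i, hi⟩ := h _ (left_ne_zero_of_mul h1) (right_ne_zero_of_mul h1)
  exact hC ⟨i, by simp, hi.trans (Quotient.out_eq C)⟩

theorem blocks_le_classes (hM : IsPModular p M) (S : Set (IrrCharacter G) → Prop) (T : ConjClasses G → Prop)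
    (h : ∀ B B', IsPBlock M B → S B → IsPBlock M B' → S B' → ∀ g, (eB M B').coeff g ≠ 0 →
      lamB M B (cls (k M) g) ≠ 0 → T (ConjClasses.mk g)) :
    Nat.card {B // IsPBlock M B ∧ S B} ≤ Nat.card {C // T C} := by
  classical
  have := Fintype.ofFinite {B // IsPBlock M B ∧ S B}
  have := Fintype.ofFinite {C // T C}
  rw [Nat.card_eq_fintype_card, Nat.card_eq_fintype_card]
  refine card_le_of_mul_eq_one (F := k M) (.of fun B C => lamB M B.1 (cls (k M) (Quotient.out C.1)))
    (.of fun C B => (eB M B.1).coeff (Quotient.out C.1)) (Matrix.ext fun B B' => ?_)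
  rw [Matrix.mul_apply, Matrix.one_apply]
  simp only [Matrix.of_apply, Subtype.ext_iff]
  exact sum_lamB_eB hM B.2.1 B'.2.1 _ Subtype.val_injective fun g h1 h2 =>
    ⟨⟨_, h _ _ B.2.1 B.2.2 B'.2.1 B'.2.2 g h1 h2⟩, rfl⟩

theorem ev_blockPart_Z [Fintype G] (B : Set (IrrCharacter G)) (θ : G → ℂ) {a : ℂ[G]} (ha : a ∈ Z ℂ G) (y : G) :
    ev (blockPart B θ) (a * single y 1) = ∑ χ ∈ fs B, om χ.1 a * (classInner θ χ.1 * χ.1 y) := by
  rw [blockPart_eq, ev_sum_fun]
  refine Finset.sum_congr rfl fun χ _ => ?_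
  rw [ev_smul_fun, ev_Z_mul χ.2 ha, ev_single]; ring

theorem red_ev_blockPart (hM : IsPModular p M) (hB : IsPBlock M B) (hθ : θ ∈ OC G M) {a : ℂ[G]} (ha : a ∈ Z ℂ G)
    (ha' : a ∈ IntA G M) (y : G) :
    red M (ev (blockPart B θ) (a * single y 1)) = lamB M B (redA M a) * red M (blockPart B θ y) := by
  cases nonempty_fintype G
  have h : ∀ χ : IrrCharacter G, classInner θ χ.1 * χ.1 y ∈ O M := fun χ =>
    mul_mem (OC_inner hθ (H3.irr_char χ.2)) (irr_mem_O χ y)
  rw [ev_blockPart_Z B θ ha, blockPart_apply, red_sum _ _ fun χ _ => h χ,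
    red_sum _ _ fun χ _ => mul_mem (om_mem_O χ.2 ha ha') (h χ), Finset.mul_sum]
  refine Finset.sum_congr rfl fun χ hχ => ?_
  rw [red_mul (om_mem_O χ.2 ha ha') (h χ), lamB_redA hM hB (mem_fs.1 hχ) ha ha']

theorem red_ev_Z_single (hM : IsPModular p M) (hθ : θ ∈ OC G M) {a : ℂ[G]} (ha : a ∈ Z ℂ G) (ha' : a ∈ IntA G M)
    (y : G) : red M (ev θ (a * single y 1)) = ∑ B ∈ blocks G M, lamB M B (redA M a) * red M (blockPart B θ y) := by
  have : θ = ∑ B ∈ blocks G M, blockPart B θ := funext fun u => by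
    rw [Finset.sum_apply, sum_blockPart hM (OC_class hθ)]
  conv_lhs => rw [this, ev_sum_fun]
  rw [red_sum _ _ fun B _ => ev_mem_O (OC_apply (blockPart_mem_OC hθ B)) (mul_mem ha' (single_mem_IntA _ (one_mem _)))]
  exact Finset.sum_congr rfl fun B hB => red_ev_blockPart hM (mem_blocks.1 hB) hθ ha ha' y

theorem irr_eq_centralChar (χ : IrrCharacter G) (y : G) :
    χ.1 y = centralChar χ.1 y * (χ.1 1 / (C1 y).index) := by
  have := H3.irr_one_ne_zero χ.2
  have : ((C1 y).index : ℂ) ≠ 0 := by exact_mod_cast Subgroup.index_ne_zero_of_finite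
  rw [centralChar]; field_simp

theorem deg_div_mem_O (hM : IsPModular p M) (hχ : χ ∈ B) {y : G}
    (h : blockDefect p B ≤ (Nat.card (C1 y)).factorization p) : χ.1 1 / (C1 y).index ∈ O M := by
  rw [irr_one_eq, natCast_div_mem_iff hM (charDegree_ne_zero χ.2) Subgroup.index_ne_zero_of_finite]
  have := factorization_index_add (p := p) (C1 y)
  have := nu_add_blockDefect (p := p) hχ
  simp only [nu] at this
  omega

theorem red_irr_eq (hM : IsPModular p M) (hB : IsPBlock M B) (hχ : χ ∈ B) {y : G}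
    (h : blockDefect p B ≤ (Nat.card (C1 y)).factorization p) :
    red M (χ.1 y) = lamB M B (cls (k M) y) * red M (χ.1 1 / (C1 y).index) := by
  rw [irr_eq_centralChar, red_mul (centralChar_mem_O χ.2 y) (deg_div_mem_O hM hχ h), lamB_cls hM hB hχ]

theorem red_irr_eq_zero (hM : IsPModular p M) (hB : IsPBlock M B) (hχ : χ ∈ B) {y : G}
    (h : blockDefect p B < (Nat.card (C1 y)).factorization p + blockHeight p B χ.1)
    (h' : blockDefect p B ≤ (Nat.card (C1 y)).factorization p) : red M (χ.1 y) = 0 := by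
  rw [red_irr_eq hM hB hχ h', mul_eq_zero]
  refine .inr (by_contra fun h1 => ?_)
  rw [irr_one_eq, ← Ne, red_natCast_div_ne_zero_iff hM (charDegree_ne_zero χ.2) Subgroup.index_ne_zero_of_finite] at h1
  have := factorization_index_add (p := p) (C1 y)
  have := nu_add_blockDefect (p := p) hχ
  simp only [nu] at this
  omega

theorem red_part (hM : IsPModular p M) (hB : IsPBlock M B) (hθ : θ ∈ OC G M) {y : G}
    (h : blockDefect p B ≤ (Nat.card (C1 y)).factorization p) :
    red M (blockPart B θ y) = lamB M B (cls (k M) y) * red M (blockPart B θ 1 / (C1 y).index) := by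
  cases nonempty_fintype G
  have h1 := fun χ : IrrCharacter G => OC_inner hθ (H3.irr_char χ.2)
  simp only [blockPart_apply, Finset.sum_div, mul_div_assoc]
  rw [red_sum _ _ fun χ _ => mul_mem (h1 χ) (irr_mem_O χ y),
    red_sum _ _ fun χ hχ => mul_mem (h1 χ) (deg_div_mem_O hM (mem_fs.1 hχ) h), Finset.mul_sum]
  refine Finset.sum_congr rfl fun χ hχ => ?_
  rw [red_mul (h1 χ) (irr_mem_O χ y), red_mul (h1 χ) (deg_div_mem_O hM (mem_fs.1 hχ) h),
    red_irr_eq hM hB (mem_fs.1 hχ) h, mul_left_comm]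

theorem red_part_eq_zero (hM : IsPModular p M) (hB : IsPBlock M B) (hθ : θ ∈ OC G M) {y : G}
    (h : blockDefect p B < (Nat.card (C1 y)).factorization p) : red M (blockPart B θ y) = 0 := by
  cases nonempty_fintype G
  have h1 := fun χ : IrrCharacter G => OC_inner hθ (H3.irr_char χ.2)
  rw [blockPart_apply, red_sum _ _ fun χ _ => mul_mem (h1 χ) (irr_mem_O χ y)]
  refine Finset.sum_eq_zero fun χ hχ => ?_
  rw [red_mul (h1 χ) (irr_mem_O χ y), red_irr_eq_zero hM hB (mem_fs.1 hχ) (by omega) h.le, mul_zero]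

theorem factorization_of_sylow {D L : Subgroup G} (h : IsSylowIn p D L) :
    (Nat.card D).factorization p = (Nat.card L).factorization p := by
  rw [h.card_eq, hp.out.factorization_pow, Finsupp.single_eq_same]

theorem dg_of_lamB_cls (hM : IsPModular p M) (hB : IsPBlock M B) {x : G} (h : lamB M B (cls (k M) x) ≠ 0)
    {D : Subgroup G} (hD : IsSylowIn p D (C1 x)) (h1 : (Nat.card (C1 x)).factorization p ≤ blockDefect p B) :
    IsDefectGroup p M B D := by
  obtain ⟨E, hE⟩ := exists_dg (p := p) hM hB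
  obtain ⟨g, hg⟩ := exists_conj_le_of_lamB_cls hM hB h (dg_isPGroup hE) (dg_Br_ne_zero hM hE) hD
  have h2 := dg_conj hM hB hE g
  rwa [Subgroup.eq_of_le_of_card_ge hg (by
    rw [dg_card hM hB h2, hD.card_eq]; exact Nat.pow_le_pow_right hp.out.pos h1)] at h2

open Classical in
theorem robinson (hM : IsPModular p M) (hθ : θ ∈ OC G M) {x y : G} {D : Subgroup G} (hx : IsSylowIn p D (C1 x))
    (hy : (Nat.card (C1 y)).factorization p = (Nat.card D).factorization p) :
    red M (ev θ (cls ℂ x * single y 1)) =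
      ∑ B ∈ blocks G M with IsDefectGroup p M B D, lamB M B (cls (k M) x) * red M (blockPart B θ y) := by
  rw [red_ev_Z_single hM hθ (cls_mem_Z x) (cls_mem_IntA x), redA_cls, Finset.sum_filter_of_ne]
  intro B hB h
  rw [mem_blocks] at hB
  refine dg_of_lamB_cls hM hB (left_ne_zero_of_mul h) hx (not_lt.1 fun h1 => right_ne_zero_of_mul h ?_)
  exact red_part_eq_zero hM hB hθ (by rwa [hy, factorization_of_sylow hx])

theorem part_perm_one [Fintype G] (hM : IsPModular p M) (hB : IsPBlock M B) {S : Subgroup G} (hS : IsPGroup p S) :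
    blockPart B (indFun S fun _ => 1) 1 = S.index * blockCoeff B 1 := by
  cases nonempty_fintype S
  have := blockPart_indFun_one S (triv S) B
  rw [show (triv S : S → ℂ) = fun _ => 1 from rfl] at this
  rw [this, H3.indFun_one, mul_one, om_apply_sum, Finset.sum_eq_single 1 (fun s _ h => ?_) (by simp)]
  · simp
  · rw [coeff_resA, coeff_fI, blockCoeff_eq_zero hM hB, zero_mul, zero_div]
    by_contra h1
    exact h (Subtype.ext ((isPElt_of_mem hp.out hS s.2).eq_one hp.out h1))

theorem red_part_perm [Fintype G] (hM : IsPModular p M) (hB : IsPBlock M B) {S : Subgroup G} (hS : IsSylowIn p S ⊤)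
    {n : ℕ} (hn : n ≠ 0) (h : n.factorization p + blockDefect p B = (Nat.card G).factorization p) :
    red M (blockPart B (indFun S fun _ => 1) 1 / n) ≠ 0 := by
  have h1 := red_KB_one hM hB
  have h2 := red_natCast_ne_zero hM (n := S.index) (by simpa using hS.not_dvd)
  have h3 : red M ((Nat.card G : ℂ) / (p ^ blockDefect p B * n : ℕ)) ≠ 0 :=
    (red_natCast_div_ne_zero_iff hM Nat.card_pos.ne' (mul_ne_zero (pow_pos hp.out.pos _).ne' hn)).2 (by
      rw [Nat.factorization_mul (pow_pos hp.out.pos _).ne' hn, hp.out.factorization_pow,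
        Finsupp.add_apply, Finsupp.single_eq_same]; omega)
  have h4 := mul_ne_zero (mul_ne_zero h1 h2) h3
  rw [← red_mul (mem_O_of_red_ne_zero h1) (mem_O_of_red_ne_zero h2),
    ← red_mul (mul_mem (mem_O_of_red_ne_zero h1) (mem_O_of_red_ne_zero h2)) (mem_O_of_red_ne_zero h3)] at h4
  convert h4 using 2
  have := H3.card_ne_zero' G
  have := q_ne_zero (p := p) (blockDefect p B)
  rw [part_perm_one hM hB hS.isPGroup, blockCoeff_eq_KB, Nat.cast_mul]
  field_simp

theorem isPElt_of_perm_ne_zero [Fintype G] {S : Subgroup G} (hS : IsPGroup p S) {g : G}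
    (h : indFun S (fun _ => 1) g ≠ 0) : IsPElt p g := by
  by_contra h1
  refine h (H3.indFun_eq_zero_of_not_conj S _ g fun x hx => (h1 ?_).elim)
  simpa [mul_assoc] using (isPElt_of_mem hp.out hS hx).conj x⁻¹

theorem red_det {n : Type*} [Fintype n] [DecidableEq n] {A : Matrix n n ℂ} (h : ∀ i j, A i j ∈ O M) :
    A.det ∈ O M ∧ red M A.det = (A.map (red M)).det := by
  let A' : Matrix n n (O M) := .of fun i j => ⟨A i j, h i j⟩
  have h1 : A.det = (A'.det : ℂ) := ((O M).subtype.map_det A').symm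
  refine ⟨h1 ▸ A'.det.2, ?_⟩
  rw [h1, red_coe, RingHom.map_det]
  congr 1
  ext i j
  exact (red_of_mem (h i j)).symm

theorem det_mem_Alg {n : Type*} [Fintype n] [DecidableEq n] {A : Matrix n n ℂ} (h : ∀ i j, A i j ∈ Alg) :
    A.det ∈ Alg := by
  let A' : Matrix n n Alg := .of fun i j => ⟨A i j, h i j⟩
  have h1 : A.det = (A'.det : ℂ) := (Alg.subtype.map_det A').symm
  exact h1 ▸ A'.det.2

theorem exists_det_ne_zero {F ι κ : Type*} [Field F] [Fintype ι] [DecidableEq ι] (s : Finset κ) (A C : ι → κ → F)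
    (h : (Matrix.of fun i j => ∑ b ∈ s, A j b * C i b).det ≠ 0) :
    ∃ f : ι → κ, (∀ i, f i ∈ s) ∧ Function.Injective f ∧ (Matrix.of fun i j => A j (f i)).det ≠ 0 := by
  have h1 : (Matrix.of fun i j => ∑ b ∈ s, A j b * C i b) = fun i => ∑ b ∈ s, C i b • fun j => A j b := by
    ext i j; simp [mul_comm]
  rw [h1] at h
  change (Matrix.detRowAlternating : (ι → F) [⋀^ι]→ₗ[F] F).toMultilinearMap _ ≠ 0 at h
  rw [MultilinearMap.map_sum_finset] at h
  obtain ⟨f, hf, h2⟩ := Finset.exists_ne_zero_of_sum_ne_zero h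
  rw [MultilinearMap.map_smul_univ] at h2
  have h3 : (Matrix.of fun i j => A j (f i)).det ≠ 0 := right_ne_zero_of_smul h2
  refine ⟨f, Fintype.mem_piFinset.1 hf, fun a b e => by_contra fun h4 => h3 (Matrix.det_zero_of_row_eq h4 ?_), h3⟩
  ext j; simp [e]

theorem rank_map {F E n : Type*} [Field F] [Field E] [Fintype n] [DecidableEq n] (f : F →+* E) (A : Matrix n n F) :
    (A.map f).rank = A.rank := by
  classical
  obtain ⟨L, L', D, rfl⟩ := Matrix.Pivot.exists_list_transvec_mul_diagonal_mul_list_transvec A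
  have h : ∀ L : List (Matrix.TransvectionStruct n F), ((L.map Matrix.TransvectionStruct.toMatrix).prod.map f).det ≠ 0 :=
    fun L => by rw [← RingHom.mapMatrix_apply, ← RingHom.map_det]; simp
  rw [Matrix.map_mul, Matrix.map_mul, Matrix.rank_mul_eq_left_of_det_ne_zero _ _ (h L'),
    Matrix.rank_mul_eq_right_of_det_ne_zero _ _ (h L), Matrix.rank_mul_eq_left_of_det_ne_zero _ _ (by simp),
    Matrix.rank_mul_eq_right_of_det_ne_zero _ _ (by simp), Matrix.diagonal_map (map_zero f), Matrix.rank_diagonal,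
    Matrix.rank_diagonal]
  simp

theorem rank_eq_card {F ι κ : Type*} [Field F] [Fintype ι] [Fintype κ] [DecidableEq κ] {A : Matrix ι κ F}
    {C : Matrix κ ι F} {A' : Matrix κ ι F} {C' : Matrix ι κ F} (h : A' * A = 1) (h' : C * C' = 1) :
    (A * C).rank = Fintype.card κ := by
  refine ((Matrix.rank_mul_le_left A C).trans A.rank_le_card_width).antisymm ?_
  rw [← Matrix.rank_one (R := F), show (1 : Matrix κ κ F) = A' * (A * C) * C' by
    rw [← Matrix.mul_assoc, h, Matrix.one_mul, h']]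
  exact (Matrix.rank_mul_le_left _ _).trans (Matrix.rank_mul_le_right _ _)

theorem inner_reg_ne_zero [Fintype G] (hM : IsPModular p M) (hB : IsPBlock M B) (hχ : χ ∈ B)
    (h : blockHeight p B χ.1 = 0) (hψ : ψ ∈ B) : classInner (reg p χ.1) ψ.1 ≠ 0 := fun h0 => by
  obtain ⟨a, ha⟩ := exists_amat hM hB
  have h1 := ha.eq χ ψ hψ
  rw [h0, mul_zero, eq_comm, Int.cast_eq_zero] at h1
  exact (ha.ndvd χ hχ ψ hψ).2 h (h1 ▸ dvd_zero _)

theorem sameBlock_indep (hM : IsPModular p M) {M' : Ideal AlgInt} (hM' : IsPModular p M')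
    (h : SameBlock M χ.1 ψ.1) : SameBlock M' χ.1 ψ.1 := by
  cases nonempty_fintype G
  have hB := isPBlock_blockOf (M := M) χ.2
  obtain ⟨ζ, h1, h2⟩ := exists_height_zero (p := p) hM hB
  have hB' := isPBlock_blockOf (M := M') ζ.2
  have h3 : ∀ α ∈ blockOf M χ.1, α ∈ blockOf M' ζ.1 := fun α hα => by_contra fun e =>
    inner_reg_ne_zero hM hB h1 h2 hα (inner_reg_eq_zero hM' hB' (mem_blockOf_self hM' ζ) e)
  exact sameBlock_of_mem hM' hB' (h3 _ (mem_blockOf_self hM χ)) (h3 _ h)

end H4
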