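import Cfsg.Agent.H4.Cent
import Cfsg.Agent.H4.Ker
import Cfsg.Agent.H1.Frattini

/-!
# Blocks of quotient groups
-/

set_option autoImplicit false
set_option linter.unusedSectionVars false

namespace H4
open MonoidAlgebra Cfsg H1
open scoped Pointwise ComplexConjugate

variable {G G' : Type*} [Group G] [Finite G] [Group G'] [Finite G'] {M : Ideal AlgInt} {p : ℕ} [hp : Fact p.Prime]
  {f : G →* G'} {B : Set (IrrCharacter G)} {B' : Set (IrrCharacter G')} {χ ψ : IrrCharacter G'}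

/-- inflation of an irreducible character along a surjection -/
def infl (hf : Function.Surjective f) (χ : IrrCharacter G') : IrrCharacter G :=
  ⟨fun g => χ.1 (f g), H3.irr_comp_surj χ.2 f hf⟩

@[simp] theorem infl_apply (hf : Function.Surjective f) (χ : IrrCharacter G') (g : G) : (infl hf χ).1 g = χ.1 (f g) := rfl

theorem infl_inj (hf : Function.Surjective f) : Function.Injective (infl hf) := fun _ _ h =>
  Subtype.ext (funext fun y => by obtain ⟨g, rfl⟩ := hf y; exact congrFun (congrArg Subtype.val h) g)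

theorem exists_infl (hf : Function.Surjective f) {θ : IrrCharacter G} (h : ∀ g ∈ f.ker, θ.1 g = θ.1 1) :
    ∃ χ, infl hf χ = θ := by
  obtain ⟨ψ, h1, h2⟩ := H3.exists_deflate_irr f hf θ.2 h
  exact ⟨⟨ψ, h1⟩, Subtype.ext (funext h2)⟩

theorem infl_ker (hf : Function.Surjective f) (χ : IrrCharacter G') : ∀ g ∈ f.ker, (infl hf χ).1 g = (infl hf χ).1 1 :=
  fun g hg => by simp [MonoidHom.mem_ker.1 hg]

theorem infl_triv (hf : Function.Surjective f) : infl hf (triv G') = triv G := rfl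

theorem charDegree_infl (hf : Function.Surjective f) (χ : IrrCharacter G') : charDegree (infl hf χ).1 = charDegree χ.1 :=
  charDegree_of_eq (by simp [irr_one_eq])

theorem om_comp (f : G →* G') (θ : G' → ℂ) (a : ℂ[G]) : om (fun g => θ (f g)) a = om θ (mapA f a) := by
  rw [om_apply, om_apply, ev_mapA, map_one]

theorem lam_infl (hf : Function.Surjective f) (χ : IrrCharacter G') {z : (k M)[G]} (hz : z ∈ Z (k M) G) :
    lam M (infl hf χ).1 z = lam M χ.1 (mapA f z) := by
  rw [lam_eq_red_om (infl hf χ).2 hz, ← redA_secA (M := M) z, ← redA_mapA f (secA_mem_IntA z),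
    lam_redA χ.2 (mapA_mem_Z hf (secA_mem_Z hz)) (mapA_mem_IntA f (secA_mem_IntA z)), redA_secA]
  exact congrArg _ (om_comp f _ _)

theorem sameBlock_infl (hM : IsPModular p M) (hf : Function.Surjective f) (h : SameBlock M χ.1 ψ.1) :
    SameBlock M (infl hf χ).1 (infl hf ψ).1 :=
  sameBlock_of_lam_Z hM (infl hf χ).2 (infl hf ψ).2 fun z hz => by
    rw [lam_infl hf χ hz, lam_infl hf ψ hz, (sameBlock_iff_lam hM χ.2 ψ.2).1 h]

theorem infl_mem (hM : IsPModular p M) (hf : Function.Surjective f) (hB : IsPBlock M B) (hB' : IsPBlock M B')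
    (hχ : χ ∈ B') (h : infl hf χ ∈ B) (hψ : ψ ∈ B') : infl hf ψ ∈ B := by
  rw [eq_blockOf hM hB h]
  exact sameBlock_infl hM hf (sameBlock_of_mem hM hB' hχ hψ)

theorem infl_principal (hM : IsPModular p M) (hf : Function.Surjective f) (hχ : χ ∈ principalBlock M G') :
    infl hf χ ∈ principalBlock M G :=
  infl_mem hM hf isPBlock_principal isPBlock_principal (triv_mem_principal hM) (triv_mem_principal hM) hχ

theorem infl_mem_iff (hM : IsPModular p M) (hf : Function.Surjective f) (hB : IsPBlock M B) (hB' : IsPBlock M B')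
    (hχ : χ ∈ B') : infl hf χ ∈ B ↔ mapA f (eB M B) * eB M B' ≠ 0 := by
  have h1 : mapA f (eB M B) * mapA f (eB M B) = mapA f (eB M B) := by rw [← map_mul, eB_mul_self hM hB]
  rw [mem_iff_lam_eB hM hB, lam_infl hf χ (eB_mem_Z B), ← lamB_eq hM hB' hχ]
  refine ⟨fun h => ?_, fun h => ?_⟩
  · rw [idem_mul_eB_eq hM hB' (mapA_mem_Z hf (eB_mem_Z B)) h1 h]; exact eB_ne_zero hM hB'
  · rw [lamB_ne_zero_of_mul_eB hM hB' (mapA_mem_Z hf (eB_mem_Z B)) h1 h]; exact one_ne_zero

theorem mapA_eB_mul (hM : IsPModular p M) (hf : Function.Surjective f) (hB : IsPBlock M B) (hB' : IsPBlock M B')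
    (hχ : χ ∈ B') (h : infl hf χ ∈ B) : mapA f (eB M B) * eB M B' = eB M B' := by
  rw [mem_iff_lam_eB hM hB, lam_infl hf χ (eB_mem_Z B), ← lamB_eq hM hB' hχ] at h
  exact idem_mul_eB_eq hM hB' (mapA_mem_Z hf (eB_mem_Z B)) (by rw [← map_mul, eB_mul_self hM hB]) h

theorem sameBlock_of_lift (hM : IsPModular p M) (hf : Function.Surjective f)
    (H : ∀ B' : Set (IrrCharacter G'), IsPBlock M B' → ∃ z ∈ Z (k M) G, mapA f z = eB M B')
    (h : SameBlock M (infl hf χ).1 (infl hf ψ).1) : SameBlock M χ.1 ψ.1 := by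
  have hB := isPBlock_blockOf (M := M) χ.2
  obtain ⟨z, hz, e⟩ := H _ hB
  refine (mem_iff_lam_eB hM hB (χ := ψ)).2 ?_
  rw [← e, ← lam_infl hf ψ hz, ← (sameBlock_iff_lam hM (infl hf χ).2 (infl hf ψ).2).1 h, lam_infl hf χ hz, e]
  exact (mem_iff_lam_eB hM hB).1 (mem_blockOf_self hM χ)

theorem card_fiber [Fintype G] [DecidableEq G'] (hf : Function.Surjective f) (y : G') :
    (Finset.univ.filter fun g => f g = y).card = Nat.card f.ker := by
  obtain ⟨x, rfl⟩ := hf y
  rw [← Fintype.card_subtype, ← Nat.card_eq_fintype_card]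
  exact Nat.card_congr ⟨fun g => ⟨x⁻¹ * g, by simp [MonoidHom.mem_ker, g.2]⟩,
    fun n => ⟨x * n, by simp [MonoidHom.mem_ker.1 n.2]⟩, fun g => by simp, fun n => by simp⟩

theorem lift_coprime (hM : IsPModular p M) (hf : Function.Surjective f) (hk : ¬ p ∣ Nat.card f.ker) {z' : (k M)[G']}
    (hz : z' ∈ Z (k M) G') : ∃ z ∈ Z (k M) G, mapA f z = z' := by
  classical
  cases nonempty_fintype G
  refine ⟨mk fun g => (Nat.card f.ker : k M)⁻¹ * z'.coeff (f g), mk_mem_Z fun g h => by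
    simp only [map_mul, map_inv, mem_Z.1 hz], ext_coeff fun y => ?_⟩
  rw [coeff_mapA, Finset.sum_congr rfl (g := fun _ => (Nat.card f.ker : k M)⁻¹ * z'.coeff y) fun g hg => by
    rw [coeff_mk, (Finset.mem_filter.1 hg).2], Finset.sum_const, card_fiber hf, nsmul_eq_mul, ← mul_assoc,
    mul_inv_cancel₀ (mt (natCast_eq_zero_iff hM _).1 hk), one_mul]

theorem sameBlock_coprime (hM : IsPModular p M) (hf : Function.Surjective f) (hk : ¬ p ∣ Nat.card f.ker)
    (h : SameBlock M (infl hf χ).1 (infl hf ψ).1) : SameBlock M χ.1 ψ.1 :=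
  sameBlock_of_lift hM hf (fun B' _ => lift_coprime hM hf hk (eB_mem_Z B')) h

theorem mem_coprime (hM : IsPModular p M) (hf : Function.Surjective f) (hk : ¬ p ∣ Nat.card f.ker)
    (hB : IsPBlock M B) (hB' : IsPBlock M B') (hχ : χ ∈ B') (h : infl hf χ ∈ B) {θ : IrrCharacter G} :
    θ ∈ B ↔ ∃ ψ ∈ B', infl hf ψ = θ := by
  refine ⟨fun hθ => ?_, by rintro ⟨ψ, hψ, rfl⟩; exact infl_mem hM hf hB hB' hχ h hψ⟩
  obtain ⟨ψ, rfl⟩ := exists_infl hf (ker_of_mem hM hk hB h hθ (infl_ker hf χ))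
  refine ⟨ψ, ?_, rfl⟩
  rw [eq_blockOf hM hB' hχ]
  exact sameBlock_coprime hM hf hk (sameBlock_of_mem hM hB h hθ)

theorem principal_coprime (hM : IsPModular p M) (hf : Function.Surjective f) (hk : ¬ p ∣ Nat.card f.ker)
    {θ : IrrCharacter G} : θ ∈ principalBlock M G ↔ ∃ ψ ∈ principalBlock M G', infl hf ψ = θ :=
  mem_coprime hM hf hk isPBlock_principal isPBlock_principal (triv_mem_principal hM) (triv_mem_principal hM)

theorem sum_principal_coprime (hM : IsPModular p M) (hf : Function.Surjective f) (hk : ¬ p ∣ Nat.card f.ker)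
    {A : Type*} [AddCommMonoid A] (F : IrrCharacter G → A) :
    ∑ θ ∈ fs (principalBlock M G), F θ = ∑ ψ ∈ fs (principalBlock M G'), F (infl hf ψ) := by
  classical
  rw [← Finset.sum_image fun _ _ _ _ h => infl_inj hf h]
  refine Finset.sum_congr (Finset.ext fun θ => ?_) fun _ _ => rfl
  simp [principal_coprime hM hf hk]

theorem reg_unique (hk : IsPGroup p f.ker) {g g' : G} (hg : ¬ p ∣ orderOf g) (hg' : ¬ p ∣ orderOf g')
    (h : g ∈ CS f.ker) (e : f g = f g') : g = g' := by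
  have h1 : g⁻¹ * g' ∈ f.ker := by simp [MonoidHom.mem_ker, e]
  have h2 : Commute (g⁻¹ * g') g := h _ h1
  have := pp_mul_of_commute hp.out h2 (isPElt_of_mem hp.out hk h1) hg
  rw [h2.eq, mul_inv_cancel_left, pp_of_not_dvd hp.out hg'] at this
  exact inv_mul_eq_one.1 this.symm

theorem exists_reg (hf : Function.Surjective f) {y : G'} (hy : ¬ p ∣ orderOf y) : ∃ g, ¬ p ∣ orderOf g ∧ f g = y := by
  obtain ⟨g, rfl⟩ := hf y
  exact ⟨pq p g, not_dvd_orderOf_pq hp.out g, by rw [map_pq hp.out, pq_of_not_dvd hp.out hy]⟩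

theorem lift_reg (hf : Function.Surjective f) (hk : IsPGroup p f.ker) {R : Type*} [CommRing R] {z' : R[G']}
    (hz : z' ∈ Z R G') (h1 : ∀ y, z'.coeff y ≠ 0 → ¬ p ∣ orderOf y)
    (h2 : ∀ g, ¬ p ∣ orderOf g → z'.coeff (f g) ≠ 0 → g ∈ CS f.ker) : ∃ z ∈ Z R G, mapA f z = z' := by
  classical
  cases nonempty_fintype G
  refine ⟨mk fun g => if p ∣ orderOf g then 0 else z'.coeff (f g), mk_mem_Z fun g h => by
    simp only [map_mul, map_inv, mem_Z.1 hz, H4.orderOf_conj], ext_coeff fun y => ?_⟩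
  rw [coeff_mapA]
  by_cases h : z'.coeff y = 0
  · rw [h]
    exact Finset.sum_eq_zero fun g hg => by simp [(Finset.mem_filter.1 hg).2, h]
  obtain ⟨g, h3, rfl⟩ := exists_reg hf (h1 y h)
  rw [Finset.sum_eq_single g (fun g' hg' e => ?_) (by simp), coeff_mk, if_neg h3]
  rw [coeff_mk]
  split_ifs with h4
  · rfl
  · exact absurd (reg_unique hk h3 h4 (h2 g h3 h) (Finset.mem_filter.1 hg').2.symm).symm e

theorem sameBlock_reg (hM : IsPModular p M) (hf : Function.Surjective f) (hk : IsPGroup p f.ker)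
    (H : ∀ g, ¬ p ∣ orderOf g → f g ∈ CS (pCore p G') → g ∈ CS f.ker)
    (h : SameBlock M (infl hf χ).1 (infl hf ψ).1) : SameBlock M χ.1 ψ.1 :=
  sameBlock_of_lift hM hf (fun B' hB' => lift_reg hf hk (eB_mem_Z B') (fun _ => not_dvd_of_eB_ne_zero hM hB')
    fun g h1 h2 => H g h1 (by
      rw [← Br_eB_normal hM hB' (pCore_isPGroup (p := p) (G := G'))] at h2
      exact mem_of_coeff_ne_zero (Br_mem_Sup _ _) h2)) h

theorem mapA_ne_zero (hM : IsPModular p M) (hk : IsPGroup p f.ker) {e : (k M)[G]} (h : e * e = e) (h0 : e ≠ 0) :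
    mapA f e ≠ 0 := fun h1 =>
  have := charP_k hM
  h0 (idem_eq_zero_of_isNilpotent h (isNilpotent_of_mapA_eq_zero f hk h1))

theorem exists_infl_mem (hM : IsPModular p M) (hf : Function.Surjective f) (hk : IsPGroup p f.ker) (hB : IsPBlock M B) :
    ∃ χ, infl hf χ ∈ B := by
  obtain ⟨B', hB', h⟩ := exists_mul_eB_ne_zero hM (mapA_ne_zero hM hk (eB_mul_self hM hB) (eB_ne_zero hM hB))
  obtain ⟨χ, hχ⟩ := block_nonempty hM hB'
  exact ⟨χ, (infl_mem_iff hM hf hB hB' hχ).2 (by rwa [← Z_comm (eB_mem_Z B')])⟩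

theorem Br_mapA {F : Type*} [Field F] [CharP F p] (f : G →* G') {D : Subgroup G} (hD : IsPGroup p D) {a : F[G]}
    (ha : a ∈ Fix F D) : Br (D.map f) (mapA f a) = mapA f (Br D a) := by
  classical
  cases nonempty_fintype G
  refine ext_coeff fun y => ?_
  by_cases hy : y ∈ CS (D.map f)
  · rw [coeff_trunc_of_mem _ hy, coeff_mapA, coeff_mapA, Finset.sum_filter, Finset.sum_filter,
      sum_eq_sum_fixed (nsmul_char p) hD ((MulAction.toPermHom (ConjAct G) G).comp
        (ConjAct.toConjAct.toMonoidHom.comp D.subtype)), Finset.sum_filter]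
    · refine Finset.sum_congr rfl fun x _ => ?_
      simp only [MonoidHom.comp_apply, MulAction.toPermHom_apply, MulAction.toPerm_apply,
        MulEquiv.coe_toMonoidHom, Subgroup.coe_subtype, ConjAct.toConjAct_smul, coeff_trunc, mul_inv_eq_iff_eq_mul]
      by_cases hx : x ∈ CS D
      · rw [if_pos fun u : D => hx u u.2, if_pos (show x ∈ ((CS D : Subgroup G) : Set G) from hx)]
      · rw [if_neg fun h => hx fun u hu => h ⟨u, hu⟩, if_neg (show x ∉ ((CS D : Subgroup G) : Set G) from hx), ite_self]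
    · intro u x
      simp only [MonoidHom.comp_apply, MulAction.toPermHom_apply, MulAction.toPerm_apply,
        MulEquiv.coe_toMonoidHom, Subgroup.coe_subtype, ConjAct.toConjAct_smul]
      rw [mem_Fix_coeff.1 ha u u.2]
      refine if_congr ?_ rfl rfl
      have := hy (f u) ⟨u, u.2, rfl⟩
      rw [map_mul, map_mul, map_inv, mul_inv_eq_iff_eq_mul, ← this, mul_right_inj]
  · rw [coeff_trunc_of_notMem _ hy, coeff_mapA]
    refine (Finset.sum_eq_zero fun g hg => coeff_trunc_of_notMem _ fun h => hy ?_).symm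
    rintro _ ⟨u, hu, rfl⟩
    rw [← (Finset.mem_filter.1 hg).2, ← map_mul, ← map_mul, h u hu]

theorem exists_pgroup_map (hf : Function.Surjective f) {D' : Subgroup G'} (hD : IsPGroup p D') :
    ∃ D : Subgroup G, IsPGroup p D ∧ D.map f = D' := by
  obtain ⟨D, h⟩ := exists_isSylowIn (p := p) (D'.comap f)
  have := h.map f
  rw [Subgroup.map_comap_eq_self_of_surjective hf] at this
  exact ⟨D, h.isPGroup, this.eq_of_isPGroup hD⟩

theorem dg_lift (hM : IsPModular p M) (hf : Function.Surjective f) (hB : IsPBlock M B) (hB' : IsPBlock M B')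
    (hχ : χ ∈ B') (h : infl hf χ ∈ B) {D' : Subgroup G'} (hD : IsDefectGroup p M B' D') :
    ∃ P, IsDefectGroup p M B P ∧ D' ≤ P.map f := by
  have := charP_k hM
  obtain ⟨D, h1, rfl⟩ := exists_pgroup_map hf (dg_isPGroup hD)
  have h2 := dg_Br_ne_zero hM hD
  rw [← mapA_eB_mul hM hf hB hB' hχ h] at h2
  have h3 := Br_mul_ne_zero_left (dg_isPGroup hD) (Z_le_Fix _ (mapA_mem_Z hf (eB_mem_Z B))) (Z_le_Fix _ (eB_mem_Z B')) h2
  rw [Br_mapA f h1 (Z_le_Fix _ (eB_mem_Z B))] at h3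
  obtain ⟨P, h4, h5⟩ := dg_exists_ge hM hB h1 fun e => h3 (by rw [e, map_zero])
  exact ⟨P, h4, Subgroup.map_mono h5⟩

theorem card_map_mul (f : G →* G') {P : Subgroup G} (h : f.ker ≤ P) : Nat.card (P.map f) * Nat.card f.ker = Nat.card P := by
  have := Subgroup.card_eq_card_quotient_mul_card_subgroup (f.domRestrict P).ker
  rw [Nat.card_congr (QuotientGroup.quotientKerEquivRange (f.domRestrict P)).toEquiv, MonoidHom.domRestrict_range,
    MonoidHom.ker_domRestrict, Nat.card_congr (Subgroup.subgroupOfEquivOfLe h).toEquiv] at this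
  exact this.symm

theorem exists_dg_map (hM : IsPModular p M) (hf : Function.Surjective f) (hk : IsPGroup p f.ker) (hB : IsPBlock M B)
    {P : Subgroup G} (hP : IsDefectGroup p M B P) :
    ∃ B', IsPBlock M B' ∧ (∀ χ ∈ B', infl hf χ ∈ B) ∧ IsDefectGroup p M B' (P.map f) := by
  have := charP_k hM
  have hz := mapA_mem_Z hf (eB_mem_Z (M := M) B)
  have h1 : Br (P.map f) (mapA f (eB M B)) ≠ 0 := by
    rw [Br_mapA f (dg_isPGroup hP) (Z_le_Fix _ (eB_mem_Z B))]
    exact mapA_ne_zero hM hk (Br_idem (dg_isPGroup hP) (Z_le_Fix _ (eB_mem_Z B)) (eB_mul_self hM hB)) (dg_Br_ne_zero hM hP)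
  rw [← mul_one (mapA f _), ← sum_eB hM, Finset.mul_sum, map_sum] at h1
  obtain ⟨B', hB', h2⟩ := Finset.exists_ne_zero_of_sum_ne_zero h1
  rw [mem_blocks] at hB'
  have h3 : ∀ χ ∈ B', infl hf χ ∈ B := fun χ hχ => (infl_mem_iff hM hf hB hB' hχ).2 fun e => h2 (by rw [e, map_zero])
  have h4 := (dg_isPGroup hP).map f
  obtain ⟨D, hD⟩ := exists_dg hM hB'
  obtain ⟨χ, hχ⟩ := block_nonempty hM hB'
  obtain ⟨Q, h5, h6⟩ := dg_lift hM hf hB hB' hχ (h3 χ hχ) hD
  refine ⟨B', hB', h3, dg_of_card_le hM hB' hD h4 (Br_mul_ne_zero_right h4 (Z_le_Fix _ hz) (Z_le_Fix _ (eB_mem_Z B')) h2)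
    ((Subgroup.card_le_of_le h6).trans (Nat.le_of_mul_le_mul_right ?_ (Nat.card_pos (α := f.ker))))⟩
  rw [card_map_mul f (normal_le_dg hM hB h5 hk), card_map_mul f (normal_le_dg hM hB hP hk), dg_card_eq hM hB h5 hP]

theorem rank_infl (hM : IsPModular p M) (hf : Function.Surjective f) (hk : IsPGroup p f.ker)
    (H : ∀ g, ¬ p ∣ orderOf g → g ∈ CS f.ker) (hB : IsPBlock M B) (hB' : IsPBlock M B') (hχ : χ ∈ B')
    (h : infl hf χ ∈ B) : blockRank p B = blockRank p B' := by
  classical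
  cases nonempty_fintype G
  cases nonempty_fintype G'
  let L : (G' → ℂ) →ₗ[ℂ] (G → ℂ) := regL G p ∘ₗ LinearMap.funLeft ℂ ℂ f
  have hL : ∀ θ, L θ = reg p fun g => θ (f g) := fun _ => rfl
  have h0 : ∀ θ, L (reg p θ) = L θ := fun θ => funext fun g => by
    rw [hL, hL]
    by_cases hg : p ∣ orderOf g
    · rw [reg_of_dvd _ hg, reg_of_dvd _ hg]
    · rw [reg_of_not_dvd _ hg, reg_of_not_dvd _ hg, reg_of_not_dvd _ (not_dvd_orderOf_map f hg)]
  have h1 : ∀ C C', IsPBlock M C → IsPBlock M C' → ∀ ψ ∈ C', infl hf ψ ∈ C → (RS p C').map L ≤ RS p C :=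
    fun C C' hC hC' ψ hψ h => Submodule.map_le_iff_le_comap.2 (Submodule.span_le.2 (by
      rintro _ ⟨ξ, hξ, rfl⟩
      exact Submodule.subset_span ⟨infl hf ξ, infl_mem hM hf hC hC' hψ h hξ, (h0 _).symm⟩))
  have h2 : (RS p B').map L = RS p B := by
    refine (h1 B B' hB hB' χ hχ h).antisymm (Submodule.span_le.2 ?_)
    rintro _ ⟨ξ, hξ, rfl⟩
    have h3 : ∀ g, ¬ p ∣ orderOf g → pq p (Function.surjInv hf (f g)) = g := fun g hg =>
      reg_unique hk (not_dvd_orderOf_pq hp.out _) hg (H _ (not_dvd_orderOf_pq hp.out _))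
        (by rw [map_pq hp.out, Function.surjInv_eq hf, ← map_pq hp.out, pq_of_not_dvd hp.out hg])
    have h3' : ∀ g, pq p (Function.surjInv hf (f g)) = pq p g := fun g =>
      reg_unique hk (not_dvd_orderOf_pq hp.out _) (not_dvd_orderOf_pq hp.out _) (H _ (not_dvd_orderOf_pq hp.out _))
        (by rw [map_pq hp.out, Function.surjInv_eq hf, ← map_pq hp.out])
    have h4 : IsClassFunction G' fun y => ξ.1 (pq p (Function.surjInv hf y)) := fun y z => by
      obtain ⟨g, rfl⟩ := hf y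
      obtain ⟨x, rfl⟩ := hf z
      rw [← map_inv, ← map_mul, ← map_mul]
      simp only [h3', pq_conj]
      exact H3.irr_class ξ.2 _ _
    have h5 : reg p ξ.1 = ∑ C' ∈ blocks G' M, L (reg p (blockPart C' fun y => ξ.1 (pq p (Function.surjInv hf y)))) := by
      rw [← map_sum, ← reg_sum, h0, hL]
      funext g
      by_cases hg : p ∣ orderOf g
      · rw [reg_of_dvd _ hg, reg_of_dvd _ hg]
      · rw [reg_of_not_dvd _ hg, reg_of_not_dvd _ hg, Finset.sum_apply, sum_blockPart hM h4, h3 g hg]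
    have h6 := congrArg (blockPart B) h5
    rw [blockPart_reg hM hB, blockPart_irr_of_mem hξ, blockPart_sum, Finset.sum_eq_single B'] at h6
    · refine ⟨_, reg_blockPart_mem B' (fun y => ξ.1 (pq p (Function.surjInv hf y))), ?_⟩
      rw [((RC.of_block hM hB).mem_iff.1 (h1 B B' hB hB' χ hχ h ⟨_, reg_blockPart_mem B' _, rfl⟩)).2] at h6
      exact h6.symm
    · intro C' hC' e
      rw [mem_blocks] at hC'
      obtain ⟨ψ, hψ⟩ := block_nonempty hM hC'
      have hC := isPBlock_blockOf (M := M) (infl hf ψ).2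
      have h7 := ((RC.of_block hM hC).mem_iff.1 (h1 _ C' hC hC' ψ hψ (mem_blockOf_self hM _)
        ⟨_, reg_blockPart_mem C' (fun y => ξ.1 (pq p (Function.surjInv hf y))), rfl⟩)).2
      rw [blockPart_eq]
      refine Finset.sum_eq_zero fun ζ hζ => ?_
      rw [inner_eq_zero_of_blockPart h7 fun h8 => e ?_, zero_smul]
      have h9 := block_eq_of_mem hM hB hC (mem_fs.1 hζ) h8
      refine block_eq_of_mem hM hC' hB' hψ ?_
      rw [eq_blockOf hM hB' hχ]
      exact sameBlock_reg hM hf hk (fun g hg _ => H g hg) (sameBlock_of_mem hM hB h (h9 ▸ mem_blockOf_self hM _))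
    · simp [hB']
  rw [blockRank_eq, blockRank_eq, ← h2, ← LinearMap.range_domRestrict]
  refine LinearMap.finrank_range_of_inj ((injective_iff_map_eq_zero _).2 fun θ hθ => Subtype.ext (funext fun y => ?_))
  rw [← reg_of_mem_RS θ.2]
  by_cases hy : p ∣ orderOf y
  · exact reg_of_dvd _ hy
  · obtain ⟨g, hg, rfl⟩ := exists_reg hf hy
    have := congrFun hθ g
    rw [LinearMap.domRestrict_apply, hL, reg_of_not_dvd _ hg] at this
    rwa [reg_of_not_dvd _ hy]

end H4
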