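import Cfsg.Agent.H4.Cyc3
import Cfsg.Agent.H4.Gal
import Cfsg.Agent.H4.Quot
import Cfsg.Agent.H4.Maj

/-!
# Brauer's `k(B)` bounds for small abelian defect groups
-/

set_option autoImplicit false
set_option linter.unusedSectionVars false

namespace H4
open MonoidAlgebra Cfsg H1 H3
open scoped Pointwise ComplexConjugate

variable {G G' : Type*} [Group G] [Finite G] [Group G'] [Finite G'] {M : Ideal AlgInt} {p : ℕ} [hp : Fact p.Prime]
  {f : G →* G'} {B : Set (IrrCharacter G)} {B' : Set (IrrCharacter G')} {θ η : G → ℂ} {D : Subgroup G}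

theorem inner_mem_O_of_div [Fintype G] (hθ : IsClassFunction G θ) (hη : IsClassFunction G η)
    (h : ∀ g, θ g * conj (η g) / Nat.card (C1 g) ∈ O M) : classInner θ η ∈ O M := by
  have := Fintype.ofFinite (ConjClasses G)
  have h1 := congrArg (ev fun _ => 1) (Z_eq_sum_cls (mk_mem_Z (f := fun g => θ g * conj (η g)) fun g x => by
    rw [hθ, hη]))
  rw [map_sum, ev_apply] at h1
  simp only [coeff_mk, mul_one, map_smul, ev_cls (χ := fun _ => 1) fun _ _ => rfl, smul_eq_mul] at h1
  rw [classInner, h1, Finset.mul_sum]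
  refine sum_mem fun C _ => ?_
  convert h C.out using 1
  have := card_ne_zero' (C1 C.out)
  have : ((C1 C.out).index : ℂ) ≠ 0 := Nat.cast_ne_zero.2 Subgroup.index_ne_zero_of_finite
  rw [← (C1 C.out).card_mul_index]
  push_cast; field_simp

variable (p f) in
/-- inflation of functions on regular elements -/
noncomputable def lf : (G' → ℂ) →ₗ[ℂ] (G → ℂ) := regL G p ∘ₗ LinearMap.funLeft ℂ ℂ f

theorem lf_apply (a : G' → ℂ) : lf p f a = reg p fun g => a (f g) := rfl

theorem inner_lf [Fintype G] [Fintype G'] (hf : Function.Surjective f) (hk : IsPGroup p f.ker)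
    (H : ∀ g, ¬ p ∣ orderOf g → g ∈ CS f.ker) (a b : G' → ℂ) :
    Nat.card f.ker * classInner (lf p f a) (lf p f b) = classInner (reg p a) b := by
  classical
  have h1 : ∑ g, lf p f a g * conj (lf p f b g) = ∑ y, reg p a y * conj (b y) := by
    rw [← Finset.sum_filter_of_ne (p := fun g => ¬ p ∣ orderOf g) fun g _ h e => h (by simp [lf_apply, reg_of_dvd _ e]),
      ← Finset.sum_filter_of_ne (p := fun g : G' => ¬ p ∣ orderOf g) fun g _ h e => h (by simp [reg_of_dvd _ e])]
    refine Finset.sum_nbij f (fun g hg => by simpa using not_dvd_orderOf_map f (by simpa using hg))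
      (fun g hg g' hg' e => reg_unique hk (by simpa using hg) (by simpa using hg') (H g (by simpa using hg)) e)
      (fun y hy => by simpa using exists_reg hf (by simpa using hy)) fun g hg => ?_
    have := (Finset.mem_filter.1 hg).2
    simp only [lf_apply, reg_of_not_dvd _ this, reg_of_not_dvd _ (not_dvd_orderOf_map f this)]
  have h2 := card_map_mul f (P := ⊤) le_top
  rw [Subgroup.map_top_of_surjective _ hf, Subgroup.card_top, Subgroup.card_top] at h2
  have := card_ne_zero' G'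
  have := card_ne_zero' f.ker
  rw [classInner, classInner, h1, ← h2]
  push_cast; field_simp

theorem RS_lf (hM : IsPModular p M) (hf : Function.Surjective f) (hk : IsPGroup p f.ker)
    (H : ∀ g, ¬ p ∣ orderOf g → g ∈ CS f.ker) (hB : IsPBlock M B) (hB' : IsPBlock M B')
    (h : ∀ χ ∈ B', infl hf χ ∈ B) : (RS p B').map (lf p f) = RS p B := by
  cases nonempty_fintype G
  cases nonempty_fintype G'
  obtain ⟨χ, hχ⟩ := block_nonempty hM hB'
  refine Submodule.eq_of_le_of_finrank_eq (Submodule.map_le_iff_le_comap.2 (Submodule.span_le.2 ?_)) ?_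
  · rintro _ ⟨ξ, hξ, rfl⟩
    refine Submodule.subset_span ⟨infl hf ξ, h ξ hξ, funext fun g => ?_⟩
    by_cases hg : p ∣ orderOf g
    · simp [lf_apply, reg_of_dvd _ hg]
    · simp [lf_apply, reg_of_not_dvd _ hg, reg_of_not_dvd _ (not_dvd_orderOf_map f hg)]
  rw [← blockRank_eq, rank_infl hM hf hk H hB hB' hχ (h χ hχ), blockRank_eq, ← LinearMap.range_domRestrict]
  refine LinearMap.finrank_range_of_inj ((injective_iff_map_eq_zero _).2 fun a ha => Subtype.ext ?_)
  have := inner_lf hf hk H a.1 a.1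
  rw [show lf p f a.1 = 0 from ha, reg_of_mem_RS a.2, H3.inner_zero_left, mul_zero] at this
  exact H3.inner_self_eq_zero this.symm

theorem gen_lf (hM : IsPModular p M) (H : ∀ g, ¬ p ∣ orderOf g → g ∈ CS f.ker) {φ : G' → ℂ}
    (hφ : IsGeneralizedCharacter G' φ) (h0 : ∀ y, p ∣ orderOf y → φ y = 0) :
    IsGeneralizedCharacter G ((Nat.card f.ker : ℂ) • lf p f φ) := by
  cases nonempty_fintype G
  have h1 := class_smul (Nat.card f.ker : ℂ) (class_reg (p := p) (gen_class (gen_comp hφ f)))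
  refine isGen_of_inner h1 fun ψ hψ => ?_
  obtain ⟨n, hn⟩ := inner_reg_rat (p := p) (gen_comp hφ f) (irr_gen hψ)
  refine int_of_mem_O hM (a := (Nat.card G).factorization p) (n := Nat.card f.ker * n)
    (by rw [H3.inner_smul_left, mul_left_comm, lf_apply, hn]; simp) (inner_mem_O_of_div h1 (irr_class hψ) fun g => ?_)
  by_cases hg : p ∣ orderOf g
  · simp [lf_apply, reg_of_dvd _ hg]
  obtain ⟨m, hm⟩ := Subgroup.card_dvd_of_le (show (C1 g).map f ≤ C1 (f g) by
    rintro _ ⟨x, hx, rfl⟩; exact mem_centralizer_singleton.2 ((mem_centralizer_singleton.1 hx).map f))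
  convert mul_mem (mul_mem (div_card_mem_O hM (gen_mem_OC hφ) h0 (f g)) (natCast_mem _ m))
    (mem_O_of_isIntegral (isIntegral_gen (gen_conj (irr_gen hψ)) g)) using 1
  have := card_ne_zero' ((C1 g).map f)
  have := card_ne_zero' f.ker
  have : (m : ℂ) ≠ 0 := Nat.cast_ne_zero.2 fun e => Nat.card_pos.ne' (hm.trans (by simp [e]))
  rw [← card_map_mul f (le_centralizer_singleton.2 (H g hg)), hm, Pi.smul_apply, lf_apply, reg_of_not_dvd _ hg, smul_eq_mul]
  push_cast; field_simp

/-- a root system of projective characters -/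
structure Rt (p : ℕ) (B : Set (IrrCharacter G)) [Fintype G] {ι : Type*} (s : Finset ι) (φ : ι → G → ℂ) (c : ℝ) : Prop where
  gen : ∀ i ∈ s, IsGeneralizedCharacter G (φ i)
  mem : ∀ i ∈ s, φ i ∈ RS p B
  sum : ∑ i ∈ s, φ i = 0
  sep : ∀ a ∈ RS p B, (∀ i ∈ s, classInner a (φ i) = 0) → a = 0
  le : ∑ i ∈ s, (classInner (φ i) (φ i)).re ≤ 2 * c

theorem Sec.card_le_of_rt {H : Subgroup G} [Fintype H] {z : H} {b : Set (IrrCharacter H)} (hM : IsPModular p M)
    (hz : Sec p z) (hind : IsInducedBlock M H b B) (hd : blockDefect p b = blockDefect p B) {ι : Type*} {s : Finset ι}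
    {φ : ι → H → ℂ} {c : ℝ} (h : Rt p b s φ c) : Nat.card B ≤ c := by
  classical
  cases nonempty_fintype G
  obtain ⟨n, hn⟩ := hz.exists_pow
  let L : ι → (H → ℂ) →ₗ[ℂ] ℂ := fun i =>
    ⟨⟨fun a => classInner a (φ i), fun a b => H3.inner_add_left a b _⟩, fun c a => H3.inner_smul_left c a _⟩
  have d1 : ∀ χ : IrrCharacter G, ∀ i ∈ s, (fun k => classInner (sb p (z ^ k) b χ.1) (φ i)) ∈ SF (p ^ (n + 1)) :=
    fun χ i hi => GV.map (L i) (by
      rintro _ ⟨θ, h1, -, rfl⟩
      obtain ⟨m, hm⟩ := inner_gen_int h1 (h.gen i hi)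
      exact mem_zmul_iff.2 ⟨m, .trans (by rw [← reg_of_mem_RS (h.mem i hi), ← inner_reg_left]; rfl) hm⟩)
      (sb_mem_GV hz.center hn b (irr_gen χ.2))
  have d2 : ∀ χ ∈ fs B, (2 : ℝ) ≤ ∑ i ∈ s, avg p n fun k => ‖classInner (sb p (z ^ k) b χ.1) (φ i)‖ ^ 2 := fun χ hχ => by
    obtain ⟨i, hi, h1⟩ : ∃ i ∈ s, classInner (sb p z b χ.1) (φ i) ≠ 0 := by
      by_contra! h1
      exact hz.sb_ne_zero hM hind hd (mem_fs.1 hχ) (h.sep _ (sb_mem _ _ _) h1)
    obtain ⟨j, hj, h2⟩ : ∃ j ∈ s.erase i, classInner (sb p z b χ.1) (φ j) ≠ 0 := by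
      by_contra! h2
      have := congrArg (classInner (sb p z b χ.1)) h.sum
      rw [H3.inner_sum_right, ← Finset.add_sum_erase _ _ hi, Finset.sum_eq_zero h2] at this
      simp [h1] at this
    have h3 : ∀ i ∈ s, classInner (sb p z b χ.1) (φ i) ≠ 0 →
        (1 : ℝ) ≤ avg p n fun k => ‖classInner (sb p (z ^ k) b χ.1) (φ i)‖ ^ 2 := fun i hi h1 => by
      simpa [avg] using (le_div_iff₀' card_Kp_pos).2 (SF.le_sum_norm hM (d1 χ i hi) (by simpa using h1) (j := 0) (fun k _ => by
        simpa using mem_O_iff.1 (mem_O_of_isIntegral (SF.integral (pow_ne_zero _ hp.out.ne_zero) (d1 χ i hi) k))) 2)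
    obtain ⟨h4, h5⟩ := Finset.mem_erase.1 hj
    refine le_trans ?_ (Finset.sum_le_sum_of_subset_of_nonneg (s := {j, i}) (by simp [Finset.insert_subset_iff, hi, h5])
      fun _ _ _ => div_nonneg (Finset.sum_nonneg fun _ _ => by positivity) (Nat.cast_nonneg _))
    rw [Finset.sum_pair h4]; linarith [h3 i hi h1, h3 j h5 h2]
  have d3 := Finset.sum_le_sum d2
  rw [Finset.sum_comm, Finset.sum_const, card_fs, nsmul_eq_mul, Finset.sum_congr rfl fun i hi => (avg_sum _ _).trans
    (avg_eq (c := (classInner (φ i) (φ i)).re) fun k hk => ?_)] at d3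
  · linarith [h.le]
  rw [← (hz.pow hk).gram hM hind (h.mem i hi) (h.mem i hi), Complex.re_sum]
  exact Finset.sum_congr rfl fun χ _ => by
    rw [← H3.inner_conj_symm _ (φ i), mul_comm, Complex.mul_conj', ← Complex.ofReal_pow, Complex.ofReal_re]

theorem Rt.lift [Fintype G] [Fintype G'] (hM : IsPModular p M) (hf : Function.Surjective f) (hk : IsPGroup p f.ker)
    (H : ∀ g, ¬ p ∣ orderOf g → g ∈ CS f.ker) (hB : IsPBlock M B) (hB' : IsPBlock M B') (h1 : ∀ χ ∈ B', infl hf χ ∈ B)
    {ι : Type*} {s : Finset ι} {φ : ι → G' → ℂ} {c : ℝ} (h : Rt p B' s φ c) :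
    Rt p B s (fun i => (Nat.card f.ker : ℂ) • lf p f (φ i)) (Nat.card f.ker * c) := by
  have h2 := RS_lf hM hf hk H hB hB' h1
  refine ⟨fun i hi => gen_lf hM H (h.gen i hi) fun y hy => by rw [← reg_of_mem_RS (h.mem i hi), reg_of_dvd _ hy],
    fun i hi => Submodule.smul_mem _ _ (h2 ▸ ⟨_, h.mem i hi, rfl⟩), by rw [← Finset.smul_sum, ← map_sum, h.sum]; simp,
    fun a ha h3 => ?_, ?_⟩
  · obtain ⟨a, h4, rfl⟩ := h2.ge ha
    rw [h.sep a h4 fun i hi => ?_, map_zero]
    rw [← reg_of_mem_RS h4, ← inner_lf hf hk H, ← h3 i hi, H3.inner_smul_right, map_natCast]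
  · rw [mul_left_comm]
    refine le_trans (le_of_eq ?_) (mul_le_mul_of_nonneg_left h.le (Nat.cast_nonneg _))
    rw [Finset.mul_sum]
    refine Finset.sum_congr rfl fun i hi => ?_
    rw [H3.inner_smul_left, H3.inner_smul_right, map_natCast, inner_lf hf hk H, reg_of_mem_RS (h.mem i hi)]
    simp

theorem cyc_rt [Fintype G] (hM : IsPModular p M) (hB : IsPBlock M B) (hD : IsDefectGroup p M B D) (hc : IsCyclic D)
    (h0 : D ≠ ⊥) : ∃ (s : Finset (Option (IrrCharacter G))) (φ : _ → G → ℂ), Rt p B s φ (Nat.card D) := by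
  classical
  have := Fintype.ofFinite D
  have := (Subgroup.nontrivial_iff_ne_bot D).2 h0
  obtain ⟨e, hm⟩ := exists_maxP hM hB hD
  have h := fb_cyc hM hB hm hc
  obtain ⟨Θ, x, h3⟩ := cyc_fs h hc h0
  obtain ⟨ζ, c, δ, h4, h5, h6⟩ := h3.dade (cyc_card_ge h hc h0)
  have h7 := h3.toFr.card_OS
  set Γ := ga D (Stab (NS D) e)
  set X := B \ ζ '' OS Γ
  let F : Option (IrrCharacter G) → G → ℂ := fun v => v.elim (-(δ : ℂ) • ∑ o ∈ OS Γ, (ζ o).1) fun χ => (c χ : ℂ) • χ.1
  obtain ⟨σ, h8, -⟩ := (fs X).insertNone.exists_cycleOn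
  have d2 : (δ : ℂ) * δ = 1 := by rcases h4.sign with e | e <;> simp [e]
  have c2 : ∀ χ ∈ X, (c χ : ℂ) * c χ = 1 := fun χ hχ => by rcases h6 χ hχ with e | e <;> simp [e]
  have ind : ∀ {P : Option (IrrCharacter G) → Prop}, P none → (∀ χ ∈ X, P (some χ)) → ∀ v ∈ (fs X).insertNone, P v :=
    fun h h' v hv => by cases v; exacts [h, h' _ (by simpa using hv)]
  have k1 : ∀ v ∈ (fs X).insertNone, IsGeneralizedCharacter G (F v) ∧ blockPart B (F v) = F v ∧
      ∀ g, p ∣ orderOf g → F v g = Θ 1 g := ind ⟨by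
      simpa [F] using gen_intCast_smul (gen_sum _ _ fun o _ => irr_gen (ζ o).2) (-δ), by
      simp only [F, Option.elim, blockPart_smul, blockPart_sum]
      rw [Finset.sum_congr rfl fun o ho => blockPart_irr_of_mem (h4.mem o ho)], fun g hg => by
      rw [h3.congr (η := 1) (η' := -(δ : ℂ) • ∑ o ∈ OS Γ, x (ζ o)) fun t ht => by
        simp [Finset.sum_congr rfl fun o ho => h4.val o ho t ht, ← Finset.mul_sum, h3.toFr.sum_OS_apply ht, d2]]
      simp [F, Finset.sum_congr rfl fun o ho => h3.exp _ (h4.mem o ho) g hg]⟩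
    fun χ hχ => ⟨gen_intCast_smul (irr_gen χ.2) _, by simp only [F, Option.elim, blockPart_smul, blockPart_irr_of_mem hχ.1],
      fun g hg => by
        rw [h3.congr (η := 1) (η' := (c χ : ℂ) • x χ) fun t ht => by simp [(h4.val' χ hχ).2 t ht, c2 χ hχ]]
        simp [F, h3.exp χ hχ.1 g hg]⟩
  have k2 : ∀ v ∈ (fs X).insertNone, σ v ∈ (fs X).insertNone := fun v hv => h8.apply_mem_iff.2 hv
  have k3 : ∀ v, v ∈ (fs X).insertNone ↔ σ v ∈ (fs X).insertNone := fun _ => h8.apply_mem_iff.symm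
  have k4 : ∀ χ ∈ X, ∀ o ∈ OS Γ, ζ o ≠ χ := fun χ hχ o ho e => hχ.2 ⟨o, ho, e⟩
  have k5 : ∀ v ∈ (fs X).insertNone, ∀ w ∈ (fs X).insertNone, classInner (F v) (F w) =
      if v = w then v.elim ((OS Γ).card : ℂ) fun _ => 1 else 0 := ind (ind (by
      simp only [F, Option.elim, H3.inner_smul_left, H3.inner_smul_right, H3.inner_sum_left, H3.inner_sum_right,
        H3.irr_inner (Subtype.prop _) (Subtype.prop _), Subtype.val_inj]
      rw [Finset.sum_congr rfl fun o ho => congrArg _ ((Finset.sum_congr rfl fun o' ho' =>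
        if_congr (h4.inj.eq_iff ho' ho) rfl rfl).trans (Finset.sum_ite_eq_of_mem' _ _ _ ho))]
      simp [mul_left_comm (δ : ℂ), d2]) fun χ hχ => by
      simp only [F, Option.elim, H3.inner_smul_left, H3.inner_smul_right, H3.inner_sum_left,
        H3.irr_inner (Subtype.prop _) (Subtype.prop _), Subtype.val_inj]
      simp [Finset.sum_congr rfl fun o ho => if_neg (k4 χ hχ o ho)]) fun χ hχ => ind (by
      simp only [F, Option.elim, H3.inner_smul_left, H3.inner_smul_right, H3.inner_sum_right,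
        H3.irr_inner (Subtype.prop _) (Subtype.prop _), Subtype.val_inj]
      simp [Finset.sum_congr rfl fun o ho => if_neg (k4 χ hχ o ho).symm]) fun ψ hψ => by
      simp only [F, Option.elim, H3.inner_smul_left, H3.inner_smul_right,
        H3.irr_inner (Subtype.prop _) (Subtype.prop _), Subtype.val_inj, Option.some_inj]
      split_ifs with e <;> simp [e, c2 ψ hψ]
  obtain ⟨χ, hχ⟩ : X.Nonempty := (Set.ncard_pos (Set.toFinite X)).1 (Nat.card_pos.trans_eq h5.symm)
  refine ⟨_, fun v => F (σ v) - F v, fun v hv => gen_sub (k1 _ (k2 v hv)).1 (k1 v hv).1, fun v hv =>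
    (RC.of_block hM hB).mem_iff.2 ⟨funext fun g => ?_, ?_⟩, by
      rw [Finset.sum_sub_distrib, Finset.sum_equiv σ k3 fun _ _ => rfl, sub_self],
    fun a ha h9 => ?_, ?_⟩
  · by_cases hg : p ∣ orderOf g
    · simp [reg_of_dvd _ hg, (k1 _ (k2 v hv)).2.2 g hg, (k1 v hv).2.2 g hg]
    · exact reg_of_not_dvd _ hg
  · exact (map_sub (bpL B) _ _).trans (congrArg₂ _ (k1 _ (k2 v hv)).2.1 (k1 v hv).2.1)
  · have k6 : ∀ v ∈ (fs X).insertNone, classInner a (F v) = classInner a (F none) := fun v hv => by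
      obtain ⟨n, -, rfl⟩ := h8.exists_pow_eq (a := none) (by simp) hv
      clear hv
      induction n with
      | zero => rfl
      | succ n ih =>
        rw [← ih, pow_succ', Equiv.Perm.mul_apply, ← sub_eq_zero, ← H3.inner_sub_right]
        exact h9 _ ((h8.1.perm_pow n).mapsTo (by simp))
    have k7 : ∀ {b b'}, (∀ g, ¬ p ∣ orderOf g → b g = b' g) → classInner a b = classInner a b' := fun h => by
      rw [← reg_of_mem_RS ha, inner_reg_left, inner_reg_left]
      exact congrArg _ (funext fun g => by simp only [reg]; split_ifs with e; exacts [rfl, h g e])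
    have k8 : ∀ o ∈ OS Γ, δ * classInner a (ζ o).1 = Nat.card Γ * classInner a (F none) := fun o ho => by
      rw [← h5, ← card_fs, ← nsmul_eq_mul, ← Finset.sum_const, ← Finset.sum_congr rfl fun χ hχ => k6 (some χ) (by simpa using hχ),
        ← H3.inner_sum_right, ← k7 (b := (δ : ℂ) • (ζ o).1) (b' := ∑ χ ∈ fs X, F (some χ)) fun g hg => by
          simpa [F, neg_add_eq_zero] using h4.rel o ho g hg, H3.inner_smul_right, map_intCast]
    have k9 : classInner a (F none) = 0 := by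
      have : classInner a (F none) = -∑ o ∈ OS Γ, δ * classInner a (ζ o).1 := by
        simp only [F, Option.elim, H3.inner_smul_right, H3.inner_sum_right, ← Finset.mul_sum]; simp
      rw [Finset.sum_congr rfl k8, Finset.sum_const, nsmul_eq_mul] at this
      refine mul_left_cancel₀ (card_ne_zero' D) ?_
      rw [← h7]; push_cast; linear_combination this
    rw [← ((RC.of_block hM hB).mem_iff.1 ha).2, blockPart_eq]
    refine Finset.sum_eq_zero fun ψ hψ => smul_eq_zero_of_left ?_ _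
    by_cases e : ψ ∈ ζ '' OS Γ
    · obtain ⟨o, ho, rfl⟩ := e
      linear_combination δ * k8 o ho - classInner a (ζ o).1 * d2 + δ * Nat.card Γ * k9
    · have := (k6 (some ψ) (by simpa using ⟨mem_fs.1 hψ, e⟩)).trans k9
      simp only [F, Option.elim, H3.inner_smul_right, map_intCast] at this
      linear_combination c ψ * this - classInner a ψ.1 * c2 ψ ⟨mem_fs.1 hψ, e⟩
  · have k6 : ∀ v ∈ (fs X).insertNone, σ v ≠ v := fun v hv => h8.apply_ne ⟨none, by simp, some χ, by simpa using hχ, by simp⟩ hv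
    rw [Finset.sum_congr rfl fun v hv => by
      rw [H3.inner_sub_left, H3.inner_sub_right, H3.inner_sub_right, k5 _ (k2 v hv) _ (k2 v hv), k5 _ (k2 v hv) _ hv,
        k5 _ hv _ (k2 v hv), k5 _ hv _ hv, if_pos rfl, if_pos rfl, if_neg (k6 v hv), if_neg (k6 v hv).symm, sub_zero,
        zero_sub, sub_neg_eq_add, Complex.add_re], Finset.sum_add_distrib,
      Finset.sum_equiv σ k3 (g := fun v => (v.elim ((OS Γ).card : ℂ) fun _ => 1).re) fun _ _ => rfl, Finset.sum_insertNone, ← h7]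
    have e1 : (1 : ℝ) ≤ Nat.card Γ := by exact_mod_cast Nat.card_pos
    have e2 : (1 : ℝ) ≤ (OS Γ).card := by exact_mod_cast Finset.card_pos.2 h3.toFr.nonempty
    simp [card_fs, h5, -Nat.card_eq_fintype_card, -Nat.card_coe_set_eq]
    nlinarith [mul_nonneg (sub_nonneg.2 e1) (sub_nonneg.2 e2)]

theorem card_le_pow_mul_rank {H : Subgroup G} {z : H} {b : Set (IrrCharacter H)} (hM : IsPModular p M)
    (hz : Sec p z) (hind : IsInducedBlock M H b B) (hd : blockDefect p b = blockDefect p B) :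
    Nat.card B ≤ p ^ blockDefect p B * blockRank p b := by
  cases nonempty_fintype G
  cases nonempty_fintype H
  obtain ⟨n, hn⟩ := hz.exists_pow
  have q0 : (0 : ℝ) < p ^ blockDefect p b := by exact_mod_cast pow_pos hp.out.pos _
  have := Finset.sum_le_sum fun χ (hχ : χ ∈ fs B) => hz.le_aD hM hn (hz.sb_ne_zero hM hind hd (mem_fs.1 hχ))
    (m := 1 / p ^ blockDefect p b) fun a ha h0 => by
      obtain ⟨m, h1, -, h3⟩ := LS_pos hM ha h0
      rw [h3]; gcongr; exact_mod_cast h1
  rw [hz.sum_aD hM hind, Finset.sum_const, nsmul_eq_mul, mul_div_cancel₀ _ q0.ne', card_fs, hd, mul_one] at this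
  exact_mod_cast this

theorem exists_major_quot (hM : IsPModular p M) (hB : IsPBlock M B) (hD : IsDefectGroup p M B D) {u : G} (hu : u ∈ D)
    (hu' : u ∈ CS D) : ∃ (b : Set (IrrCharacter (C1 u))) (_ : (Subgroup.zpowers (cEl u)).Normal)
      (B' : Set (IrrCharacter (C1 u ⧸ Subgroup.zpowers (cEl u)))) (D' : Subgroup (C1 u ⧸ Subgroup.zpowers (cEl u))),
      IsInducedBlock M _ b B ∧ blockDefect p b = blockDefect p B ∧ IsPBlock M B' ∧ IsDefectGroup p M B' D' ∧
      D' = (D.subgroupOf _).map (QuotientGroup.mk' _) ∧ blockRank p b = blockRank p B' ∧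
      Nat.card D' * orderOf u = Nat.card D ∧ (IsCyclic D' → Nat.card B ≤ Nat.card D) := by
  obtain ⟨b, h1, h2, h3⟩ := exists_major hM hB hD hu hu'
  have hz := sec_cEl (isPElt_of_mem hp.out (dg_isPGroup hD) hu)
  have h4 : Subgroup.zpowers (cEl u) ≤ Subgroup.center _ := Subgroup.zpowers_le.2 hz.center
  have : (Subgroup.zpowers (cEl u)).Normal := ⟨fun x hx g => by rwa [Subgroup.mem_center_iff.1 (h4 hx) g, mul_inv_cancel_right]⟩
  have hf := QuotientGroup.mk'_surjective (Subgroup.zpowers (cEl u))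
  have h5 : Subgroup.zpowers (cEl u) ≤ D.subgroupOf _ := Subgroup.zpowers_le.2 hu
  have hk : IsPGroup p (QuotientGroup.mk' (Subgroup.zpowers (cEl u))).ker := by
    rw [QuotientGroup.ker_mk']; exact (dg_isPGroup h2).to_le h5
  have H : ∀ g, ¬ p ∣ orderOf g → g ∈ CS (QuotientGroup.mk' (Subgroup.zpowers (cEl u))).ker := fun g _ x hx =>
    (Subgroup.mem_center_iff.1 (h4 (by simpa using hx)) g).symm
  have h6 : Nat.card (QuotientGroup.mk' (Subgroup.zpowers (cEl u))).ker = orderOf u := by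
    rw [QuotientGroup.ker_mk', Nat.card_zpowers, ← Subgroup.orderOf_coe]
  obtain ⟨B', h7, h8, h9⟩ := exists_dg_map hM hf hk h1.1 h2
  obtain ⟨χ, hχ⟩ := block_nonempty hM h7
  have h10 := rank_infl hM hf hk H h1.1 h7 hχ (h8 χ hχ)
  have h11 := card_map_mul (QuotientGroup.mk' (Subgroup.zpowers (cEl u))) (P := D.subgroupOf _) (by rwa [QuotientGroup.ker_mk'])
  rw [h6, card_subgroupOf (le_centralizer_singleton.2 hu')] at h11
  refine ⟨b, this, B', _, h1, h3, h7, h9, rfl, h10, h11, fun hc => ?_⟩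
  by_cases h0 : (D.subgroupOf _).map (QuotientGroup.mk' (Subgroup.zpowers (cEl u))) = ⊥
  · have h9 := dg_card hM h7 h9
    rw [h0, Subgroup.card_bot, eq_comm, pow_eq_one_iff_right hp.out.ne_one] at h9
    simpa [h10, rank_eq_one_of_defect hM h7 h9, dg_card hM hB hD, -Nat.card_coe_set_eq] using
      card_le_pow_mul_rank hM hz h1 h3
  cases nonempty_fintype (C1 u ⧸ Subgroup.zpowers (cEl u))
  cases nonempty_fintype (C1 u)
  obtain ⟨s, φ, h⟩ := cyc_rt hM h7 h9 hc h0
  rw [← h11, mul_comm, ← h6]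
  exact_mod_cast hz.card_le_of_rt hM h1 h3 (h.lift hM hf hk H h1.1 h7 h8)

theorem map_closure_insert {u : G} [(Subgroup.zpowers (cEl u)).Normal] {S : Set G} (hD : D = Subgroup.closure (insert u S))
    (h : D ≤ C1 u) : (D.subgroupOf _).map (QuotientGroup.mk' (Subgroup.zpowers (cEl u))) =
      Subgroup.closure (QuotientGroup.mk' _ '' ((C1 u).subtype ⁻¹' S)) := by
  have h1 : D.subgroupOf (C1 u) = Subgroup.closure (insert (cEl u) ((C1 u).subtype ⁻¹' S)) :=
    Subgroup.map_injective (C1 u).subtype_injective (by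
      rw [Subgroup.map_subgroupOf_eq_of_le h, MonoidHom.map_closure, Set.image_insert_eq, Set.image_preimage_eq_of_subset
        fun x hx => ⟨⟨x, h (hD ▸ Subgroup.subset_closure (.inr hx))⟩, rfl⟩, hD]; rfl)
  rw [h1, MonoidHom.map_closure, Set.image_insert_eq, show QuotientGroup.mk' _ (cEl u) = 1 from
    (QuotientGroup.eq_one_iff _).2 (Subgroup.mem_zpowers _), Subgroup.closure_insert_one]

theorem card_le_of_two_gen (hM : IsPModular p M) (hB : IsPBlock M B) (hD : IsDefectGroup p M B D) {u v : G}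
    (h : D = Subgroup.closure {u, v}) (huv : Commute u v) : Nat.card B ≤ Nat.card D := by
  have hu : u ∈ D := h ▸ Subgroup.subset_closure (by simp)
  have h0 : D ≤ C1 u := h ▸ (Subgroup.closure_le _).2 (by
    simpa [Set.insert_subset_iff, mem_centralizer_singleton] using huv)
  obtain ⟨b, _, B', _, -, -, -, -, rfl, -, -, h7⟩ := exists_major_quot hM hB hD hu (le_centralizer_singleton.1 h0)
  refine h7 ?_
  rw [map_closure_insert h h0, show (C1 u).subtype ⁻¹' {v} = {⟨v, mem_centralizer_singleton.2 huv⟩} by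
    ext; simp [Subtype.ext_iff], Set.image_singleton, ← Subgroup.zpowers_eq_closure]
  infer_instance

theorem card_le_of_three_gen (hM : IsPModular p M) (hB : IsPBlock M B) (hD : IsDefectGroup p M B D) {u v w : G}
    (h : D = Subgroup.closure {u, v, w}) (huv : Commute u v) (huw : Commute u w) (hvw : Commute v w)
    (h1 : orderOf v ≤ orderOf u) (h2 : orderOf w ≤ orderOf u) : Nat.card B ^ 3 ≤ Nat.card D ^ 5 := by
  have hu : u ∈ D := h ▸ Subgroup.subset_closure (by simp)
  have h0 : D ≤ C1 u := h ▸ (Subgroup.closure_le _).2 (by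
    simpa [Set.insert_subset_iff, mem_centralizer_singleton] using And.intro huv huw)
  obtain ⟨b, _, B', D', h3, h4, h5, h6, h7, h8, h9, -⟩ := exists_major_quot hM hB hD hu (le_centralizer_singleton.1 h0)
  let v' : C1 u := ⟨v, mem_centralizer_singleton.2 huv⟩
  let w' : C1 u := ⟨w, mem_centralizer_singleton.2 huw⟩
  rw [map_closure_insert h h0, show (C1 u).subtype ⁻¹' {v, w} = {v', w'} by ext; simp [Subtype.ext_iff, v', w'],
    Set.image_pair] at h7
  have h10 : Commute v' w' := Subtype.ext hvw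
  have h11 := card_le_pow_mul_rank hM (sec_cEl (isPElt_of_mem hp.out (dg_isPGroup hD) hu)) h3 h4
  rw [← dg_card hM hB hD, h8] at h11
  have h12 := h11.trans (Nat.mul_le_mul_left _ ((rank_le_card _).trans (card_le_of_two_gen hM h5 h6 h7 (h10.map _))))
  have h13 : Nat.card D' ≤ orderOf u * orderOf u := by
    rw [h7, Set.insert_eq, Subgroup.closure_union, ← Subgroup.zpowers_eq_closure, ← Subgroup.zpowers_eq_closure]
    refine (Nat.le_mul_of_pos_right _ Nat.card_pos).trans ((card_sup_mul_card_inf (Subgroup.zpowers_le.2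
      (Subgroup.centralizer_le_normalizer _ (by
        rw [centralizer_zpowers]; exact mem_centralizer_singleton.2 (h10.map _).symm)))).trans_le ?_)
    rw [Nat.card_zpowers, Nat.card_zpowers]
    exact Nat.mul_le_mul ((Nat.le_of_dvd (orderOf_pos v') (orderOf_map_dvd _ _)).trans ((Subgroup.orderOf_coe v').symm.trans_le h1)) ((Nat.le_of_dvd (orderOf_pos w') (orderOf_map_dvd _ _)).trans
      ((Subgroup.orderOf_coe w').symm.trans_le h2))
  calc _ ≤ (Nat.card D * Nat.card D') ^ 3 := by gcongr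
    _ = Nat.card D ^ 3 * (Nat.card D' ^ 2 * Nat.card D') := by ring
    _ ≤ Nat.card D ^ 3 * (Nat.card D' ^ 2 * (orderOf u * orderOf u)) := by gcongr
    _ = _ := by rw [← h9]; ring

theorem card_le_of_height (hM : IsPModular p M) (hB : IsPBlock M B) {ψ : IrrCharacter G} (hψ : ψ ∈ B)
    (h : blockHeight p B ψ.1 ≠ 0) : 2 * (Nat.card B * p ^ 2) ≤ p ^ (2 * blockDefect p B) := by
  classical
  obtain ⟨a, ha⟩ := exists_amat hM hB
  obtain ⟨χ, h1, h2⟩ := exists_height_zero hM hB
  have h3 : ∀ ζ ∈ B, ∀ S ⊆ (fs B).erase ζ, (∀ ξ ∈ S, (p : ℤ) ^ 2 ≤ a ζ ξ * a ζ ξ) →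
      4 * (S.card * (p : ℤ) ^ 2) ≤ p ^ (2 * blockDefect p B) := fun ζ hζ S hS h => by
    have := (Finset.sum_le_sum h).trans (Finset.sum_le_sum_of_subset_of_nonneg hS fun _ _ _ => mul_self_nonneg _)
    rw [Finset.sum_const, nsmul_eq_mul] at this
    linarith [ha.off_le hζ]
  have h4 : ∀ n, n ≠ 0 → (p : ℤ) ^ 2 ≤ p ^ (2 * n) := fun n hn =>
    pow_le_pow_right₀ (by exact_mod_cast hp.out.pos) (by omega)
  have h5 := h3 ψ hψ ((fs B).filter fun ξ => blockHeight p B ξ.1 = 0) (fun ξ hξ => Finset.mem_erase.2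
    ⟨fun e => h (e ▸ (Finset.mem_filter.1 hξ).2), (Finset.mem_filter.1 hξ).1⟩) fun ξ hξ => by
      have := mem_fs.1 (Finset.mem_filter.1 hξ).1
      exact ha.symm ξ this ψ hψ ▸ (h4 _ h).trans (ha.pow_le this (Finset.mem_filter.1 hξ).2 hψ)
  have h6 := h3 χ h1 ((fs B).filter fun ξ => ¬ blockHeight p B ξ.1 = 0) (fun ξ hξ => Finset.mem_erase.2
    ⟨fun e => (Finset.mem_filter.1 hξ).2 (e ▸ h2), (Finset.mem_filter.1 hξ).1⟩) fun ξ hξ =>
      (h4 _ (Finset.mem_filter.1 hξ).2).trans (ha.pow_le h1 h2 (mem_fs.1 (Finset.mem_filter.1 hξ).1))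
  rw [← card_fs, ← Finset.card_filter_add_card_filter_not (s := fs B) fun ξ => blockHeight p B ξ.1 = 0]
  refine Int.ofNat_le.1 ?_
  push_cast; linarith

end H4
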