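import Cfsg.Agent.H4.Maj

/-!
# More counting lemmas for blocks
`sep_blocks`, `card_first_main`, `sum_lamB_eB'`, `sum_conj_eq`, `two_le_card_pos`.
-/

set_option autoImplicit false
set_option linter.unusedSectionVars false

namespace H4
open MonoidAlgebra Cfsg H1
open scoped Pointwise ComplexConjugate

variable {G : Type*} [Group G] [Finite G] {M : Ideal AlgInt} {p : ℕ} [hp : Fact p.Prime]
  {B : Set (IrrCharacter G)} {χ ψ : IrrCharacter G} {θ η : G → ℂ}

theorem C1_inv (x : G) : C1 x⁻¹ = C1 x := by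
  ext g; simp [mem_centralizer_singleton]

theorem perm_mem_OC [Fintype G] (S : Subgroup G) : indFun S (fun _ => (1 : ℂ)) ∈ OC G M :=
  OC_indFun S (char_mem_OC H3.char_one)

theorem sep_blocks (hM : IsPModular p M) {D : Subgroup G} {ι : Type*} [Fintype ι] [DecidableEq ι] (x : ι → G)
    (hx : ∀ i j, IsConj (x i) (x j) → i = j) (hD : ∀ i, IsSylowIn p D (C1 (x i)))
    (hsep : ∀ i j g, IsConj (x j) g → IsPElt p (g * (x i)⁻¹) → g = x i) :
    ∃ B : ι → Set (IrrCharacter G), Function.Injective B ∧ (∀ i, IsPBlock M (B i) ∧ IsDefectGroup p M (B i) D) ∧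
      (Matrix.of fun i j => lamB M (B i) (cls (k M) (x j))).det ≠ 0 := by
  classical
  have := Fintype.ofFinite G
  obtain ⟨S, hS⟩ := exists_isSylowIn (p := p) (⊤ : Subgroup G)
  have key : (Matrix.of fun i j => ∑ B ∈ blocks G M with IsDefectGroup p M B D,
      lamB M B (cls (k M) (x j)) * red M (blockPart B (indFun S fun _ => 1) (x i)⁻¹)) =
      Matrix.diagonal fun _ => red M S.index := by
    ext i j
    rw [Matrix.of_apply, ← robinson hM (perm_mem_OC S) (hD j)
      (by rw [C1_inv, factorization_of_sylow (hD i)]), ev_mul_single, Finset.sum_eq_single (x i) _ (by simp),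
      mul_inv_cancel, H3.indFun_one, coeff_cls, Matrix.diagonal_apply]
    · by_cases h : i = j
      · rw [if_pos h, if_pos (h ▸ IsConj.refl _)]; simp
      · rw [if_neg h, if_neg fun e => h (hx _ _ e).symm]; simp
    · intro g _ hg
      by_contra h
      exact hg (hsep i j g (isConj_of_coeff_cls (left_ne_zero_of_mul h))
        (isPElt_of_perm_ne_zero hS.isPGroup (right_ne_zero_of_mul h)))
  obtain ⟨f, h1, h2, h3⟩ := exists_det_ne_zero _ _ _ (by
    rw [key, Matrix.det_diagonal]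
    exact Finset.prod_ne_zero_iff.2 fun _ _ => red_natCast_ne_zero hM (by simpa using hS.not_dvd))
  exact ⟨f, h2, fun i => by simpa using h1 i, h3⟩

theorem card_first_main (hM : IsPModular p M) {D : Subgroup G} (hD : IsPGroup p D) :
    Nat.card {B : Set (IrrCharacter G) // IsPBlock M B ∧ IsDefectGroup p M B D} =
      Nat.card {b : Set (IrrCharacter (NS D)) // IsPBlock M b ∧ IsDefectGroup p M b (D.subgroupOf (NS D))} := by
  choose f hf using fun B : {B : Set (IrrCharacter G) // IsPBlock M B ∧ IsDefectGroup p M B D} =>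
    first_main_exists hM B.2.1 B.2.2
  refine Nat.card_eq_of_bijective (fun B => ⟨f B, (hf B).1.1, (hf B).2⟩) ⟨fun B B' e => ?_, fun b => ?_⟩
  · have e' : f B = f B' := congrArg Subtype.val e
    exact Subtype.ext (ind_unique hM (hf B).1 (e' ▸ (hf B').1))
  · obtain ⟨B, hB⟩ := exists_ind hM hD Subgroup.le_normalizer (CS_le_NS D) le_rfl b.2.1
    exact ⟨⟨B, hB.2.1, first_main_dg hM hD b.2.2 hB⟩,
      Subtype.ext (first_main_unique hM hD b.2.2 hB (hf ⟨B, hB.2.1, first_main_dg hM hD b.2.2 hB⟩).1)⟩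

theorem sum_lamB_eB' (hM : IsPModular p M) (hB : IsPBlock M B) {B' : Set (IrrCharacter G)} (hB' : IsPBlock M B')
    [Decidable (B = B')] {ι : Type*} [Fintype ι] (x : ι → G) (hx : ∀ i j, IsConj (x i) (x j) → i = j)
    (h : ∀ g, (eB M B').coeff g ≠ 0 → lamB M B (cls (k M) g) ≠ 0 → ∃ i, IsConj (x i) g) :
    ∑ i, lamB M B (cls (k M) (x i)) * (eB M B').coeff (x i) = if B = B' then 1 else 0 := by
  rw [← sum_lamB_eB hM hB hB' (fun i => ConjClasses.mk (x i))
    (fun i j e => hx i j (ConjClasses.mk_eq_mk_iff_isConj.1 e))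
    fun g h1 h2 => (h g h1 h2).imp fun i e => ConjClasses.mk_eq_mk_iff_isConj.2 e]
  refine Finset.sum_congr rfl fun i _ => ?_
  rw [cls_congr (isConj_out (x i)), Z_coeff_isConj (eB_mem_Z B') (isConj_out (x i))]

theorem ev_mul_cls {a : ℂ[G]} (ha : a ∈ Z ℂ G) (hθ : IsClassFunction G θ) (y : G) :
    ev θ (a * cls ℂ y) = (C1 y).index * ev θ (a * single y 1) := by
  have := Fintype.ofFinite G
  have h1 : IsClassFunction G fun g => ev θ (a * single g 1) := fun g h => by
    show ev θ (a * single (h * g * h⁻¹) 1) = ev θ (a * single g 1)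
    rw [← cj_single, ← cj_of_mem_Z ha h, ← map_mul, ev_cj hθ, cj_of_mem_Z ha]
  rw [← ev_cls h1, ev_apply (fun g => ev θ (a * single g 1))]
  conv_lhs => rw [eq_sum_single (cls ℂ y), Finset.mul_sum, map_sum]
  simp only [mul_smul_comm, map_smul, smul_eq_mul]

theorem sum_conj_eq [Fintype G] (K : Subgroup G) [Fintype K] (y : G) (f : G → ℂ) :
    ∑ x : K, f (x * y * (x : G)⁻¹) = Nat.card (K ⊓ C1 y : Subgroup G) * ∑ g, (acls ℂ K y).coeff g * f g := by
  have h1 : acls ℂ (K ⊓ C1 y) y = single y 1 := by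
    classical
    refine ext_coeff fun g => ?_
    rw [coeff_acls, coeff_single']
    congr 1
    refine propext ⟨?_, fun e => ⟨1, one_mem _, by simpa using e⟩⟩
    rintro ⟨z, hz, rfl⟩
    rw [← (mem_centralizer_singleton.1 hz.2).eq]; simp
  have h2 := sum_cj_eq (R := ℂ) (T := K ⊓ C1 y) inf_le_left (acls_mem_Fix _ y)
  rw [← acls_eq_Tr inf_le_left le_rfl, h1] at h2
  have h3 := congrArg (ev f) h2
  rw [map_sum, map_nsmul, ev_apply, nsmul_eq_mul] at h3
  rw [← h3, Finset.sum_subtype (p := (· ∈ K)) (F := ‹Fintype K›) _ (fun x => mem_fs)]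
  simp

theorem two_le_card_pos {ι : Type*} (s : Finset ι) (a d r : ι → ℝ) {o : ι} (ho : o ∈ s) (ha : a o ≠ 0)
    (hd : ∀ i ∈ s, 0 < d i) (hr : ∀ i ∈ s, i ≠ o → r i ≠ r o) (h0 : ∑ i ∈ s, a i * d i = 0)
    (h1 : ∑ i ∈ s, a i * d i * r i = 0) (h2 : ∑ i ∈ s, a i * d i * r i ^ 2 = 0) :
    2 ≤ (s.filter fun i => 0 < a i).card := by
  by_contra h
  obtain ⟨j, hj⟩ : ∃ j, ∀ i ∈ s, 0 < a i → i = j := by
    rcases (s.filter fun i => 0 < a i).eq_empty_or_nonempty with e | ⟨j, hj⟩
    · exact ⟨o, fun i hi h3 => (Finset.filter_eq_empty_iff.1 e hi h3).elim⟩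
    · exact ⟨j, fun i hi h3 => Finset.card_le_one.1 (by omega) _ (Finset.mem_filter.2 ⟨hi, h3⟩) _ hj⟩
  have h3 : ∑ i ∈ s, a i * d i * (r i - r j) ^ 2 = 0 := by
    have : ∀ i ∈ s, a i * d i * (r i - r j) ^ 2 =
      a i * d i * r i ^ 2 - 2 * r j * (a i * d i * r i) + r j ^ 2 * (a i * d i) := fun i _ => by ring
    rw [Finset.sum_congr rfl this, Finset.sum_add_distrib, Finset.sum_sub_distrib, ← Finset.mul_sum,
      ← Finset.mul_sum, h0, h1, h2]; ring
  rw [Finset.sum_eq_zero_iff_of_nonpos fun i hi => ?_] at h3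
  · have h4 : ∀ i ∈ s, a i ≠ 0 → r i = r j := fun i hi h5 => by
      have := h3 i hi
      have := (hd i hi).ne'
      simp_all [sub_eq_zero]
    rw [Finset.sum_eq_single_of_mem o ho fun i hi e => ?_] at h0
    · exact mul_ne_zero ha (hd o ho).ne' h0
    · by_contra h5
      exact hr i hi e ((h4 i hi (left_ne_zero_of_mul h5)).trans (h4 o ho ha).symm)
  · by_cases h4 : 0 < a i
    · simp [hj i hi h4]
    · exact mul_nonpos_of_nonpos_of_nonneg (mul_nonpos_of_nonpos_of_nonneg (not_lt.1 h4) (hd i hi).le) (sq_nonneg _)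

theorem exists_orderOf_eq {g : G} {n : ℕ} (h : n ∣ orderOf g) : ∃ k : ℕ, orderOf (g ^ k) = n :=
  ⟨_, orderOf_pow_orderOf_div (orderOf_pos g).ne' h⟩

end H4
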