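import Cfsg.Agent.H4.Frob2
import Cfsg.Agent.H4.Maj2
import Cfsg.Agent.H4.Inv2
import Cfsg.Agent.H3.Chr
import Cfsg.Agent.H1.Misc

/-!
# Groups with a Klein four Sylow 2-subgroup
-/

set_option autoImplicit false
set_option linter.unusedSectionVars false

namespace H4
open MonoidAlgebra Cfsg H1
open scoped Pointwise ComplexConjugate

variable {G : Type*} [Group G] [Finite G] {M : Ideal AlgInt} {P : Sylow 2 G} {g s t w z y : G} {χ : IrrCharacter G}

theorem even_of_fs {χ : G → ℂ} [Fintype G] (hχ : IsIrrCharacter G χ) (h : H3.fs χ = -1) : Even (charDegree χ) := by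
  have h0 : ∑ g, χ g * χ g = Nat.card G := by
    have := H3.irr_inner_self hχ
    simp only [classInner, starRingEnd_apply, ← Complex.star_def, Complex.conj_eq_iff_im.2
      (H3.real_of_fs hχ (by simp [h]) _)] at this
    exact (inv_mul_eq_one₀ (H3.card_ne_zero' G)).1 this |>.symm
  replace h := (inv_mul_eq_iff_eq_mul₀ (H3.card_ne_zero' G)).1 h
  obtain ⟨n, ρ, hρ, rfl⟩ := hχ
  let X : G →* Matrix (Fin n) (Fin n) ℂ := (LinearMap.toMatrixAlgEquiv' (R := ℂ)).toMonoidHom.comp ρ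
  have h1 : ∀ g, ρ.character g = (X g).trace := fun g => (LinearMap.trace_eq_matrix_trace ℂ (Pi.basisFun ℂ _) _).trans
    (by rw [LinearMap.toMatrix_eq_toMatrix']; rfl)
  let N : Fin n → Fin n → Matrix (Fin n) (Fin n) ℂ := fun i j =>
    ∑ g, (X g).transpose * (Matrix.single i j 1 - Matrix.single j i 1) * X g
  obtain ⟨i, j, h2⟩ : ∃ i j, N i j ≠ 0 := by
    by_contra! h2
    have h3 : ∑ i, ∑ j, N i j i j = ∑ g, ρ.character g * ρ.character g - ∑ g, ρ.character (g * g) := by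
      simp only [N, h1, map_mul, Matrix.trace, Matrix.diag, Finset.sum_mul_sum, Matrix.mul_apply, Matrix.sum_apply,
        ← Finset.sum_sub_distrib]
      rw [Finset.sum_comm, Finset.sum_congr rfl fun _ _ => Finset.sum_comm, Finset.sum_comm]
      refine Finset.sum_congr rfl fun g _ => Finset.sum_comm.trans (Finset.sum_congr rfl fun i _ =>
        Finset.sum_congr rfl fun j _ => ?_)
      simp [Matrix.single_apply, mul_sub, sub_mul, Finset.sum_sub_distrib, ite_and, Finset.sum_mul, mul_comm]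
    simp only [h2, h0, h, Matrix.zero_apply, Finset.sum_const_zero] at h3
    exact H3.card_ne_zero' G (by linear_combination -h3 / 2)
  have h3 : ∀ g, (X g).transpose * N i j * X g = N i j := fun g => by
    simp only [N, Finset.mul_sum, Finset.sum_mul]
    exact Fintype.sum_equiv (Equiv.mulRight g) _ _ fun a => by simp [mul_assoc]
  have h4 : (N i j).det ≠ 0 := fun h4 => by
    let S : Subrepresentation ρ := ⟨LinearMap.ker (Matrix.toLin' (N i j)), fun g v hv => by
      have h5 := h3 g⁻¹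
      have h6 : N i j * X g = (X g⁻¹).transpose * N i j := by rw [← h3 g⁻¹, mul_assoc, ← map_mul]; simp [h3]
      have h7 := congrArg (Matrix.toLin' · v) h6
      rw [Matrix.toLin'_mul, Matrix.toLin'_mul, LinearMap.comp_apply, LinearMap.comp_apply, LinearMap.mem_ker.1 hv, map_zero,
        show Matrix.toLin' (X g) = ρ g from Matrix.toLin'_toMatrix' _] at h7
      exact h7⟩
    obtain ⟨v, h5, h6⟩ := Matrix.exists_mulVec_eq_zero_iff.2 h4
    rcases hρ.eq_bot_or_eq_top S with e | e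
    · exact h5 (show v ∈ (⊥ : Subrepresentation ρ).toSubmodule from e ▸ h6)
    · exact h2 (Matrix.toLin'.map_eq_zero_iff.1 (LinearMap.ker_eq_top.1 (congrArg Subrepresentation.toSubmodule e)))
  have h5 : (N i j).transpose = -N i j := by
    simp only [N, Matrix.transpose_sum, mul_assoc, ← Finset.sum_neg_distrib, Matrix.transpose_mul, Matrix.transpose_sub,
      Matrix.transpose_single, Matrix.transpose_transpose, mul_sub, sub_mul, neg_sub]
  have h6 := Matrix.det_transpose (N i j)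
  rw [h5, Matrix.det_neg, mul_eq_right₀ h4, neg_one_pow_eq_one_iff_even (by norm_num)] at h6
  rwa [charDegree_of_eq (n := n) (by simp), ← Fintype.card_fin n]

theorem k4_two (hP : IsKleinFour P) (h : IsPElt 2 g) (h1 : g ≠ 1) : orderOf g = 2 := by
  obtain ⟨x, hx⟩ := exists_conj_mem_sylow P h
  rw [← orderOf_conj g x]
  exact orderOf_two_of (congrArg Subtype.val (IsKleinFour.mul_self (⟨_, hx⟩ : P))) (by simpa using h1)

theorem isPElt_two (h : orderOf g = 2) : IsPElt 2 g := ⟨1, h⟩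

theorem k4_tri (hP : IsKleinFour P) (hz : orderOf z = 2) (hs : orderOf s = 2) (h : z ≠ s) (hc : Commute z s) :
    Nat.card (C1 z ⊓ C1 s : Subgroup G) = Nat.card (CS (P : Subgroup G)) ∧
      ∀ w, orderOf w = 2 → Commute z w → Commute s w → w = z ∨ w = s ∨ w = z * s := by
  have h1 := isKleinFour_sup hz hs h hc
  have h2 : IsSylowIn 2 (Subgroup.zpowers z ⊔ Subgroup.zpowers s) ⊤ :=
    (isSylowIn_top P).of_card_le (IsPGroup.of_card (n := 2) h1.1) le_top (hP.1.trans h1.1.symm).le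
  have h3 := CS_sup (Subgroup.zpowers z) (Subgroup.zpowers s)
  rw [CS_zpowers, CS_zpowers, inf_comm] at h3
  obtain ⟨x, -, h4⟩ := h2.conj (isSylowIn_top P)
  refine ⟨by rw [← h3, ← h4, CS_conj, card_conj_smul], fun w hw h5 h6 => by_contra fun h7 => ?_⟩
  have h8 := h2.mem_of_mem_normalizer trivial ⟨1, hw⟩ (CS_le_NS _
    (h3 ▸ ⟨mem_centralizer_singleton.2 h5, mem_centralizer_singleton.2 h6⟩))
  push Not at h7
  exact h7.2.2 (congrArg Subtype.val (IsKleinFour.eq_mul_of_ne_all (x := ⟨z, Subgroup.mem_sup_left (Subgroup.mem_zpowers z)⟩)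
    (y := ⟨s, Subgroup.mem_sup_right (Subgroup.mem_zpowers s)⟩) (z := ⟨w, h8⟩) (by simpa using ne_one_of_two hz)
    (by simpa using ne_one_of_two hs) (by simpa) (by simpa using ne_one_of_two hw) (by simpa using h7.1) (by simpa using h7.2.1)))

theorem two_mul_two (hz : orderOf z = 2) (ht : orderOf t = 2) (h : z ≠ t) (hc : Commute z t) : orderOf (z * t) = 2 :=
  orderOf_two_of (by rw [mul_assoc, ← mul_assoc t, ← hc.eq, mul_assoc, mul_self_of_two ht, mul_one, mul_self_of_two hz])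
    fun e => h (by rw [eq_inv_of_mul_eq_one_left e, inv_of_two ht])

theorem k4_nofus (hP : IsKleinFour P) (hz : orderOf z = 2) (ht : orderOf t = 2) (hc : Commute z t) (hy : Commute z y) :
    y * t * y⁻¹ ≠ z * t := fun e => by
  have h1 : Commute t (y ^ 2) := by
    have : y ^ 2 * t * (y ^ 2)⁻¹ = t := by
      rw [show y ^ 2 * t * (y ^ 2)⁻¹ = y * (y * t * y⁻¹) * y⁻¹ by simp [sq, mul_assoc], e, ← mul_assoc, ← hy.eq, mul_assoc z, mul_assoc z, e,
        ← mul_assoc, mul_self_of_two hz, one_mul]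
    exact (mul_inv_eq_iff_eq_mul.1 this).symm
  have h2 : Commute t (pq 2 y) := commute_of_pow_two_pow (n := 1) (not_dvd_orderOf_pq Nat.prime_two y) (by
    have := Commute.pq_right (p := 2) h1
    rwa [sq, ← pp_mul_pq (p := 2) y, ← sq, (commute_pp_pq y).mul_pow, pq_mul_of_commute Nat.prime_two
      ((commute_pp_pq y).pow_pow 2 2) ((isPElt_pp Nat.prime_two y).pow Nat.prime_two 2)
      (not_dvd_orderOf_pow (not_dvd_orderOf_pq Nat.prime_two y) 2)] at this)
  rw [← pp_mul_pq (p := 2) y, mul_assoc _ _ t, ← h2.eq, show ∀ a b : G, a * (t * b) * (a * b)⁻¹ = a * t * a⁻¹ from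
    fun a b => by group] at e
  have h3 : pp 2 y ≠ 1 := fun h => ne_one_of_two hz (by simpa [h] using e.symm)
  have h4 := k4_two hP (isPElt_pp Nat.prime_two y) h3
  have h5 : (pp 2 y * t) ^ 2 = z := by
    rw [inv_of_two h4] at e
    rw [sq, ← mul_assoc, e, mul_assoc, mul_self_of_two ht, mul_one]
  have h6 : IsPElt 2 (pp 2 y * t) := (isPElt_iff Nat.prime_two).2 ⟨2, by
    rw [show 2 ^ 2 = 2 * 2 from rfl, pow_mul, h5, ← hz, pow_orderOf_eq_one]⟩
  exact ne_one_of_two hz (h5.symm.trans (orderOf_dvd_iff_pow_eq_one.1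
    (k4_two hP h6 fun h => ne_one_of_two hz (by simp [← h5, h])).dvd))

theorem k4_pp (hP : IsKleinFour P) (hs : orderOf s = 2) (ht : orderOf t = 2) (h : 2 ∣ orderOf (s * t)) :
    orderOf (pp 2 (s * t)) = 2 ∧ Commute (pp 2 (s * t)) s ∧ Commute (pp 2 (s * t)) t ∧
      (Commute s t → pp 2 (s * t) = s * t) := by
  have h1 := k4_two hP (isPElt_pp Nat.prime_two (s * t)) fun e => (pp_eq_one_iff Nat.prime_two).1 e h
  have h2 : Commute (pp 2 (s * t)) s := by
    have := pp_conj (p := 2) (s * t) s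
    rw [show s * (s * t) * s⁻¹ = (s * t)⁻¹ by rw [← mul_assoc, mul_self_of_two hs, mul_inv_rev, inv_of_two ht, one_mul],
      pp_inv, inv_of_two h1] at this
    exact eq_mul_inv_iff_mul_eq.1 this
  refine ⟨h1, h2, ?_, fun hc => pp_of_isPElt Nat.prime_two ((isPElt_iff Nat.prime_two).2 ⟨1, ?_⟩)⟩
  · simpa [← mul_assoc, mul_self_of_two hs] using h2.mul_right (commute_pp (s * t))
  · rw [pow_one, hc.mul_pow, sq, sq, mul_self_of_two hs, mul_self_of_two ht, mul_one]

theorem k4_dich (hP : IsKleinFour P) (hz : orderOf z = 2) (hs : orderOf s = 2) (ht : orderOf t = 2) (h1 : Commute z s)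
    (h2 : Commute z t) (h3 : z ≠ s) (h4 : z ≠ t) : (¬ 2 ∣ orderOf (s * t) ∧ ∃ y ∈ C1 z, y * t * y⁻¹ = s) ∨
      (pp 2 (s * t) = z ∧ ∃ y ∈ C1 z, y * (z * t) * y⁻¹ = s) := by
  have k : ∀ t, orderOf t = 2 → Commute z t → ¬ 2 ∣ orderOf (s * t) → ∃ y ∈ C1 z, y * t * y⁻¹ = s := fun t ht h2 h => by
    obtain ⟨j, hj⟩ := dih_odd (mul_self_of_two hs) (mul_self_of_two ht) h
    exact ⟨_, inv_mem (pow_mem (mem_centralizer_singleton.2 (h1.mul_right h2)) j), by
      rw [inv_inv, mul_assoc, inv_mul_eq_iff_eq_mul, ← mul_inv_eq_iff_eq_mul.1 hj]⟩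
  by_cases h : 2 ∣ orderOf (s * t)
  · obtain ⟨k1, k2, k3, k4⟩ := k4_pp hP hs ht h
    have k5 : pp 2 (s * t) = z := by
      rcases (k4_tri hP hz hs h3 h1).2 _ k1 (Commute.pp_right (h1.mul_right h2)) k2.symm with e | e | e
      · exact e
      · exact (ne_one_of_two ht (by simpa [e] using k4 (e ▸ k3))).elim
      · have := (k4 (by have := h2.mul_left (e ▸ k3); rwa [← mul_assoc, mul_self_of_two hz, one_mul] at this)).symm.trans (e.trans h1.eq)
        exact (h4 (mul_left_cancel this).symm).elim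
    refine .inr ⟨k5, k _ (two_mul_two hz ht h4 h2) ((Commute.refl z).mul_right h2) ?_⟩
    rw [← mul_assoc, ← h1.eq, mul_assoc, ← pp_mul_pq (p := 2) (s * t), k5, ← mul_assoc, mul_self_of_two hz, one_mul]
    exact not_dvd_orderOf_pq Nat.prime_two _
  · exact .inl ⟨h, k t ht h2 h⟩

theorem sum_acls [Fintype G] (K : Subgroup G) (y : G) :
    Nat.card (K ⊓ C1 y : Subgroup G) * ∑ g, (acls ℂ K y).coeff g = Nat.card K := by
  have := Fintype.ofFinite K
  simpa [← Nat.card_eq_fintype_card] using (sum_conj_eq K y 1).symm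

theorem k4_count [Fintype G] (hP : IsKleinFour P) (hone : ∀ s t : G, orderOf s = 2 → orderOf t = 2 → IsConj s t)
    (ht : orderOf t = 2) : (∑ i, if 2 ∣ orderOf (i * t * i⁻¹ * t) then (1 : ℂ) else 0) *
      Nat.card (CS (P : Subgroup G)) ^ 2 = 2 * Nat.card (C1 t) ^ 3 := by
  classical
  obtain ⟨a, ha, h1, h2⟩ : ∃ a, orderOf a = 2 ∧ Commute t a ∧ t ≠ a := by
    obtain ⟨x, hx⟩ := exists_conj_mem_sylow P (isPElt_two ht)
    obtain ⟨a, h1, h2⟩ : ∃ a : P, a ≠ 1 ∧ a ≠ ⟨_, hx⟩ := by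
      by_contra! h
      have := Fintype.ofFinite P
      have := Finset.card_le_card (s := (Finset.univ : Finset P)) (t := {1, ⟨_, hx⟩}) fun a _ => by
        by_cases e : a = 1; exacts [by simp [e], by simp [h a e]]
      rw [Finset.card_univ, ← Nat.card_eq_fintype_card, hP.1] at this
      exact absurd (this.trans Finset.card_le_two) (by decide)
    refine ⟨x⁻¹ * a * x⁻¹⁻¹, (orderOf_conj _ _).trans (k4_two hP (isPElt_of_mem Nat.prime_two P.isPGroup' a.2) (by simpa)),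
      ?_, fun e => h2 (Subtype.ext (by simp [e, mul_assoc]))⟩
    simpa [mul_assoc] using (show Commute (x * t * x⁻¹) a from congrArg Subtype.val
      (IsKleinFour.isMulCommutative.1.1 (⟨_, hx⟩ : P) a)).map (MulAut.conj x⁻¹)
  have k1 : ∀ z, (acls ℂ (C1 t) a).coeff z + (acls ℂ (C1 t) (t * a)).coeff z =
      if orderOf z = 2 ∧ Commute z t ∧ z ≠ t then 1 else 0 := fun z => by
    have k2 : ∀ a, orderOf a = 2 → Commute t a → t ≠ a → (∃ y ∈ C1 t, y * a * y⁻¹ = z) →
        orderOf z = 2 ∧ Commute z t ∧ z ≠ t := by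
      rintro a ha h1 h2 ⟨y, hy, rfl⟩
      replace hy := mem_centralizer_singleton.1 hy
      exact ⟨(orderOf_conj _ _).trans ha, ((hy.mul_right h1).mul_right hy.inv_right).symm,
        fun e => h2 (mul_left_cancel ((hy.symm.eq.trans (mul_inv_eq_iff_eq_mul.1 e).symm)))⟩
    have k3 := k2 _ (two_mul_two ht ha h2 h1) ((Commute.refl t).mul_right h1) (by simpa using ne_one_of_two ha)
    rw [coeff_acls, coeff_acls]
    split_ifs with k4 k5 k6 _ _ k7 k8
    · obtain ⟨y, hy, rfl⟩ := k4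
      obtain ⟨y', hy', e⟩ := k5
      exact (k4_nofus hP ht ha h1 (mem_centralizer_singleton.1 (mul_mem (inv_mem hy') hy)) (by
        rw [show t * a = y'⁻¹ * (y' * (t * a) * y'⁻¹) * y' by group, e]; group)).elim
    · exact (k6 (k2 a ha h1 h2 k4)).elim
    · simp
    · exact absurd (k2 a ha h1 h2 k4) ‹_›
    · simp
    · exact absurd (k3 ‹_›) ‹_›
    · rcases k4_dich hP ht k8.1 ha k8.2.1.symm h1 k8.2.2.symm h2 with h | h
      exacts [(k4 h.2).elim, absurd h.2 ‹_›]
    · simp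
  have k2 : ∀ s, (acls ℂ ⊤ t).coeff s * (if 2 ∣ orderOf (s * t) then 1 else 0) =
      ∑ z, (if orderOf z = 2 ∧ Commute z t ∧ z ≠ t then 1 else 0) * (acls ℂ (C1 z) (z * t)).coeff s := fun s => by
    have k3 : ∀ z, orderOf z = 2 ∧ Commute z t ∧ z ≠ t → (∃ y ∈ C1 z, y * (z * t) * y⁻¹ = s) →
        orderOf s = 2 ∧ pp 2 (s * t) = z := by
      rintro z ⟨h3, h4, h5⟩ ⟨y, hy, rfl⟩
      have h6 := (orderOf_conj _ y).trans (two_mul_two h3 ht h5 h4)
      have h7 := mem_centralizer_singleton.1 hy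
      refine ⟨h6, ?_⟩
      rcases k4_dich hP h3 h6 ht ((h7.mul_right ((Commute.refl z).mul_right h4)).mul_right h7.inv_right) h4 (fun e =>
        ne_one_of_two ht (mul_left_cancel (a := z) (mul_left_cancel (a := y)
          (by rw [mul_one, mul_inv_eq_iff_eq_mul.1 e.symm, h7.eq])))) h5 with ⟨-, y', hy', e⟩ | h
      · exact (k4_nofus hP h3 ht h4 (mem_centralizer_singleton.1 (mul_mem (inv_mem hy) hy')) (by
          rw [show z * t = y⁻¹ * (y * (z * t) * y⁻¹) * y by group, ← e]; group)).elim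
      · exact h.1
    rw [Finset.sum_eq_single (pp 2 (s * t)) (fun z _ hz => ?_) (by simp), coeff_acls, coeff_acls]
    · simp only [mul_ite, mul_one, mul_zero, ← ite_and]
      congr 1
      refine propext ⟨fun ⟨h3, y, _, h4⟩ => ?_, fun ⟨h3, h4⟩ => ?_⟩
      · have h5 : orderOf s = 2 := h4 ▸ (orderOf_conj _ _).trans ht
        obtain ⟨h6, h7, h8, h9⟩ := k4_pp hP h5 ht h3
        have h10 : pp 2 (s * t) ≠ t := fun e => ne_one_of_two h5 (by simpa [e] using h9 (e ▸ h7).symm)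
        exact ⟨((k4_dich hP h6 h5 ht h7 h8 (fun e => ne_one_of_two ht (by simpa [e] using h9 (e ▸ h8))) h10).resolve_left
          fun h => h.1 h3).2, h6, h8, h10⟩
      · obtain ⟨y, hy⟩ := isConj_iff.1 (hone t s ht (k3 _ h4 h3).1)
        exact ⟨by_contra fun h => ne_one_of_two h4.1 ((pp_eq_one_iff Nat.prime_two).2 h), y, trivial, hy⟩
    · rw [coeff_acls]
      split_ifs with h3 h4 <;> simp
      exact hz (k3 z h3 h4).2.symm
  have := Fintype.ofFinite (⊤ : Subgroup G)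
  have k3 := sum_conj_eq ⊤ t fun s => if 2 ∣ orderOf (s * t) then (1 : ℂ) else 0
  replace k3 := (Fintype.sum_equiv Subgroup.topEquiv.toEquiv _ (fun i => if 2 ∣ orderOf (i * t * i⁻¹ * t) then (1 : ℂ)
    else 0) fun _ => rfl).symm.trans k3
  rw [top_inf_eq] at k3
  have k4 : (∑ s, (acls ℂ ⊤ t).coeff s * if 2 ∣ orderOf (s * t) then 1 else 0) * Nat.card (CS (P : Subgroup G)) =
      ∑ z, (if orderOf z = 2 ∧ Commute z t ∧ z ≠ t then 1 else 0) * (Nat.card (C1 t) : ℂ) := by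
    simp only [k2]
    rw [Finset.sum_comm, Finset.sum_mul]
    refine Finset.sum_congr rfl fun z _ => ?_
    split_ifs with h
    · rw [← Finset.mul_sum, mul_assoc, mul_comm _ (Nat.card _ : ℂ), ← (k4_tri hP h.1 (two_mul_two h.1 ht h.2.2 h.2.1)
        (by simpa using ne_one_of_two ht) ((Commute.refl z).mul_right h.2.1)).1, sum_acls, card_C1_isConj (hone z t h.1 ht)]
    · simp
  have k5 := sum_acls (C1 t) a
  have k6 := sum_acls (C1 t) (t * a)
  rw [(k4_tri hP ht ha h2 h1).1] at k5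
  rw [(k4_tri hP ht (two_mul_two ht ha h2 h1) (by simpa using ne_one_of_two ha) ((Commute.refl t).mul_right h1)).1] at k6
  simp only [← k1, ← Finset.sum_mul, Finset.sum_add_distrib] at k4
  rw [k3]
  linear_combination Nat.card (C1 t) * Nat.card (CS (P : Subgroup G)) * k4 + Nat.card (C1 t) ^ 2 * (k5 + k6)

theorem exists_ne_one_two (hP : IsKleinFour P) : ∃ t : P, t ≠ 1 ∧ orderOf (t : G) = 2 :=
  have := Finite.one_lt_card_iff_nontrivial.1 (show 1 < Nat.card P by simp)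
  let ⟨t, ht⟩ := exists_ne (1 : P)
  ⟨t, ht, k4_two hP (isPElt_of_mem Nat.prime_two P.isPGroup' t.2) (by simpa)⟩

theorem k4_principal (hM : IsPModular 2 M) (hP : IsKleinFour P)
    (hone : ∀ s t : G, orderOf s = 2 → orderOf t = 2 → IsConj s t) : ∃ ε : IrrCharacter G → ℤ,
    Nat.card (principalBlock M G) = 4 ∧ (∀ χ ∈ principalBlock M G, (ε χ = 1 ∨ ε χ = -1) ∧
      (∀ g, 2 ∣ orderOf g → χ.1 g = ε χ) ∧ 4 ∣ (charDegree χ.1 : ℤ) - ε χ) ∧
      ∀ y, ∑ χ ∈ fs (principalBlock M G), χ.1 y * ε χ = if 2 ∣ orderOf y then 4 else 0 := by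
  classical
  have h := fb_kf hM isPBlock_principal (maxP_e0 hM P) hP
  obtain ⟨t, ht, h2⟩ := exists_ne_one_two hP
  let ε : IrrCharacter G → ℤ := fun χ => if χ.1 t = 1 then 1 else -1
  have h3 : ∀ χ ∈ principalBlock M G, ∀ g, 2 ∣ orderOf g → χ.1 g = ε χ := fun χ hχ g hg => by
    obtain ⟨x, hx⟩ := isConj_iff.1 (hone _ _ (k4_two hP (isPElt_pp Nat.prime_two g)
      fun e => (pp_eq_one_iff Nat.prime_two).1 e hg) h2)
    rw [← H3.irr_class χ.2 g x, (h.principal ht hχ).2 _ ((pp_conj g x).trans hx)]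
    rcases (h.principal ht hχ).1 ▸ (h.kf hP).2.1 χ hχ t ht with e | e <;> norm_num [ε, e]
  have h4 : ∀ χ, ε χ = 1 ∨ ε χ = -1 := fun χ => by unfold ε; split_ifs <;> simp
  refine ⟨ε, (h.kf hP).1, fun χ hχ => ⟨h4 χ, h3 χ hχ, ?_⟩, fun y => ?_⟩
  · have := Fintype.ofFinite P
    obtain ⟨n, hn⟩ := H3.inner_char_nat (H3.char_restrict (H3.irr_char χ.2) P) H3.char_one
    rw [classInner, ← Finset.add_sum_erase _ _ (Finset.mem_univ 1), Finset.sum_congr rfl fun s hs => by
      rw [h3 χ hχ s (k4_two hP (isPElt_of_mem Nat.prime_two P.isPGroup' s.2) (by simpa using hs)).symm.dvd],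
      Finset.sum_const, Finset.card_erase_of_mem (Finset.mem_univ _), Finset.card_univ, ← Nat.card_eq_fintype_card, hP.1,
      OneMemClass.coe_one, irr_one_eq] at hn
    refine ⟨n - ε χ, Int.cast_injective (α := ℂ) ?_⟩
    simp at hn ⊢
    linear_combination 4 * hn
  · split_ifs with hy
    · rw [Finset.sum_congr rfl (g := fun _ => 1) fun χ hχ => by
        rw [h3 χ (mem_fs.1 hχ) y hy]; rcases h4 χ with e | e <;> simp [e]]
      rw [Finset.sum_const, card_fs, (h.kf hP).1]; simp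
    · rw [← KB_eq_zero_weak hM isPBlock_principal hy h2.symm.dvd]
      exact Finset.sum_congr rfl fun χ hχ => by rw [h3 χ (mem_fs.1 hχ) t h2.symm.dvd, map_intCast]

theorem k4_fusion (hM : IsPModular 2 M) (hP : IsKleinFour P) :
    (∀ s t : G, orderOf s = 2 → orderOf t = 2 → IsConj s t) ↔ (CS (P : Subgroup G)).relIndex (NS (P : Subgroup G)) = 3 := by
  have h := fb_kf hM isPBlock_principal (maxP_e0 hM P) hP
  have h1 := (h.kf hP).2.2.1
  have h2 := h.free
  rw [stab_e0 hM] at h1 h2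
  have := IsKleinFour.isMulCommutative (G := P)
  refine ⟨fun h3 => h1.resolve_left fun e => ?_, fun e => ?_⟩
  · have := Fintype.ofFinite P
    obtain ⟨a, b, c, h4, h5, h6⟩ := Fintype.two_lt_card_iff.1 (by rw [← Nat.card_eq_fintype_card, hP.1]; decide : 2 < Fintype.card P)
    have k : ∀ a b : P, a ≠ 1 → b ≠ 1 → a = b := fun a b ha hb => by
      obtain ⟨x, hx⟩ := isConj_iff.1 (h3 _ _ (k4_two hP (isPElt_of_mem Nat.prime_two P.isPGroup' a.2) (by simpa))
        (k4_two hP (isPElt_of_mem Nat.prime_two P.isPGroup' b.2) (by simpa)))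
      obtain ⟨n, hn, h7⟩ := P.conj_eq_normalizer_conj_of_mem a x⁻¹ a.2 (by simp [hx])
      rw [inv_inv, hx, mul_assoc, Subgroup.relIndex_eq_one.1 e hn a a.2, inv_mul_cancel_left] at h7
      exact Subtype.ext h7.symm
    by_cases ha : a = 1
    · exact h6 (k _ _ (ha ▸ h4.symm) (ha ▸ h5.symm))
    · by_cases hb : b = 1
      exacts [h5 (k _ _ ha (hb ▸ h6.symm)), h4 (k _ _ ha hb)]
  · have := Fintype.ofFinite P
    have h3 := h.fr
    rw [stab_e0 hM] at h3
    have k : ∀ a b : P, a ≠ 1 → b ≠ 1 → IsConj (a : G) b := fun a b ha hb => by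
      classical
      have h4 : Finset.univ.image (fun γ : ga P (NS (P : Subgroup G)) => γ.1 a) = Finset.univ.erase 1 :=
        Finset.eq_of_subset_of_card_le (fun c hc => by
          obtain ⟨γ, -, rfl⟩ := Finset.mem_image.1 hc; simpa using ha) (by
          rw [Finset.card_image_of_injective _ fun γ γ' e => Subtype.ext (inv_mul_eq_one.1 (h3.free _
            (mul_mem (inv_mem γ.2) γ'.2) a ha (by simp [← e]))), Finset.card_erase_of_mem (Finset.mem_univ _),
            Finset.card_univ, Finset.card_univ, ← Nat.card_eq_fintype_card, ← Nat.card_eq_fintype_card, card_ga le_rfl, e, hP.1])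
      obtain ⟨γ, -, h5⟩ := Finset.mem_image.1 (h4.ge (by simpa using hb : b ∈ Finset.univ.erase 1))
      obtain ⟨y, -, h6⟩ := (mem_ga le_rfl).1 γ.2
      exact isConj_iff.2 ⟨y, by rw [← h6, h5]⟩
    intro s t hs ht
    obtain ⟨x, hx⟩ := exists_conj_mem_sylow P (isPElt_two hs)
    obtain ⟨y, hy⟩ := exists_conj_mem_sylow P (isPElt_two ht)
    exact ((isConj_iff.2 ⟨x, rfl⟩).trans (k ⟨_, hx⟩ ⟨_, hy⟩ (fun e => ne_one_of_two hs (by simpa using congrArg Subtype.val e))
      fun e => ne_one_of_two ht (by simpa using congrArg Subtype.val e))).trans (isConj_iff.2 ⟨y, rfl⟩).symm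

theorem k4_of_card (hM : IsPModular 2 M) {g₀ : ℕ} (hg₀ : Odd g₀) (hG : Nat.card G = 4 * g₀)
    (hnc : ¬ ∃ N : Subgroup G, N.Normal ∧ Nat.card N = g₀) (P : Sylow 2 G) :
    IsKleinFour P ∧ ∀ s t : G, orderOf s = 2 → orderOf t = 2 → IsConj s t := by
  have h1 : Nat.card P = 4 := by
    rw [P.card_eq_multiplicity, hG, Nat.factorization_mul (by decide) hg₀.pos.ne', Finsupp.add_apply,
      Nat.factorization_eq_zero_of_not_dvd hg₀.not_two_dvd_nat, show 4 = 2 ^ 2 from rfl, Nat.prime_two.factorization_pow]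
    simp
  have h2 : ¬ HasNormalPComplement 2 G := fun ⟨Q, N, h3, h4⟩ => hnc ⟨N, h3, by
    have := h4.card_mul
    rw [hG, Nat.card_congr (Q.equiv P).toEquiv, h1] at this
    omega⟩
  have h3 : IsKleinFour P := ⟨h1, by
    have := (Nat.dvd_prime_pow Nat.prime_two).1 (show Monoid.exponent P ∣ 2 ^ 2 from Group.exponent_dvd_nat_card.trans h1.dvd)
    obtain ⟨i, h3, h4⟩ := this
    interval_cases i
    · have := Finite.one_lt_card_iff_nontrivial.1 (show 1 < Nat.card P by omega)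
      exact absurd h4 (Monoid.one_lt_exponent (G := P)).ne'
    · exact h4
    · exact (h2 (NPC_of_cyclic P (@IsCyclic.of_exponent_eq_card _ (IsPGroup.commGroupOfCardEqPrimeSq (p := 2) h1) _
        (h4.trans h1.symm)))).elim⟩
  refine ⟨h3, (k4_fusion hM h3).2 ?_⟩
  have h4 := ((fb_kf hM isPBlock_principal (maxP_e0 hM P) h3).kf h3).2.2.1
  rw [stab_e0 hM] at h4
  exact h4.resolve_left fun e => h2 ⟨P, _, inferInstance, MonoidHom.ker_transferSylow_isComplement' P
    (Subgroup.relIndex_eq_one.1 e)⟩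

theorem k4_order (hM : IsPModular 2 M) (hP : IsKleinFour P)
    (hone : ∀ s t : G, orderOf s = 2 → orderOf t = 2 → IsConj s t) (ht : orderOf t = 2) :
    Nat.card G * (∑ χ ∈ fs (principalBlock M G), χ.1 t / χ.1 1) * Nat.card (CS (P : Subgroup G)) ^ 2 =
      8 * Nat.card (C1 t) ^ 3 := by
  have := Fintype.ofFinite G
  obtain ⟨ε, -, h1, h2⟩ := k4_principal hM hP hone
  have h3 := Finset.sum_congr rfl fun i (_ : i ∈ Finset.univ) => h2 (i * t * i⁻¹ * t)
  rw [Finset.sum_comm, Finset.sum_congr rfl (g := fun χ : IrrCharacter G => Nat.card G * (χ.1 t / χ.1 1)) fun χ hχ => by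
    have h4 := sum_conj_mul χ.2 t t
    have h5 := H3.irr_one_ne_zero χ.2
    obtain ⟨h6, h7, -⟩ := h1 χ (mem_fs.1 hχ)
    rw [h7 t ht.symm.dvd] at h4 ⊢
    rw [← Finset.sum_mul]
    field_simp
    rcases h6 with e | e <;> simp [e] at h4 ⊢ <;> rwa [mul_comm], ← Finset.mul_sum] at h3
  have h4 := k4_count hP hone ht
  rw [h3, show (8 : ℂ) = 4 * 2 by norm_num, mul_assoc 4, ← h4, ← mul_assoc, Finset.mul_sum]
  simp

theorem k4_fs [Fintype G] (hM : IsPModular 2 M) (hP : IsKleinFour P)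
    (hone : ∀ s t : G, orderOf s = 2 → orderOf t = 2 → IsConj s t) (ht : orderOf t = 2) :
    ∑ χ ∈ fs (principalBlock M G), H3.fs χ.1 * χ.1 t = 0 := by
  obtain ⟨ε, -, h1, h2⟩ := k4_principal hM hP hone
  have h3 := Finset.sum_congr rfl fun s (_ : s ∈ Finset.univ) => h2 (s * s)
  rw [Finset.sum_comm, Finset.sum_eq_zero (s := Finset.univ) fun s _ => if_neg fun h => (pp_eq_one_iff Nat.prime_two).1 (by
    rw [← sq, pp_pow]
    by_cases e : pp 2 s = 1
    · simp [e]
    · exact orderOf_dvd_iff_pow_eq_one.1 (k4_two hP (isPElt_pp Nat.prime_two s) e).dvd) h] at h3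
  rw [← mul_zero (Nat.card G : ℂ)⁻¹, ← h3, Finset.mul_sum]
  exact Finset.sum_congr rfl fun χ hχ => by
    rw [(h1 χ (mem_fs.1 hχ)).2.1 t ht.symm.dvd, H3.fs, ← Finset.sum_mul, mul_assoc]

theorem sum_four {A : Type*} [AddCommMonoid A] {B : Set (IrrCharacter G)} {a b c : IrrCharacter G}
    (hB : B = {χ | χ.1 = (fun _ => 1) ∨ χ = a ∨ χ = b ∨ χ = c}) (hd : a.1 ≠ (fun _ => 1) ∧ b.1 ≠ (fun _ => 1) ∧
      c.1 ≠ (fun _ => 1) ∧ a ≠ b ∧ a ≠ c ∧ b ≠ c) (f : IrrCharacter G → A) :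
    ∑ χ ∈ fs B, f χ = f (triv G) + (f a + (f b + f c)) := by
  classical
  have h : ∀ χ : IrrCharacter G, χ.1 = (fun _ => 1) ↔ χ = triv G := fun χ => ⟨fun e => Subtype.ext e, fun e => e ▸ rfl⟩
  simp only [Ne, h] at hd hB
  rw [show fs B = {triv G, a, b, c} from Finset.ext fun χ => by simp [hB], Finset.sum_insert (by simp [hd, eq_comm]),
    Finset.sum_insert (by simp [hd]), Finset.sum_pair hd.2.2.2.2.2]

theorem k4_four (hM : IsPModular 2 M) {g₀ : ℕ} (hg₀ : Odd g₀) (hG : Nat.card G = 4 * g₀)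
    (hnc : ¬ ∃ N : Subgroup G, N.Normal ∧ Nat.card N = g₀) (P : Sylow 2 G) (ht : orderOf t = 2) {a b c : IrrCharacter G}
    (hB : principalBlock M G = {χ | χ.1 = (fun _ => 1) ∨ χ = a ∨ χ = b ∨ χ = c}) (hd : a.1 ≠ (fun _ => 1) ∧
      b.1 ≠ (fun _ => 1) ∧ c.1 ≠ (fun _ => 1) ∧ a ≠ b ∧ a ≠ c ∧ b ≠ c) {x y z : ℤ}
    (hval : a.1 t = x ∧ b.1 t = y ∧ c.1 t = z) : (1 + (charDegree a.1 * x + (charDegree b.1 * y + charDegree c.1 * z)) = 0 ∧
      4 ∣ charDegree a.1 - x ∧ 4 ∣ charDegree b.1 - y ∧ 4 ∣ charDegree c.1 - z) ∧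
      (Nat.card G : ℚ) * (1 + (x / charDegree a.1 + (y / charDegree b.1 + z / charDegree c.1))) *
        Nat.card (CS (P : Subgroup G)) ^ 2 = 8 * Nat.card (C1 t) ^ 3 := by
  obtain ⟨h1, h2⟩ := k4_of_card hM hg₀ hG hnc P
  obtain ⟨ε, -, h3, h4⟩ := k4_principal hM h1 h2
  have h5 := k4_order hM h1 h2 ht
  have h6 := h4 1
  have k : ∀ χ ∈ principalBlock M G, ∀ x : ℤ, χ.1 t = x → ε χ = x := fun χ hχ x e =>
    Int.cast_injective (α := ℂ) (((h3 χ hχ).2.1 t ht.symm.dvd).symm.trans e)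
  have ha : a ∈ principalBlock M G := by simp [hB]
  have hb : b ∈ principalBlock M G := by simp [hB]
  have hc : c ∈ principalBlock M G := by simp [hB]
  rw [sum_four hB hd] at h5 h6
  rw [k a ha x hval.1, k b hb y hval.2.1, k c hc z hval.2.2, k _ (triv_mem_principal hM) 1 (by simp)] at h6
  simp only [irr_one_eq a, irr_one_eq b, irr_one_eq c, hval, triv_apply, div_one, orderOf_one] at h5 h6
  exact ⟨⟨by exact_mod_cast h6, k a ha x hval.1 ▸ (h3 a ha).2.2, k b hb y hval.2.1 ▸ (h3 b hb).2.2,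
    k c hc z hval.2.2 ▸ (h3 c hc).2.2⟩, by exact_mod_cast h5⟩

end H4
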