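import Cfsg.Agent.H4.Quot
import Cfsg.Agent.H3.Chr

/-!
# Miscellaneous facts on principal blocks and degrees
-/

set_option autoImplicit false
set_option linter.unusedSectionVars false

namespace H4
open MonoidAlgebra Cfsg H1
open scoped Pointwise ComplexConjugate

variable {G : Type*} [Group G] [Finite G] {M : Ideal AlgInt} {p : ℕ} [hp : Fact p.Prime]
  {B : Set (IrrCharacter G)} {χ ψ : IrrCharacter G} {N H P : Subgroup G}

theorem principal_iff_inner [Fintype G] (hM : IsPModular p M) :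
    χ ∈ principalBlock M G ↔ classInner (reg p (triv G : G → ℂ)) χ ≠ 0 :=
  ⟨inner_reg_triv_ne_zero hM, fun h => by_contra fun h' =>
    h (inner_reg_eq_zero hM isPBlock_principal (triv_mem_principal hM) h')⟩

/-- Galois conjugate of an irreducible character -/
def gal (σ : ℂ →+* ℂ) (χ : IrrCharacter G) : IrrCharacter G := ⟨fun g => σ (χ.1 g), H3.irr_ringHom σ χ.2⟩

@[simp] theorem gal_apply (σ : ℂ →+* ℂ) (χ : IrrCharacter G) (g : G) : (gal σ χ).1 g = σ (χ.1 g) := rfl

theorem gal_inj (σ : ℂ →+* ℂ) : Function.Injective (gal (G := G) σ) := fun _ _ h =>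
  Subtype.ext (funext fun g => σ.injective (congrFun (congrArg Subtype.val h) g))

theorem charDegree_gal (σ : ℂ →+* ℂ) (χ : IrrCharacter G) : charDegree (gal σ χ).1 = charDegree χ.1 :=
  charDegree_of_eq (by simp [irr_one_eq])

theorem gal_principal (hM : IsPModular p M) (σ : ℂ →+* ℂ) : gal σ χ ∈ principalBlock M G ↔ χ ∈ principalBlock M G := by
  cases nonempty_fintype G
  have h := H3.ringHom_inner σ (reg p (triv G : G → ℂ)) (H3.irr_gen χ.2)
  rw [show (fun g => σ (reg p (triv G : G → ℂ) g)) = reg p (triv G : G → ℂ) from funext fun g => by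
    by_cases hg : p ∣ orderOf g <;> simp [reg_of_dvd, reg_of_not_dvd, hg]] at h
  rw [principal_iff_inner hM, principal_iff_inner hM]
  exact (congrArg (· ≠ 0) h).to_iff.trans (map_ne_zero σ)

theorem sum_gal_principal (hM : IsPModular p M) (σ : ℂ →+* ℂ) {A : Type*} [AddCommMonoid A] (F : IrrCharacter G → A) :
    ∑ χ ∈ fs (principalBlock M G), F (gal σ χ) = ∑ χ ∈ fs (principalBlock M G), F χ :=
  Finset.sum_bijective (gal σ) (Finite.injective_iff_bijective.1 (gal_inj σ)) (by simp [gal_principal hM]) fun _ _ => rfl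

theorem KB_principal_int (hM : IsPModular p M) (g h : G) : ∃ n : ℤ, KB (principalBlock M G) g h = n :=
  H3.int_of_fixed (IsIntegral.sum _ fun χ _ => (isIntegral_char (H3.irr_char χ.2) g).mul
    (H3.isIntegral_conj (isIntegral_char (H3.irr_char χ.2) h))) fun σ => by
    rw [KB, map_sum, ← sum_gal_principal hM σ fun χ => χ.1 g * conj (χ.1 h)]
    exact Finset.sum_congr rfl fun χ _ => by rw [map_mul, H3.ringHom_conj_gen σ (H3.irr_gen χ.2)]; rfl

theorem dvd_sum_sq (hM : IsPModular p M) (hB : IsPBlock M B) (h : p ∣ Nat.card G) :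
    p ∣ ∑ χ ∈ fs B, charDegree χ.1 ^ 2 := by
  have h1 := factorization_sum_sq hM hB
  have h2 := mB_add_blockDefect (p := p) (block_nonempty hM hB)
  have h3 := hp.out.factorization_pos_of_dvd Nat.card_pos.ne' h
  exact Nat.dvd_of_factorization_pos (by omega)

theorem dvd_sum_filter {ι : Type*} (s : Finset ι) (d : ι → ℕ) (h : p ∣ ∑ i ∈ s, d i ^ 2) :
    p ∣ ∑ i ∈ s with ¬ p ∣ d i, d i ^ 2 := by
  rw [← Finset.sum_filter_add_sum_filter_not s fun i => p ∣ d i] at h
  exact (Nat.dvd_add_right (Finset.dvd_sum fun i hi => (Finset.mem_filter.1 hi).2.pow two_ne_zero)).1 h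

theorem card_ne_one_of_dvd {ι : Type*} (s : Finset ι) (d : ι → ℕ) (h : p ∣ ∑ i ∈ s, d i ^ 2) :
    (s.filter fun i => ¬ p ∣ d i).card ≠ 1 := fun e => by
  obtain ⟨i, e⟩ := Finset.card_eq_one.1 e
  have h1 := dvd_sum_filter s d h
  rw [e, Finset.sum_singleton] at h1
  have h2 : i ∈ s.filter fun i => ¬ p ∣ d i := e ▸ Finset.mem_singleton_self i
  exact (Finset.mem_filter.1 h2).2 (hp.out.dvd_of_dvd_pow h1)

theorem zmod_sq : (∀ x : ZMod 2, ¬x = 0 → 1 = x ^ 2) ∧ ∀ x : ZMod 3, ¬x = 0 → 1 = x ^ 2 := by decide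

theorem dvd_card_of_dvd {ι : Type*} (s : Finset ι) (d : ι → ℕ) (h : p ∣ ∑ i ∈ s, d i ^ 2) (h3 : p ≤ 3) :
    p ∣ (s.filter fun i => ¬ p ∣ d i).card := by
  have h1 := dvd_sum_filter s d h
  rw [← ZMod.natCast_eq_zero_iff] at h1 ⊢
  rw [← h1, Finset.card_eq_sum_ones, Nat.cast_sum, Nat.cast_sum]
  refine Finset.sum_congr rfl fun i hi => ?_
  have h2 := (Finset.mem_filter.1 hi).2
  rw [← ZMod.natCast_eq_zero_iff] at h2
  push_cast
  generalize (d i : ZMod p) = x at h2
  have := hp.out.two_le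
  obtain rfl | rfl : p = 2 ∨ p = 3 := by omega
  · exact zmod_sq.1 x h2
  · exact zmod_sq.2 x h2

theorem charDegree_triv : charDegree (triv G : G → ℂ) = 1 := charDegree_of_eq (by simp)

theorem sameBlock_of_reg (hM : IsPModular p M) (h : ∀ g, ¬ p ∣ orderOf g → χ.1 g = ψ.1 g) : SameBlock M χ.1 ψ.1 := by
  cases nonempty_fintype G
  by_contra h1
  have h2 := inner_reg_eq_zero hM (isPBlock_blockOf χ.2) (mem_blockOf_self hM χ) h1
  have h3 : reg p χ.1 = reg p ψ.1 := funext fun g => by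
    by_cases hg : p ∣ orderOf g
    · rw [reg_of_dvd _ hg, reg_of_dvd _ hg]
    · rw [reg_of_not_dvd _ hg, reg_of_not_dvd _ hg, h g hg]
  rw [h3, ← reg_reg, inner_reg_left] at h2
  have := congrFun (H3.inner_self_eq_zero h2) 1
  rw [reg_of_not_dvd _ (not_dvd_orderOf_one hp.out)] at this
  exact H3.irr_one_ne_zero ψ.2 this

theorem mem_of_reg (hM : IsPModular p M) (hB : IsPBlock M B) (hχ : χ ∈ B)
    (h : ∀ g, ¬ p ∣ orderOf g → χ.1 g = ψ.1 g) : ψ ∈ B := by
  rw [eq_blockOf hM hB hχ]; exact sameBlock_of_reg hM h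

theorem under_principal (hM : IsPModular p M) [N.Normal] [Fintype N] (hχ : χ ∈ principalBlock M G)
    {θ : IrrCharacter N} (h : classInner (fun n : N => χ.1 n) θ.1 ≠ 0) : θ ∈ principalBlock M N := by
  rw [← eq_principal_of_cov hM (isPBlock_blockOf θ.2) ((cov_iff hM isPBlock_principal (isPBlock_blockOf θ.2)).1
    ⟨χ, hχ, θ, mem_blockOf_self hM θ, h⟩)]
  exact mem_blockOf_self hM θ

theorem over_principal (hM : IsPModular p M) [N.Normal] [Fintype N] {n : ℕ} (hN : N.index = p ^ n)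
    {θ : IrrCharacter N} (hθ : θ ∈ principalBlock M N) (h : classInner (fun n : N => χ.1 n) θ.1 ≠ 0) :
    χ ∈ principalBlock M G := by
  rw [cov_unique hM hN (isBI_aE hM isPBlock_principal) isPBlock_principal (isPBlock_blockOf χ.2) (principal_cov hM N)
    ((cov_iff hM (isPBlock_blockOf χ.2) isPBlock_principal).1 ⟨χ, mem_blockOf_self hM χ, θ, hθ, h⟩)]
  exact mem_blockOf_self hM χ

theorem inner_ne_zero_of_res [Fintype N] {θ : IrrCharacter N} (h : ∀ n : N, χ.1 n = θ.1 n) :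
    classInner (fun n : N => χ.1 n) θ.1 ≠ 0 := by
  rw [funext h]; exact (H3.irr_inner_self θ.2).trans_ne one_ne_zero

/-- `∑_{χ ∈ B} ⟨χ_N, θ⟩ χ(1) = [G:N] θ(1) ω_θ(..)` -/
theorem sum_over [Fintype H] (ξ : IrrCharacter H) (B : Set (IrrCharacter G)) :
    ∑ χ ∈ fs B, classInner ξ.1 (fun h : H => χ.1 h) * χ.1 1 = H.index * ξ.1 1 * om ξ.1 (resA H (fI B)) := by
  cases nonempty_fintype G
  rw [← H3.indFun_one, ← blockPart_indFun_one, blockPart_apply]
  exact Finset.sum_congr rfl fun χ _ => by rw [H3.inner_indFun_left _ _ (H3.irr_class χ.2)]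

theorem dvd_sum_sq_over (hM : IsPModular p M) (hB : IsPBlock M B) [N.Normal] [Fintype N] (h : p ∣ N.index)
    (θ : IrrCharacter N) [DecidablePred fun χ : IrrCharacter G => classInner (fun n : N => χ.1 n) θ.1 ≠ 0] :
    p ∣ ∑ χ ∈ fs B with classInner (fun n : N => χ.1 n) θ.1 ≠ 0, charDegree χ.1 ^ 2 := by
  cases nonempty_fintype G
  rw [← natCast_eq_zero_iff hM, ← red_natCast]
  have h1 : ((∑ χ ∈ fs B with classInner (fun n : N => χ.1 n) θ.1 ≠ 0, charDegree χ.1 ^ 2 : ℕ) : ℂ) =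
      N.index * ((H3.inertia N θ.1).index * θ.1 1 * θ.1 1 * om θ.1 (resA N (fI B))) := by
    rw [mul_assoc _ (θ.1 1) (om _ _), mul_left_comm, ← mul_assoc (N.index : ℂ), ← sum_over, Finset.mul_sum,
      Finset.sum_filter, Nat.cast_sum]
    refine Finset.sum_congr rfl fun χ _ => ?_
    rw [H3.inner_char_symm (H3.irr_char θ.2) (H3.char_restrict (H3.irr_char χ.2) N)]
    split_ifs with h2
    · push_cast
      rw [← irr_one_eq, sq]
      conv_lhs => rw [H3.clifford_degree N χ.2 θ.2 h2]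
      conv_rhs => rw [H3.clifford_degree N χ.2 θ.2 h2]
      ring
    · simp [not_not.1 h2]
  rw [h1, red_mul (natCast_mem _ _) (mul_mem (mul_mem (mul_mem (natCast_mem _ _) (irr_mem_O θ 1)) (irr_mem_O θ 1))
    (om_mem_O θ.2 (resA_mem_Z' N (fI_mem_Z B)) (resA_mem_IntA N (fI_mem_IntA hM hB)))), red_natCast,
    (natCast_eq_zero_iff hM _).2 h, zero_mul]

end H4
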