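import Mathlib
import Cfsg.Agent.S0278
import Cfsg.Agent.S0280
import Cfsg.Agent.H5.PW

set_option autoImplicit false

namespace H4.SU2
open Matrix

variable {F : Type*} [Field F]

/-- data: char two, `σ` an involutory ring endomorphism -/
structure Dt (F : Type*) [Field F] where
  σ : F →+* F
  two : (2 : F) = 0
  inv : ∀ x, σ (σ x) = x

@[ext] structure UU (D : Dt F) where
  a : F
  b : F
  h : b + D.σ b = a * D.σ a

variable {D : Dt F}

instance : Mul (UU D) := ⟨fun x y => ⟨x.a + y.a, x.b + y.b + D.σ x.a * y.a, by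
  simp only [map_add, map_mul, D.inv]
  linear_combination x.h + y.h⟩⟩
instance : One (UU D) := ⟨⟨0, 0, by simp⟩⟩
instance : Inv (UU D) := ⟨fun x => ⟨x.a, D.σ x.b, by rw [D.inv]; linear_combination x.h⟩⟩

@[simp] theorem mul_a (x y : UU D) : (x * y).a = x.a + y.a := rfl
@[simp] theorem mul_b (x y : UU D) : (x * y).b = x.b + y.b + D.σ x.a * y.a := rfl
@[simp] theorem one_a : (1 : UU D).a = 0 := rfl
@[simp] theorem one_b : (1 : UU D).b = 0 := rfl
@[simp] theorem inv_a (x : UU D) : (x⁻¹).a = x.a := rfl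
@[simp] theorem inv_b (x : UU D) : (x⁻¹).b = D.σ x.b := rfl

instance : Group (UU D) := Group.ofLeftAxioms
  (fun x y z => by ext <;> simp <;> ring)
  (fun x => by ext <;> simp)
  (fun x => by
    ext
    · simp; linear_combination x.a * D.two
    · simp; linear_combination x.h + x.a * D.σ x.a * D.two)

instance [Finite F] : Finite (UU D) := Finite.of_injective (fun x : UU D => (x.a, x.b)) (fun x y h => by
  simp only [Prod.mk.injEq] at h; exact UU.ext h.1 h.2)

theorem sq (x : UU D) : x * x = 1 ↔ x.a = 0 := by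
  constructor
  · intro h
    have h1 := congrArg UU.b h
    simp only [mul_b, one_b] at h1
    have : D.σ x.a * x.a = 0 := by linear_combination h1 - x.b * D.two
    rcases mul_eq_zero.1 this with h | h
    · exact (map_eq_zero _).1 h
    · exact h
  · intro h
    ext
    · simp [h]
    · simp [h]; linear_combination x.b * D.two

theorem fix_of (x : UU D) (h : x.a = 0) : D.σ x.b = x.b := by
  have := x.h
  rw [h, zero_mul] at this
  linear_combination this - x.b * D.two

theorem center_iff (hσ : ∃ t, D.σ t ≠ t) (om : ∀ a, ∃ b, b + D.σ b = a * D.σ a) (x : UU D) : x ∈ Subgroup.center (UU D) ↔ x.a = 0 := by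
  rw [Subgroup.mem_center_iff]
  constructor
  · intro h
    by_contra ha
    obtain ⟨t, ht⟩ := hσ
    obtain ⟨b, hb⟩ := om (x.a * t)
    have := congrArg UU.b (h ⟨_, b, hb⟩)
    simp only [mul_b, map_mul] at this
    have h2 : D.σ x.a * x.a * (D.σ t - t) = 0 := by linear_combination this
    rcases mul_eq_zero.1 h2 with h3 | h3
    · exact mul_ne_zero ((map_ne_zero _).2 ha) ha h3
    · exact ht (sub_eq_zero.1 h3)
  · intro h g
    ext <;> simp [h, add_comm]

def mat (x : UU D) : Matrix (Fin 3) (Fin 3) F := !![1 + x.b, D.σ x.a, x.b; x.a, 1, x.a; x.b, D.σ x.a, 1 + x.b]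

theorem mat_det (x : UU D) : (mat x).det = 1 := by
  simp [mat, det_fin_three]
  linear_combination (x.b - x.a * D.σ x.a) * D.two

def sl : UU D →* SpecialLinearGroup (Fin 3) F where
  toFun x := ⟨mat x, mat_det x⟩
  map_one' := by
    ext i j
    fin_cases i <;> fin_cases j <;> simp [mat]
  map_mul' x y := by
    apply Subtype.ext
    show mat (x * y) = mat x * mat y
    ext i j
    have h := D.two
    fin_cases i <;> fin_cases j <;> simp [mat, Matrix.mul_apply, Fin.sum_univ_three] <;> grind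

theorem sl_inj : Function.Injective (sl : UU D →* _) := by
  intro x y h
  have h1 := congrArg (fun g : SpecialLinearGroup (Fin 3) F => g 1 0) h
  have h2 := congrArg (fun g : SpecialLinearGroup (Fin 3) F => g 2 0) h
  exact UU.ext h1 h2

theorem sl_mem {q : ℕ} (hq : ∀ x, D.σ x = x ^ q) (x : UU D) : sl x ∈ Cfsg.SU 3 F q := by
  intro u v
  show Cfsg.hermForm 3 F q (mat x *ᵥ u) (mat x *ᵥ v) = _
  have h := D.two
  have h2 := x.h
  simp only [Cfsg.hermForm, ← hq, Fin.sum_univ_three]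
  simp [mat, Matrix.mulVec, dotProduct, Fin.sum_univ_three, D.inv]
  grind

section fin
variable [Fintype F] {n : ℕ}

theorem exD (hn : 1 ≤ n) (hF : Fintype.card F = (2 ^ n) ^ 2) : ∃ D : Dt F, ∀ x, D.σ x = x ^ 2 ^ n := by
  obtain ⟨p, hp⟩ := CharP.exists F
  obtain ⟨m, hpp, hm⟩ := FiniteField.card F p
  have : p = 2 := by
    have : p ∣ 2 ^ (n * 2) := by rw [pow_mul, ← hF, hm]; exact dvd_pow_self _ m.2.ne'
    exact (Nat.prime_dvd_prime_iff_eq hpp Nat.prime_two).1 (hpp.dvd_of_dvd_pow this)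
  subst this
  haveI : Fact (Nat.Prime 2) := ⟨Nat.prime_two⟩
  refine ⟨⟨iterateFrobenius F 2 n, by exact_mod_cast CharP.cast_eq_zero F 2, fun x => ?_⟩, fun x => rfl⟩
  rw [iterateFrobenius_def, iterateFrobenius_def, ← pow_mul, ← pow_two, ← hF, FiniteField.pow_card]

theorem cnt {q : ℕ} (h1 : 1 < q) (hF : Fintype.card F = q ^ 2) (hq : ∀ x, D.σ x = x ^ q) :
    Nat.card {b : F // D.σ b = b} = q ∧ ∀ a, ∃ b, b + D.σ b = a * D.σ a := by
  classical
  let t : F →+ F := AddMonoidHom.id F + D.σ.toAddMonoidHom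
  have ht : ∀ b, t b = b + D.σ b := fun b => rfl
  have hk : ∀ b, b ∈ t.ker ↔ D.σ b = b := fun b => by
    rw [AddMonoidHom.mem_ker, ht]
    exact ⟨fun h => by linear_combination h - b * D.two, fun h => by rw [h]; linear_combination b * D.two⟩
  have hr : t.range ≤ t.ker := by
    rintro _ ⟨b, rfl⟩
    rw [hk, ht, map_add, D.inv, add_comm]
  have e1 : Nat.card {b : F // D.σ b = b} = Nat.card t.ker := Nat.card_congr (Equiv.subtypeEquivRight fun b => (hk b).symm)
  have hle : Nat.card {b : F // D.σ b = b} ≤ q := by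
    have hp : (Polynomial.X ^ q - Polynomial.X : Polynomial F) ≠ 0 := FiniteField.X_pow_card_sub_X_ne_zero F h1
    have hd := FiniteField.X_pow_card_sub_X_natDegree_eq F h1
    rw [Nat.card_eq_fintype_card, Fintype.card_subtype]
    refine le_trans (Finset.card_le_card (t := (Polynomial.X ^ q - Polynomial.X : Polynomial F).roots.toFinset) fun b hb => ?_) ((Multiset.toFinset_card_le _).trans ((Polynomial.card_roots' _).trans hd.le))
    have := (Finset.mem_filter.1 hb).2
    rw [hq] at this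
    simp [hp, this]
  have e2 : Nat.card F = Nat.card t.range * Nat.card t.ker := by
    rw [AddSubgroup.card_eq_card_quotient_mul_card_addSubgroup t.ker, Nat.card_congr (QuotientAddGroup.quotientKerEquivRange t).toEquiv]
  rw [Nat.card_eq_fintype_card, hF] at e2
  have e3 := AddSubgroup.card_le_of_le hr
  rw [e1] at hle ⊢
  have e4 : Nat.card t.ker = q ∧ Nat.card t.range = q := by
    constructor <;> nlinarith
  refine ⟨e4.1, fun a => ?_⟩
  have : t.range = t.ker := AddSubgroup.eq_of_le_of_card_ge hr (by rw [e4.1, e4.2])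
  have h2 : a * D.σ a ∈ t.range := by rw [this, hk, map_mul, D.inv, mul_comm]
  exact h2

theorem card_UU {q : ℕ} (h1 : 1 < q) (hF : Fintype.card F = q ^ 2) (hq : ∀ x, D.σ x = x ^ q) : Nat.card (UU D) = q ^ 3 := by
  obtain ⟨c1, c2⟩ := cnt h1 hF hq
  choose β hβ using c2
  let e : UU D ≃ F × {b : F // D.σ b = b} :=
    { toFun := fun x => (x.a, ⟨x.b - β x.a, by rw [map_sub]; linear_combination x.h - hβ x.a - (x.b - β x.a) * D.two⟩)
      invFun := fun y => ⟨y.1, y.2.1 + β y.1, by rw [map_add, y.2.2]; linear_combination hβ y.1 + y.2.1 * D.two⟩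
      left_inv := fun x => by ext <;> simp
      right_inv := fun y => by ext <;> simp }
  rw [Nat.card_congr e, Nat.card_prod, c1, Nat.card_eq_fintype_card, hF]; ring

theorem val_aux {c m k : ℕ} (hn : 1 ≤ n) (hm : Odd m)
    (h : m * c = (2 ^ n) ^ (3 * (3 - 1) / 2) * ∏ i ∈ Finset.range 3, (if Even i then (2 ^ n) ^ (i + 1) + 1 else (2 ^ n) ^ (i + 1) - 1)) (hk : k = (2 ^ n) ^ 3) :
    k = 2 ^ padicValNat 2 c := by
  haveI : Fact (Nat.Prime 2) := ⟨Nat.prime_two⟩
  have ev : ∀ j, j ≠ 0 → Even ((2 ^ n) ^ j) := fun j hj => by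
    rw [← pow_mul]; exact (Nat.even_pow' (Nat.mul_ne_zero (by omega) hj)).2 even_two
  have ho : Odd (∏ i ∈ Finset.range 3, (if Even i then (2 ^ n) ^ (i + 1) + 1 else (2 ^ n) ^ (i + 1) - 1)) := by
    simp only [Finset.prod_range_succ, Finset.prod_range_zero, one_mul]
    refine Odd.mul (Odd.mul ?_ ?_) ?_
    · rw [if_pos (by decide)]; exact (ev _ (by omega)).add_one
    · rw [if_neg (by decide)]; exact Nat.Even.sub_odd (Nat.one_le_pow _ _ (by positivity)) (ev _ (by omega)) odd_one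
    · rw [if_pos (by decide)]; exact (ev _ (by omega)).add_one
  generalize (∏ i ∈ Finset.range 3, (if Even i then (2 ^ n) ^ (i + 1) + 1 else (2 ^ n) ^ (i + 1) - 1)) = r at h ho
  have hc : c ≠ 0 := by
    rintro rfl
    have : 0 < (2 ^ n) ^ (3 * (3 - 1) / 2) * r := Nat.mul_pos (by positivity) ho.pos
    omega
  have := congrArg (padicValNat 2) h
  rw [padicValNat.mul hm.pos.ne' hc, padicValNat.mul (by positivity) ho.pos.ne', padicValNat.eq_zero_of_not_dvd hm.not_two_dvd_nat,
    padicValNat.eq_zero_of_not_dvd ho.not_two_dvd_nat, ← pow_mul, padicValNat.prime_pow] at this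
  rw [hk, ← pow_mul]; congr 1; omega

theorem odd_q (hn : 1 ≤ n) : Odd (2 ^ n + 1) := ((Nat.even_pow' (by omega)).2 even_two).add_one

theorem sylow_SU (hn : 1 ≤ n) (hF : Fintype.card F = (2 ^ n) ^ 2) (hq : ∀ x, D.σ x = x ^ 2 ^ n) (P : Sylow 2 (Cfsg.SU 3 F (2 ^ n))) :
    Nonempty (P ≃* UU D) := by
  haveI : Fact (Nat.Prime 2) := ⟨Nat.prime_two⟩
  exact H5.PW.sylow_equiv (sl.codRestrict _ (sl_mem hq)) (fun x y h => sl_inj (congrArg Subtype.val h))
    (val_aux hn (odd_q hn) (Cfsg.Agent.S0278.result hF 3 (by omega)) (card_UU (Nat.one_lt_two_pow (by omega)) hF hq)) P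

theorem sylow_PSU (hn : 1 ≤ n) (hF : Fintype.card F = (2 ^ n) ^ 2) (hq : ∀ x, D.σ x = x ^ 2 ^ n) (P : Sylow 2 (Cfsg.PSU 3 F (2 ^ n))) :
    Nonempty (P ≃* UU D) := by
  haveI : Fact (Nat.Prime 2) := ⟨Nat.prime_two⟩
  have hc := card_UU (Nat.one_lt_two_pow (by omega)) hF hq
  have h1 := Cfsg.Agent.S0280.result hF 3 (by omega)
  have ho : Odd (Nat.gcd 3 (2 ^ n + 1)) := Odd.of_dvd_nat (by decide) (Nat.gcd_dvd_left _ _)
  rw [← mul_assoc] at h1
  refine H5.PW.sylow_equiv ((QuotientGroup.mk' _).comp (sl.codRestrict _ (sl_mem hq))) ?_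
    (val_aux hn (ho.mul (odd_q hn)) h1 hc) P
  rw [injective_iff_map_eq_one]
  intro x hx
  have h2 : sl.codRestrict _ (sl_mem hq) x ∈ Subgroup.center (Cfsg.SU 3 F (2 ^ n)) := (QuotientGroup.eq_one_iff _).1 hx
  have h3 := orderOf_dvd_natCard (⟨_, h2⟩ : Subgroup.center (Cfsg.SU 3 F (2 ^ n)))
  have h4 : Nat.card (Subgroup.center (Cfsg.SU 3 F (2 ^ n))) = Nat.gcd 3 (2 ^ n + 1) := by
    have a1 := Cfsg.Agent.S0278.result hF 3 (by omega)
    have a2 := Subgroup.card_eq_card_quotient_mul_card_subgroup (Subgroup.center (Cfsg.SU 3 F (2 ^ n)))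
    rw [← a1, a2] at h1
    have a3 : 0 < (2 ^ n + 1) * Nat.card (Cfsg.PSU 3 F (2 ^ n)) := Nat.mul_pos (by positivity) Nat.card_pos
    apply Nat.eq_of_mul_eq_mul_left a3
    linear_combination -h1
  rw [Subgroup.orderOf_mk, orderOf_injective _ (fun x y h => sl_inj (congrArg Subtype.val h)), h4] at h3
  have h5 := orderOf_dvd_natCard x
  rw [hc, ← pow_mul] at h5
  exact orderOf_eq_one_iff.1 (Nat.eq_one_of_dvd_coprimes (Nat.Coprime.pow_right _ ho.coprime_two_right) h3 h5)

theorem ex_nonfix {q : ℕ} (h1 : 1 < q) (hF : Fintype.card F = q ^ 2) (hq : ∀ x, D.σ x = x ^ q) : ∃ t, D.σ t ≠ t := by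
  by_contra h
  push Not at h
  have := (cnt h1 hF hq).1
  rw [Nat.card_congr (Equiv.subtypeUnivEquiv h), Nat.card_eq_fintype_card, hF] at this
  nlinarith

end fin
end H4.SU2
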