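import Cfsg.Agent.H6.Kempf
import Cfsg.Agent.H3.Mackey

/-! The Steinberg character of a Chevalley system, I: Bruhat cells, gates, the restriction to `B`,
the degree and the number of unipotent elements. -/

set_option autoImplicit false
set_option linter.unusedSectionVars false

namespace H4.St

open Cfsg H6 H6.StSys H6.ChevSys H3

section generic

variable {G : Type*} [Group G]

theorem count_gate [Finite G] (X Y : Set G) (K L : Subgroup G)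
    (hX : ∀ y ∈ Y, ∀ l ∈ L, y * l ∈ X) (hY : ∀ y ∈ Y, ∀ k ∈ K, y * k ∈ Y) (hKL : K ≤ L)
    (ex : ∀ x ∈ X, ∃ y ∈ Y, y⁻¹ * x ∈ L)
    (un : ∀ y ∈ Y, ∀ y' ∈ Y, y⁻¹ * y' ∈ L → y⁻¹ * y' ∈ K) :
    Nat.card Y * Nat.card L = Nat.card X * Nat.card K := by
  classical
  choose! γ hγ hγ' using ex
  rw [← Nat.card_prod, ← Nat.card_prod]
  have h1 : ∀ q : Y × L, (γ (q.1 * q.2 : G))⁻¹ * q.1 ∈ K := fun q => by
    have a := hX _ q.1.2 _ q.2.2
    refine un _ (hγ _ a) _ q.1.2 ?_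
    simpa [mul_assoc] using L.mul_mem (hγ' _ a) (L.inv_mem q.2.2)
  have h2 : ∀ q : X × K, (γ q.1 * q.2 : G)⁻¹ * q.1 ∈ L := fun q => by
    simpa [mul_assoc] using L.mul_mem (L.inv_mem (hKL q.2.2)) (hγ' _ q.1.2)
  refine Nat.card_congr ⟨fun q => (⟨q.1 * q.2, hX _ q.1.2 _ q.2.2⟩, ⟨_, h1 q⟩),
    fun q => (⟨γ q.1 * q.2, hY _ (hγ _ q.1.2) _ q.2.2⟩, ⟨_, h2 q⟩), fun q => ?_, fun q => ?_⟩
  · ext <;> simp
  · ext <;> simp [mul_assoc]

theorem alt_sum {ι : Type*} [DecidableEq ι] (J : Finset ι) (p : ι → Prop) [DecidablePred p] :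
    ∑ I ∈ J.powerset, (-1 : ℂ) ^ I.card * (if ∀ i ∈ I, p i then 1 else 0) =
      if ∀ j ∈ J, ¬ p j then 1 else 0 := by
  have h : (J.powerset.filter fun I => ∀ i ∈ I, p i) = (J.filter p).powerset := by
    ext I
    simp only [Finset.mem_filter, Finset.mem_powerset, Finset.subset_iff]
    exact ⟨fun h x hx => ⟨h.1 hx, h.2 x hx⟩, fun h => ⟨fun x hx => (h hx).1, fun x hx => (h hx).2⟩⟩
  simp only [mul_ite, mul_one, mul_zero]
  rw [← Finset.sum_filter, h]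
  have := Finset.sum_powerset_neg_one_pow_card (x := J.filter p)
  have h2 : ((∑ m ∈ (J.filter p).powerset, (-1 : ℤ) ^ m.card : ℤ) : ℂ) =
    ∑ m ∈ (J.filter p).powerset, (-1 : ℂ) ^ m.card := by push_cast; rfl
  rw [← h2, this]
  simp [Finset.filter_eq_empty_iff]

theorem card_set_eq [Fintype G] (p : G → Prop) [DecidablePred p] :
    (Nat.card {x // p x} : ℂ) = ∑ x, if p x then 1 else 0 := by
  rw [Nat.card_eq_fintype_card, Fintype.card_subtype, Finset.card_filter]; push_cast; rfl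

end generic

variable {Φ ι : Type} [Fintype ι] [DecidableEq ι] {R : RS Φ ι} {F : Type*} [Field F]
  {G : Type*} [Group G] [Fintype Φ] (S : ChevSys R F G)

/-- the Bruhat cell of `w` -/
def Cell (w : R.W) (g : G) : Prop := ∃ b ∈ S.B, ∃ n ∈ S.N, S.Acts n w ∧ ∃ b' ∈ S.B, g = b * n * b'

/-- `w` maps the simple roots of `I` to positive roots -/
def Red (R : RS Φ ι) (I : Set ι) (w : R.W) : Prop := ∀ i ∈ I, R.Pos (R.act w (R.simple i))

variable {S}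

theorem cell_unique {g : G} {w w' : R.W} (h : Cell S w g) (h' : Cell S w' g) : w = w' := by
  obtain ⟨b, hb, n, hn, hw, c, hc, rfl⟩ := h
  obtain ⟨b', hb', n', hn', hw', c', hc', e⟩ := h'
  exact S.acts_eq_of_eq hb hc hb' hc' hn hn' hw hw' e

theorem exists_cell (hS : S.grp = ⊤) (g : G) : ∃ w, Cell S w g := by
  obtain ⟨b, hb, n, hn, c, hc, e⟩ := S.exists_BNB (g := g) (hS ▸ Subgroup.mem_top g)
  obtain ⟨w, hw⟩ := S.nconj.exists_acts_of_mem_N hn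
  exact ⟨w, b, hb, n, hn, hw, c, hc, e⟩

theorem Cell.left {g b : G} {w : R.W} (h : Cell S w g) (hb : b ∈ S.B) : Cell S w (b * g) := by
  obtain ⟨a, ha, n, hn, hw, c, hc, rfl⟩ := h
  exact ⟨b * a, S.B.mul_mem hb ha, n, hn, hw, c, hc, by simp [mul_assoc]⟩

theorem Cell.right {g b : G} {w : R.W} (h : Cell S w g) (hb : b ∈ S.B) : Cell S w (g * b) := by
  obtain ⟨a, ha, n, hn, hw, c, hc, rfl⟩ := h
  exact ⟨a, ha, n, hn, hw, c * b, S.B.mul_mem hc hb, by simp [mul_assoc]⟩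

theorem Cell.inv {g : G} {w : R.W} (h : Cell S w g) : Cell S w⁻¹ g⁻¹ := by
  obtain ⟨a, ha, n, hn, hw, c, hc, rfl⟩ := h
  exact ⟨c⁻¹, S.B.inv_mem hc, n⁻¹, S.N.inv_mem hn, hw.inv, a⁻¹, S.B.inv_mem ha, by simp [mul_assoc]⟩

theorem Cell.self {n : G} {w : R.W} (hn : n ∈ S.N) (hw : S.Acts n w) : Cell S w n :=
  ⟨1, S.B.one_mem, n, hn, hw, 1, S.B.one_mem, by simp⟩

theorem mem_cell_one {g : G} : Cell S 1 g ↔ g ∈ S.B := by
  refine ⟨?_, fun h => by simpa using (Cell.self S.N.one_mem Acts.one).left h⟩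
  rintro ⟨a, ha, n, hn, hw, c, hc, rfl⟩
  exact S.B.mul_mem (S.B.mul_mem ha (S.H_le_B (S.mem_H_of_acts hn hw))) hc

theorem Cell.exists {g n : G} {w : R.W} (h : Cell S w g) (hn : n ∈ S.N) (hw : S.Acts n w) :
    ∃ b ∈ S.B, ∃ c ∈ S.B, g = b * n * c := by
  obtain ⟨a, ha, m, hm, hw', c, hc, rfl⟩ := h
  exact ⟨a, ha, n⁻¹ * m * c, S.B.mul_mem (S.H_le_B (S.inv_mul_mem_H hn hm hw hw')) hc,
    by simp [mul_assoc]⟩

theorem mem_P {J : Set ι} {g : G} : g ∈ S.P J ↔ ∃ w ∈ R.WJ J, Cell S w g := by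
  rw [S.mem_P_iff]
  exact ⟨fun ⟨b, hb, n, hn, w, hw, h, c, hc, e⟩ => ⟨w, hw, b, hb, n, hn, h, c, hc, e⟩,
    fun ⟨w, hw, b, hb, n, hn, h, c, hc, e⟩ => ⟨b, hb, n, hn, w, hw, h, c, hc, e⟩⟩

theorem P_mono {I J : Set ι} (h : I ⊆ J) : S.P I ≤ S.P J :=
  sup_le_sup_left (Subgroup.closure_mono fun _ hx => by obtain ⟨j, hj, e⟩ := hx; exact ⟨j, h hj, e⟩) _

theorem n_mem_P {I : Set ι} {i : ι} (h : i ∈ I) : S.n (R.simple i) 1 ∈ S.P I :=
  Subgroup.mem_sup_right (Subgroup.subset_closure ⟨i, h, rfl⟩)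

theorem P_empty : S.P ∅ = S.B := by simp [StSys.P]

theorem P_univ (hS : S.grp = ⊤) : S.P Set.univ = ⊤ := by
  rw [eq_top_iff]
  intro g _
  obtain ⟨w, hw⟩ := exists_cell hS g
  exact mem_P.2 ⟨w, by simp [R.WJ_univ], hw⟩

theorem UJ_le_Up (J : Set ι) : S.UJ J ≤ S.Up := S.U_mono fun _ h => h.1

theorem Red.pos {I : Set ι} {w : R.W} (hw : Red R I w) {r : Φ} (hr : R.Pos r) (hI : R.InJ I r) :
    R.Pos (R.act w r) :=
  R.act_pos_of_simple hr fun j hj => hw j (by by_contra h; exact hj (hI j h))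

theorem cell_mul {I : Set ι} {w v : R.W} (hw : Red R I w) (hv : v ∈ R.WJ I) {y z : G}
    (hy : Cell S w y) (hz : Cell S v z) : Cell S (w * v) (y * z) := by
  obtain ⟨a, ha, n, hn, hnw, c, hc, rfl⟩ := hy
  obtain ⟨b, hb, m, hm, hmv, d, hd, e⟩ := hz.left hc
  obtain ⟨u, hu, h, hh, rfl⟩ := S.nconj.mem_B.1 hb
  obtain ⟨u₁, hu₁, u₂, hu₂, rfl⟩ := S.exists_mul_of_mem_U R.closed_pos
    (fun _ h => R.fv_one_pos h) {r | R.InJ I r} hu
  have k1 : n * u₁ * n⁻¹ ∈ S.Up := hnw.conj_mem_U (fun r hr => hw.pos hr.1 hr.2) hu₁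
  have k2 : m⁻¹ * u₂ * m ∈ S.Up := UJ_le_Up I (conj_mem_of_normalizer
    (S.nconj.P_le_normalizer I (mem_P.2 ⟨v, hv, Cell.self hm hmv⟩)) hu₂)
  have k3 : m⁻¹ * h * m ∈ S.H := hmv.conj_mem_H' hh
  refine ⟨a * (n * u₁ * n⁻¹), S.B.mul_mem ha (S.Up_le_B k1), n * m, S.N.mul_mem hn hm,
    hnw.mul hmv, (m⁻¹ * u₂ * m) * (m⁻¹ * h * m) * d,
    S.B.mul_mem (S.B.mul_mem (S.Up_le_B k2) (S.H_le_B k3)) hd, ?_⟩
  rw [mul_assoc (a * n), e]; group

theorem Red.eq_one {I : Set ι} {w v : R.W} (hw : Red R I w) (hv : v ∈ R.WJ I)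
    (h : Red R I (w * v)) : v = 1 := by
  by_contra hne
  obtain ⟨i, hi⟩ := R.exists_simple_neg hne
  have hI : i ∈ I := by
    by_contra hI
    exact hi ((R.pos_act_WJ hv (by rwa [R.inJ_simple])).2 (R.pos_simple i))
  have := hw.pos ((R.pos_neg_iff _).2 hi)
    (R.inJ_neg.2 ((R.inJ_act_WJ hv _).2 (R.inJ_simple.2 hI)))
  rw [R.act_neg, R.pos_neg_iff, ← R.act_mul] at this
  exact this (h i hI)

theorem gate_unique {I : Set ι} {w w' : R.W} (hw : Red R I w) (hw' : Red R I w') {y y' : G}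
    (hy : Cell S w y) (hy' : Cell S w' y') (h : y⁻¹ * y' ∈ S.P I) : y⁻¹ * y' ∈ S.B := by
  obtain ⟨v, hv, hz⟩ := mem_P.1 h
  have := cell_mul hw hv hy hz
  rw [mul_inv_cancel_left] at this
  obtain rfl := cell_unique hy' this
  obtain rfl := hw.eq_one hv hw'
  exact mem_cell_one.1 hz

theorem gate_exists' (I : Set ι) (k : ℕ) : ∀ (w : R.W) (x : G), R.gen.len w = k → Cell S w x →
    ∃ y w', Cell S w' y ∧ Red R I w' ∧ y⁻¹ * x ∈ S.P I := by
  induction k using Nat.strong_induction_on with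
  | _ k ih =>
  intro w x hk hx
  by_cases h : Red R I w
  · exact ⟨x, w, hx, h, by simp⟩
  simp only [Red, not_forall] at h
  obtain ⟨i, hi, h⟩ := h
  obtain ⟨a, ha, n, hn, hnw, c, hc, rfl⟩ := hx
  obtain ⟨y, w', h1, h2, h3⟩ := ih _ (hk ▸ R.len_mul_s_lt h) (w * R.s i)
    (a * (n * S.n (R.simple i) 1)) rfl ((Cell.self (S.N.mul_mem hn (S.n_mem_N _ one_ne_zero))
      (hnw.mul (S.nconj.acts i one_ne_zero))).left ha)
  refine ⟨y, w', h1, h2, ?_⟩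
  have := (S.P I).mul_mem h3 ((S.P I).mul_mem ((S.P I).inv_mem (n_mem_P hi)) (S.B_le_P I hc))
  simpa [mul_assoc] using this

theorem gate_exists (hS : S.grp = ⊤) (I : Set ι) (x : G) :
    ∃ y w, Cell S w y ∧ Red R I w ∧ y⁻¹ * x ∈ S.P I := by
  obtain ⟨w, hw⟩ := exists_cell hS x
  exact gate_exists' I _ w x rfl hw

/-- the type of an element -/
noncomputable def ty (hS : S.grp = ⊤) (g : G) : R.W := (exists_cell hS g).choose

theorem mem_ty (hS : S.grp = ⊤) (g : G) : Cell S (ty hS g) g := (exists_cell hS g).choose_spec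

theorem ty_eq (hS : S.grp = ⊤) {g : G} {w : R.W} (h : Cell S w g) : ty hS g = w :=
  cell_unique (mem_ty hS g) h

theorem B_le_norm_UJ (J : Set ι) : S.B ≤ Subgroup.normalizer (S.UJ J : Set G) :=
  (S.B_le_P J).trans (S.nconj.P_le_normalizer J)

/-- `B ∩ n B n⁻¹` for the longest element of `W_J` -/
theorem conj_mem_B_iff_J {J : Set ι} {w : R.W} (hw : ∀ r, R.Inv w r ↔ R.Pos r ∧ R.InJ J r)
    {n : G} (hn : S.Acts n w) {t : G} (ht : t ∈ S.B) : n * t * n⁻¹ ∈ S.B ↔ t ∈ S.UJ J ⊔ S.H := by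
  have key : ∀ r, R.Pos r → (R.Pos (R.act w r) ↔ ¬ R.InJ J r) := fun r hr => by
    have := hw r
    simp only [RS.Inv, hr, true_and] at this
    rw [← this, not_not]
  constructor
  · intro h
    obtain ⟨u, hu, y, hy, rfl⟩ := S.nconj.mem_B.1 ht
    refine Subgroup.mul_mem_sup ?_ hy
    have k1 : n * u * n⁻¹ ∈ S.B := by
      have := S.B.mul_mem h (S.B.inv_mem (S.H_le_B (hn.conj_mem_H hy)))
      simpa [mul_assoc] using this
    obtain ⟨u₁, hu₁, u₂, hu₂, rfl⟩ := S.exists_mul_of_mem_U R.closed_pos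
      (fun _ h => R.fv_one_pos h) {r | ¬ R.InJ J r} hu
    have k2 : n * u₁ * n⁻¹ ∈ S.Up := hn.conj_mem_U (fun r hr => (key r hr.1).2 hr.2) hu₁
    have k3 : n * u₂ * n⁻¹ ∈ S.Um :=
      hn.conj_mem_U (T' := {r | ¬ R.Pos r}) (fun r hr h => hr.2 ((key r hr.1).1 h)) hu₂
    have k4 : n * u₂ * n⁻¹ ∈ S.B := by
      have := S.B.mul_mem (S.B.inv_mem (S.Up_le_B k2)) k1
      simpa [mul_assoc] using this
    obtain rfl := conj_eq_one (S.eq_one_of_mem_Um_B k3 k4)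
    rw [mul_one]; exact hu₁
  · intro h
    obtain ⟨u, hu, y, hy, rfl⟩ := S.nconj.mem_U_sup_H.1 h
    have k2 : n * u * n⁻¹ ∈ S.Up := hn.conj_mem_U (fun r hr => (key r hr.1).2 hr.2) hu
    have := S.B.mul_mem (S.Up_le_B k2) (S.H_le_B (hn.conj_mem_H hy))
    simpa [mul_assoc] using this

theorem longest_iff {J : Set ι} {w₀ : R.W} (h0 : ∀ r, R.Inv w₀ r ↔ R.Pos r ∧ R.InJ J r) (w : R.W) :
    w = w₀ ↔ w ∈ R.WJ J ∧ ∀ j ∈ J, ¬ R.Pos (R.act w (R.simple j)) := by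
  constructor
  · rintro rfl
    exact ⟨R.mem_WJ_iff.2 fun r hr => ((h0 r).1 hr).2,
      fun j hj => ((h0 _).2 ⟨R.pos_simple j, R.inJ_simple.2 hj⟩).2⟩
  · rintro ⟨h1, h2⟩
    refine R.eq_of_inv_iff fun r => ?_
    rw [h0]
    exact ⟨fun h => ⟨h.1, R.mem_WJ_iff.1 h1 r h⟩, fun h => ⟨h.1, R.act_neg_of_simple h.1
      fun j hj => h2 j (by by_contra e; exact hj (h.2 j e))⟩⟩

theorem longest_inv {J : Set ι} {w₀ : R.W} (h0 : ∀ r, R.Inv w₀ r ↔ R.Pos r ∧ R.InJ J r) :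
    w₀⁻¹ = w₀ := by
  have h := (longest_iff h0 w₀).1 rfl
  refine (longest_iff h0 _).2 ⟨(R.WJ J).inv_mem h.1, fun j hj hp => ?_⟩
  have := ((h0 _).2 ⟨hp, (R.inJ_act_WJ ((R.WJ J).inv_mem h.1) _).2 (R.inJ_simple.2 hj)⟩).2
  rw [R.act_act_inv] at this
  exact this (R.pos_simple j)

variable [Fintype G]

variable (S) in
/-- the Steinberg character of the Levi quotient of `P_J`, inflated -/
noncomputable def StJ (J : Finset ι) (g : G) : ℂ := ∑ I ∈ J.powerset, (-1 : ℂ) ^ I.card *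
  ((Nat.card (S.P I) : ℂ)⁻¹ * Nat.card {x // x ∈ S.P J ∧ x⁻¹ * g * x ∈ S.P I})

theorem card_ne (K : Subgroup G) : (Nat.card K : ℂ) ≠ 0 := Nat.cast_ne_zero.2 Nat.card_pos.ne'

theorem count1 (hS : S.grp = ⊤) {I J : Set ι} (hIJ : I ⊆ J) {b : G} (hb : b ∈ S.B) :
    (Nat.card (S.P I) : ℂ)⁻¹ * Nat.card {x // x ∈ S.P J ∧ x⁻¹ * b * x ∈ S.P I} =
      (Nat.card S.B : ℂ)⁻¹ * Nat.card {y // (y ∈ S.P J ∧ y⁻¹ * b * y ∈ S.B) ∧ Red R I (ty hS y)} := by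
  have := count_gate {x | x ∈ S.P J ∧ x⁻¹ * b * x ∈ S.P I}
    {y | (y ∈ S.P J ∧ y⁻¹ * b * y ∈ S.B) ∧ Red R I (ty hS y)} S.B (S.P I) ?_ ?_ (S.B_le_P I) ?_ ?_
  · rw [inv_mul_eq_div, inv_mul_eq_div, div_eq_div_iff (card_ne _) (card_ne _)]
    exact_mod_cast this.symm
  · rintro y ⟨⟨h1, h2⟩, -⟩ l hl
    refine ⟨(S.P J).mul_mem h1 (P_mono hIJ hl), ?_⟩
    have := (S.P I).mul_mem ((S.P I).mul_mem ((S.P I).inv_mem hl) (S.B_le_P I h2)) hl
    simpa [mul_assoc] using this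
  · rintro y ⟨⟨h1, h2⟩, h3⟩ l hl
    refine ⟨⟨(S.P J).mul_mem h1 (S.B_le_P J hl), ?_⟩, ?_⟩
    · have := S.B.mul_mem (S.B.mul_mem (S.B.inv_mem hl) h2) hl
      simpa [mul_assoc] using this
    · rwa [ty_eq hS ((mem_ty hS y).right hl)]
  · rintro x ⟨h1, h2⟩
    obtain ⟨y, w, k1, k2, k3⟩ := gate_exists hS I x
    refine ⟨y, ⟨⟨?_, ?_⟩, by rwa [ty_eq hS k1]⟩, k3⟩
    · have := (S.P J).mul_mem h1 ((S.P J).inv_mem (P_mono hIJ k3))
      simpa [mul_assoc] using this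
    · rw [mul_assoc]
      refine gate_unique k2 k2 k1 (k1.left hb) ?_
      have := (S.P I).mul_mem ((S.P I).mul_mem k3 h2) ((S.P I).inv_mem k3)
      simpa [mul_assoc] using this
  · rintro y ⟨-, h⟩ y' ⟨-, h'⟩ e
    exact gate_unique h h' (mem_ty hS y) (mem_ty hS y') e

theorem count2 {J : Set ι} {w₀ : R.W} (h0 : ∀ r, R.Inv w₀ r ↔ R.Pos r ∧ R.InJ J r) {b : G}
    (hb : b ∈ S.B) : (Nat.card S.B : ℂ)⁻¹ * Nat.card {y // Cell S w₀ y ∧ y⁻¹ * b * y ∈ S.B} =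
      (Nat.card ↥(S.UJ J ⊔ S.H) : ℂ)⁻¹ * Nat.card {y // y ∈ S.B ∧ y⁻¹ * b * y ∈ S.UJ J ⊔ S.H} := by
  obtain ⟨n, hn, hw⟩ := S.nconj.exists_acts w₀
  have hw' : S.Acts n⁻¹ w₀ := longest_inv h0 ▸ hw.inv
  have hT : S.UJ J ⊔ S.H ≤ S.B := sup_le ((UJ_le_Up J).trans S.Up_le_B) S.H_le_B
  have key : ∀ t ∈ S.B, n⁻¹ * t * n ∈ S.B ↔ t ∈ S.UJ J ⊔ S.H := fun t ht => by
    simpa using conj_mem_B_iff_J h0 hw' ht
  have := count_gate {y | Cell S w₀ y ∧ y⁻¹ * b * y ∈ S.B}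
    {z | z * n⁻¹ ∈ S.B ∧ (z * n⁻¹)⁻¹ * b * (z * n⁻¹) ∈ S.UJ J ⊔ S.H}
    ((S.UJ J ⊔ S.H).comap (MulAut.conj n).toMonoidHom) S.B ?_ ?_ ?_ ?_ ?_
  · rw [inv_mul_eq_div, inv_mul_eq_div, div_eq_div_iff (card_ne _) (card_ne _)]
    have e1 : Nat.card ((S.UJ J ⊔ S.H).comap (MulAut.conj n).toMonoidHom) =
        Nat.card ↥(S.UJ J ⊔ S.H) :=
      Nat.card_congr ((MulAut.conj n).toEquiv.subtypeEquiv fun _ => Iff.rfl)
    have e2 : Nat.card {z | z * n⁻¹ ∈ S.B ∧ (z * n⁻¹)⁻¹ * b * (z * n⁻¹) ∈ S.UJ J ⊔ S.H} =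
        Nat.card {y // y ∈ S.B ∧ y⁻¹ * b * y ∈ S.UJ J ⊔ S.H} :=
      Nat.card_congr ((Equiv.mulRight n⁻¹).subtypeEquiv fun _ => Iff.rfl)
    rw [e1, e2] at this
    exact_mod_cast this.symm
  · rintro z ⟨h1, h2⟩ l hl
    refine ⟨by simpa using ((Cell.self hn hw).left h1).right hl, ?_⟩
    have := S.B.mul_mem (S.B.mul_mem (S.B.inv_mem hl) ((key _ (hT h2)).2 h2)) hl
    simpa [mul_assoc] using this
  · rintro z ⟨h1, h2⟩ k hk
    change n * k * n⁻¹ ∈ S.UJ J ⊔ S.H at hk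
    refine ⟨by simpa [mul_assoc] using S.B.mul_mem h1 (hT hk), ?_⟩
    have := Subgroup.mul_mem _ (Subgroup.mul_mem _ (Subgroup.inv_mem _ hk) h2) hk
    simpa [mul_assoc] using this
  · intro k hk
    change n * k * n⁻¹ ∈ S.UJ J ⊔ S.H at hk
    simpa [mul_assoc] using (key _ (hT hk)).2 hk
  · rintro x ⟨h1, h2⟩
    obtain ⟨a, ha, c, hc, rfl⟩ := h1.exists hn hw
    refine ⟨a * n, ⟨by simpa using ha, ?_⟩, by simpa [mul_assoc] using hc⟩
    rw [mul_inv_cancel_right]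
    refine (key _ (S.B.mul_mem (S.B.mul_mem (S.B.inv_mem ha) hb) ha)).1 ?_
    have := S.B.mul_mem (S.B.mul_mem hc h2) (S.B.inv_mem hc)
    simpa [mul_assoc] using this
  · rintro z ⟨h1, -⟩ z' ⟨h1', -⟩ e
    change n * (z⁻¹ * z') * n⁻¹ ∈ S.UJ J ⊔ S.H
    refine (key _ ?_).1 (by simpa [mul_assoc] using e)
    simpa [mul_assoc] using S.B.mul_mem (S.B.inv_mem h1) h1'

theorem StJ_B (hS : S.grp = ⊤) (J : Finset ι) {b : G} (hb : b ∈ S.B) : StJ S J b =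
    (Nat.card ↥(S.UJ J ⊔ S.H) : ℂ)⁻¹ * Nat.card {y // y ∈ S.B ∧ y⁻¹ * b * y ∈ S.UJ J ⊔ S.H} := by
  classical
  obtain ⟨w₀, -, h0⟩ := R.exists_longest (J : Set ι)
  rw [← count2 h0 hb, StJ, Finset.sum_congr rfl fun I hI => by
    rw [count1 hS (Finset.coe_subset.2 (Finset.mem_powerset.1 hI)) hb,
      card_set_eq fun y => (y ∈ S.P J ∧ y⁻¹ * b * y ∈ S.B) ∧ Red R I (ty hS y)]]
  simp only [mul_left_comm _ (Nat.card S.B : ℂ)⁻¹]
  rw [← Finset.mul_sum]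
  congr 1
  simp only [Finset.mul_sum]
  rw [Finset.sum_comm, card_set_eq]
  refine Finset.sum_congr rfl fun y _ => ?_
  by_cases h : y ∈ S.P J ∧ y⁻¹ * b * y ∈ S.B
  · simp only [h, true_and, and_true, Red, Finset.mem_coe]
    refine Eq.trans (by congr!) ((alt_sum J fun i => R.Pos (R.act (ty hS y) (R.simple i))).trans ?_)
    congr 1
    refine propext ?_
    obtain ⟨w, hw, hy⟩ := mem_P.1 h.1
    rw [ty_eq hS hy]
    exact ⟨fun k => (longest_iff h0 w).2 ⟨hw, k⟩ ▸ hy,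
      fun k => ((longest_iff h0 w).1 (cell_unique hy k)).2⟩
  · simp only [h, false_and, if_false, mul_zero, Finset.sum_const_zero]
    rw [if_neg]
    exact fun k => h ⟨mem_P.2 ⟨w₀, ((longest_iff h0 _).1 rfl).1, k.1⟩, k.2⟩

variable (S) in
/-- the Steinberg character -/
noncomputable def st : G → ℂ :=
  ∑ I : Finset ι, (-1 : ℂ) ^ I.card • indFun (S.P I) fun _ => 1

theorem st_eq (hS : S.grp = ⊤) (g : G) : st S g = StJ S Finset.univ g := by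
  simp only [st, StJ, Finset.sum_apply, Pi.smul_apply, smul_eq_mul, indFun_const_one_apply,
    Finset.powerset_univ, Finset.coe_univ, P_univ hS, Subgroup.mem_top, true_and]

theorem UJ_univ : S.UJ Set.univ = ⊥ := by
  rw [StSys.UJ, ← S.U_empty]; congr 1; ext r; simp [R.inJ_univ]

theorem st_B (hS : S.grp = ⊤) {b : G} (hb : b ∈ S.B) : st S b =
    (Nat.card S.H : ℂ)⁻¹ * Nat.card {y // y ∈ S.B ∧ y⁻¹ * b * y ∈ S.H} := by
  rw [st_eq hS, StJ_B hS _ hb, Finset.coe_univ, UJ_univ, bot_sup_eq]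

theorem card_sup {T : Set Φ} (hT : ∀ r ∈ T, R.Pos r) :
    Nat.card ↥(S.U T ⊔ S.H) = Nat.card (S.U T) * Nat.card S.H := by
  rw [← Nat.card_prod]
  refine (Nat.card_congr (Equiv.ofBijective (fun q : S.U T × S.H =>
    (⟨q.1 * q.2, Subgroup.mul_mem_sup q.1.2 q.2.2⟩ : ↥(S.U T ⊔ S.H))) ⟨?_, ?_⟩)).symm
  · rintro ⟨⟨a, ha⟩, ⟨b, hb⟩⟩ ⟨⟨c, hc⟩, ⟨d, hd⟩⟩ e
    simp only [Subtype.mk.injEq] at e
    have h1 : c⁻¹ * a = d * b⁻¹ := by rw [inv_mul_eq_iff_eq_mul, ← mul_assoc, ← e]; simp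
    have h2 : c⁻¹ * a = 1 := S.eq_one_of_mem_Up_H
      (S.U_mono hT ((S.U T).mul_mem ((S.U T).inv_mem hc) ha)) (h1 ▸ S.H.mul_mem hd (S.H.inv_mem hb))
    obtain rfl : c = a := inv_mul_eq_one.1 h2
    obtain rfl : b = d := mul_left_cancel e
    rfl
  · rintro ⟨g, hg⟩
    obtain ⟨u, hu, y, hy, rfl⟩ := S.nconj.mem_U_sup_H.1 hg
    exact ⟨(⟨u, hu⟩, ⟨y, hy⟩), rfl⟩

theorem card_B : Nat.card S.B = Nat.card S.Up * Nat.card S.H := card_sup fun _ h => h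

theorem mem_U_of_sup {T : Set Φ} (hT : ∀ r ∈ T, R.Pos r) {g : G} (h : g ∈ S.U T ⊔ S.H)
    (hg : g ∈ S.Up) : g ∈ S.U T := by
  obtain ⟨u, hu, y, hy, rfl⟩ := S.nconj.mem_U_sup_H.1 h
  obtain rfl := S.eq_one_of_mem_Up_H
    (by simpa using S.Up.mul_mem (S.Up.inv_mem (S.U_mono hT hu)) hg) hy
  simpa using hu

open Classical in
theorem StJ_Up (hS : S.grp = ⊤) (J : Finset ι) {u : G} (hu : u ∈ S.Up) : StJ S J u =
    if u ∈ S.UJ J then (Nat.card (S.UJ J) : ℂ)⁻¹ * Nat.card S.Up else 0 := by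
  rw [StJ_B hS J (S.Up_le_B hu)]
  have key : ∀ y ∈ S.B, y⁻¹ * u * y ∈ S.UJ J ⊔ S.H ↔ u ∈ S.UJ J := fun y hy => by
    refine ⟨fun h => ?_,
      fun h => Subgroup.mem_sup_left (conj_mem_of_normalizer (B_le_norm_UJ _ hy) h)⟩
    have k : y⁻¹ * u * y ∈ S.UJ J :=
      mem_U_of_sup (fun _ h => h.1) h (conj_mem_of_normalizer (S.nconj.B_le_normalizer hy) hu)
    have := conj_mem_of_normalizer ((Subgroup.normalizer _).inv_mem (B_le_norm_UJ _ hy)) k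
    simpa [mul_assoc] using this
  split_ifs with h
  · have e1 : Nat.card {y // y ∈ S.B ∧ y⁻¹ * u * y ∈ S.UJ J ⊔ S.H} = Nat.card S.B :=
      Nat.card_congr (Equiv.subtypeEquivRight
        fun y => ⟨fun k => k.1, fun k => ⟨k, (key y k).2 h⟩⟩)
    have e2 : Nat.card ↥(S.UJ J ⊔ S.H) = Nat.card (S.UJ J) * Nat.card S.H :=
      card_sup fun _ h => h.1
    rw [e1, e2, card_B]
    have := card_ne S.H
    push_cast; field_simp
  · have : IsEmpty {y // y ∈ S.B ∧ y⁻¹ * u * y ∈ S.UJ J ⊔ S.H} :=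
      ⟨fun y => h ((key _ y.2.1).1 y.2.2)⟩
    simp

theorem st_one (hS : S.grp = ⊤) : st S 1 = Nat.card S.Up := by
  rw [st_eq hS, StJ_Up hS _ S.Up.one_mem, if_pos (Subgroup.one_mem _), Finset.coe_univ, UJ_univ]
  simp

theorem st_Up (hS : S.grp = ⊤) {u : G} (hu : u ∈ S.Up) (h1 : u ≠ 1) : st S u = 0 := by
  rw [st_eq hS, StJ_Up hS _ hu, if_neg (by simpa [UJ_univ] using h1)]

theorem StJ_conj (J : Finset ι) (g : G) {x : G} (hx : x ∈ S.P J) :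
    StJ S J (x⁻¹ * g * x) = StJ S J g := by
  refine Finset.sum_congr rfl fun I _ => ?_
  rw [Nat.card_congr ((Equiv.mulLeft x).subtypeEquiv
    (p := fun y => y ∈ S.P J ∧ y⁻¹ * (x⁻¹ * g * x) * y ∈ S.P I)
    (q := fun y => y ∈ S.P J ∧ y⁻¹ * g * y ∈ S.P I) fun y => ?_)]
  simp [mul_assoc, (S.P J).mul_mem_cancel_left hx]

theorem card_Up : Nat.card S.Up = Nat.card F ^ {r | R.Pos r}.ncard :=
  S.inj.card_U R.closed_pos fun _ h => R.fv_one_pos h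

variable [Finite F] (p : ℕ) [Fact p.Prime] [CharP F p]

theorem pU : IsPGroup p S.Up := isPGroup_U p S.inj R.closed_pos fun _ h => R.fv_one_pos h

/-- `U` is a Sylow subgroup -/
def sylU (hS : S.grp = ⊤) (h3 : S.R3) : Sylow p G where
  toSubgroup := S.Up
  isPGroup' := pU p
  is_maximal' := fun {Q} hQ hle => by
    obtain ⟨g, -, hg⟩ := exists_conj_le_Up p h3 (X := Q) (hS ▸ le_top) hQ
    refine (Subgroup.eq_of_le_of_card_ge hle ?_).symm
    exact Nat.card_le_card_of_injective (fun y : Q => (⟨_, hg y y.2⟩ : S.Up))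
      fun a b e => by simpa using e

theorem card_Up_eq (hS : S.grp = ⊤) (h3 : S.R3) :
    Nat.card S.Up = p ^ (Nat.card G).factorization p := (sylU p hS h3).card_eq_multiplicity

theorem exists_conj_P (hS : S.grp = ⊤) (h3 : S.R3) (J : Set ι) {g : G} (hg : g ∈ S.P J)
    (hp : ∃ k, orderOf g = p ^ k) : ∃ x ∈ S.P J, x⁻¹ * g * x ∈ S.Up := by
  have hle : (sylU p hS h3 : Subgroup G) ≤ S.P J := S.Up_le_B.trans (S.B_le_P J)
  have h1 : IsPGroup p (Subgroup.zpowers (⟨g, hg⟩ : S.P J)) := by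
    obtain ⟨k, hk⟩ := hp
    exact IsPGroup.of_card (by rw [Nat.card_zpowers, ← hk, Subgroup.orderOf_mk])
  obtain ⟨Q, hQ⟩ := h1.exists_le_sylow
  obtain ⟨x, hx⟩ := MulAction.exists_smul_eq (S.P J) ((sylU p hS h3).subtype hle) Q
  have := hQ (Subgroup.mem_zpowers _)
  rw [← hx, Sylow.coe_subgroup_smul, Subgroup.mem_pointwise_smul_iff_inv_smul_mem] at this
  exact ⟨x, x.2, by simpa [Subgroup.mem_subgroupOf, sylU] using this⟩

theorem pel_conj {g x : G} : (∃ k, orderOf (x⁻¹ * g * x) = p ^ k) ↔ ∃ k, orderOf g = p ^ k := by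
  have := orderOf_injective (MulAut.conj x⁻¹).toMonoidHom (MulAut.conj x⁻¹).injective g
  simp only [MulEquiv.coe_toMonoidHom, MulAut.conj_apply, inv_inv] at this
  rw [this]

theorem pel_of_mem {u : G} (hu : u ∈ S.Up) : ∃ k, orderOf u = p ^ k := by
  obtain ⟨k, hk⟩ := IsPGroup.iff_orderOf.1 (pU (S := S) p) ⟨u, hu⟩
  exact ⟨k, by rw [← hk, Subgroup.orderOf_mk]⟩

open Classical in
theorem sum_StJ (hS : S.grp = ⊤) (h3 : S.R3) (J : Finset ι) :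
    ∑ g with g ∈ S.P J ∧ ∃ k, orderOf g = p ^ k, StJ S J g = Nat.card S.Up := by
  have h1 : ∀ g, g ∈ S.P J → (∃ k, orderOf g = p ^ k) → StJ S J g =
      if g ∈ S.UJ J then (Nat.card (S.UJ J) : ℂ)⁻¹ * Nat.card S.Up else 0 := fun g hg hp => by
    obtain ⟨x, hx, h⟩ := exists_conj_P p hS h3 _ hg hp
    rw [← StJ_conj J g hx, StJ_Up hS J h]
    refine if_congr ?_ rfl rfl
    simpa using norm_iff ((Subgroup.normalizer _).inv_mem (S.nconj.P_le_normalizer J hx)) g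
  rw [Finset.sum_congr rfl fun g hg => h1 g (Finset.mem_filter.1 hg).2.1 (Finset.mem_filter.1 hg).2.2,
    ← Finset.sum_filter, Finset.filter_filter, Finset.sum_const, nsmul_eq_mul]
  have : (Finset.univ.filter fun g => (g ∈ S.P J ∧ ∃ k, orderOf g = p ^ k) ∧ g ∈ S.UJ J).card =
      Nat.card (S.UJ J) := by
    rw [Nat.card_eq_fintype_card, Fintype.card_subtype]
    congr 1
    ext g
    simp only [Finset.mem_filter, Finset.mem_univ, true_and, and_iff_right_iff_imp]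
    exact fun h => ⟨S.B_le_P J (S.Up_le_B (UJ_le_Up _ h)), pel_of_mem p (UJ_le_Up _ h)⟩
  rw [this, mul_inv_cancel_left₀ (card_ne _)]

open Classical in
theorem sum_cnt {I J : Set ι} (hIJ : I ⊆ J) :
    ∑ g with g ∈ S.P J ∧ ∃ k, orderOf g = p ^ k,
      (Nat.card {x // x ∈ S.P J ∧ x⁻¹ * g * x ∈ S.P I} : ℂ) =
      Nat.card (S.P J) * Nat.card {g // g ∈ S.P I ∧ ∃ k, orderOf g = p ^ k} := by
  simp only [card_set_eq fun x => x ∈ S.P J ∧ _ ∈ S.P I]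
  rw [Finset.sum_comm, card_set_eq (· ∈ S.P J), Finset.sum_mul]
  refine Finset.sum_congr rfl fun x _ => ?_
  by_cases hx : x ∈ S.P J
  · simp only [hx, true_and, if_true, one_mul]
    rw [card_set_eq, Finset.sum_filter, ← Equiv.sum_comp (MulAut.conj x⁻¹).toEquiv
      fun g => if g ∈ S.P I ∧ ∃ k, orderOf g = p ^ k then (1 : ℂ) else 0]
    refine Finset.sum_congr rfl fun g _ => ?_
    simp only [MulEquiv.toEquiv_eq_coe, EquivLike.coe_coe, MulAut.conj_apply, inv_inv, pel_conj,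
      ← ite_and]
    refine if_congr ⟨fun h => ⟨h.2, h.1.2⟩, fun h => ⟨⟨?_, h.2⟩, h.1⟩⟩ rfl rfl
    have := (S.P J).mul_mem ((S.P J).mul_mem hx (P_mono hIJ h.1)) ((S.P J).inv_mem hx)
    simpa [mul_assoc] using this
  · simp [hx]

theorem moebius (a : Finset ι → ℂ) :
    ∑ J : Finset ι, (-1 : ℂ) ^ J.card * ∑ I ∈ J.powerset, (-1 : ℂ) ^ I.card * a I =
      a Finset.univ := by
  simp only [Finset.mul_sum]
  rw [Finset.sum_comm' (t' := Finset.univ) (s' := fun I => Finset.univ.filter (I ⊆ ·)) (by simp)]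
  rw [Finset.sum_eq_single Finset.univ]
  · rw [Finset.sum_eq_single Finset.univ (fun b hb h => absurd (by simpa using hb) h) (by simp),
      ← mul_assoc, ← mul_pow]
    simp
  · intro I _ hI
    rw [← Finset.sum_mul]
    obtain ⟨i, hi⟩ : ∃ i, i ∉ I := by simpa [Finset.eq_univ_iff_forall] using hI
    rw [Finset.sum_involution (fun J _ => if i ∈ J then J.erase i else insert i J), zero_mul]
    · intro J _
      split_ifs with h
      · rw [← Finset.card_erase_add_one h]; ring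
      · rw [Finset.card_insert_of_notMem h]; ring
    · intro J _ _
      split_ifs with h
      · exact fun e => Finset.notMem_erase i J (e.symm ▸ h)
      · exact fun e => h (e ▸ Finset.mem_insert_self i J)
    · intro J hJ
      simp only [Finset.mem_filter, Finset.mem_univ, true_and] at hJ ⊢
      split_ifs with h
      · exact Finset.subset_erase.2 ⟨hJ, hi⟩
      · exact hJ.trans (Finset.subset_insert _ _)
    · intro J _
      by_cases h : i ∈ J <;> simp [h]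
  · simp

theorem card_unip (hS : S.grp = ⊤) (h3 : S.R3) :
    Nat.card {g : G // ∃ k, orderOf g = p ^ k} = Nat.card S.Up ^ 2 := by
  classical
  have h1 : ∀ J : Finset ι, ∑ I ∈ J.powerset, (-1 : ℂ) ^ I.card * ((Nat.card (S.P I) : ℂ)⁻¹ *
      Nat.card {g // g ∈ S.P I ∧ ∃ k, orderOf g = p ^ k}) =
      (Nat.card (S.P J) : ℂ)⁻¹ * Nat.card S.Up := fun J => by
    rw [← sum_StJ p hS h3 J, eq_inv_mul_iff_mul_eq₀ (card_ne _)]
    simp only [StJ]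
    rw [Finset.sum_comm, Finset.mul_sum]
    refine Finset.sum_congr rfl fun I hI => ?_
    rw [← Finset.mul_sum, ← Finset.mul_sum,
      sum_cnt p (Finset.coe_subset.2 (Finset.mem_powerset.1 hI))]
    ring
  have h2 := moebius fun I : Finset ι => (Nat.card (S.P I) : ℂ)⁻¹ *
      Nat.card {g // g ∈ S.P I ∧ ∃ k, orderOf g = p ^ k}
  simp only [h1] at h2
  rw [Finset.coe_univ, P_univ hS, Subgroup.card_top] at h2
  simp only [Subgroup.mem_top, true_and] at h2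
  have h3 := st_one hS
  simp only [st, Finset.sum_apply, Pi.smul_apply, smul_eq_mul, indFun_const_one_apply, mul_one,
    inv_mul_cancel, Subgroup.one_mem, Nat.card_congr (Equiv.subtypeUnivEquiv (α := G) (p := fun _ => True) fun _ => trivial)] at h3
  have h4 : (Nat.card G : ℂ) ≠ 0 := Nat.cast_ne_zero.2 Nat.card_pos.ne'
  rw [eq_comm, inv_mul_eq_iff_eq_mul₀ h4, Finset.mul_sum] at h2
  have : (Nat.card {g : G // ∃ k, orderOf g = p ^ k} : ℂ) = Nat.card S.Up * Nat.card S.Up := by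
    rw [h2]
    conv_rhs => rw [← h3]
    conv_rhs => enter [2]; rw [h3]
    rw [Finset.sum_mul]
    exact Finset.sum_congr rfl fun I _ => by ring
  rw [sq]; exact_mod_cast this

end H4.St
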