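import Cfsg.Agent.H4.St1
import Cfsg.Agent.H3.CycTI
import Cfsg.Agent.H3.Brauer
import Cfsg.Agent.H4.OChar
import Cfsg.Agent.H6.StGroup
import Cfsg.Prelude.Def_ParabolicCharacters

/-! The Steinberg character of a Chevalley system, II: irreducibility, and the bridge to the
tabulated Chevalley groups. -/

set_option autoImplicit false
set_option linter.unusedSectionVars false

namespace H4.St

open Cfsg H6 H6.StSys H6.ChevSys H3

open Classical in
theorem inner_ind2 {G : Type*} [Group G] [Fintype G] (K H : Subgroup G) {s : Finset G}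
    (hs : IsDblReps K H s) (μ : K →* ℂˣ) (μ' : H →* ℂˣ) :
    classInner (indFun H (hf μ')) (indFun K (hf μ)) =
      ∑ g ∈ s, if ∀ (y : K) (e : g⁻¹ * y * g ∈ H), μ' ⟨_, e⟩ = μ y then 1 else 0 := by
  rw [inner_indFun_right _ _ (class_indFun _ _), mackey _ _ hs (char_class (char_hom μ')),
    inner_sum_left]
  refine Finset.sum_congr rfl fun g _ => ?_
  rw [inner_indFun_left _ _ (char_class (char_hom μ))]
  have := inner_hf (μ'.comp (((cjHom K g).comp (H.comap (cjHom K g)).subtype).codRestrict H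
    fun x => x.2)) (μ.comp (H.comap (cjHom K g)).subtype)
  refine this.trans (if_congr ?_ rfl rfl)
  exact ⟨fun e y f => DFunLike.congr_fun e ⟨y, f⟩, fun e => MonoidHom.ext fun y => e y.1 y.2⟩

variable {Φ ι : Type} [Fintype ι] [DecidableEq ι] {R : RS Φ ι} {F : Type*} [Field F]
  {G : Type*} [Group G] [Fintype Φ] {S : ChevSys R F G}

theorem mem_of_neg {I : Set ι} {v : R.W} (hv : v ∈ R.WJ I) {i : ι}
    (hi : ¬ R.Pos (R.act v (R.simple i))) : i ∈ I := by
  by_contra hI
  exact hi ((R.pos_act_WJ hv (by rwa [R.inJ_simple])).2 (R.pos_simple i))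

theorem dom_fix {I : Set ι} {g : ι → ℤ} (hg : ∀ i ∈ I, 0 ≤ g i) (k : ℕ) : ∀ v ∈ R.WJ I,
    R.gen.len v = k → (∀ i ∈ I, 0 ≤ R.fv g (R.act v (R.simple i))) →
      ∀ r, R.fv g (R.act v r) = R.fv g r := by
  induction k using Nat.strong_induction_on with
  | _ k ih =>
  intro v hv hk h
  by_cases h1 : v = 1
  · simp [h1]
  obtain ⟨i, hi⟩ := R.exists_simple_neg h1
  have hI := mem_of_neg hv hi
  have h2 : 0 ≤ R.fv g (R.neg (R.act v (R.simple i))) := Finset.sum_nonneg fun j _ => by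
    simpa using RS.ev_nonneg_J hg ((R.pos_neg_iff _).2 hi)
      (R.inJ_neg.2 ((R.inJ_act_WJ hv _).2 (R.inJ_simple.2 hI))) j
  rw [R.fv_neg] at h2
  have h3 : R.fv g (R.act v (R.simple i)) = 0 := by have := h i hI; omega
  have h4 : ∀ r, R.fv g (R.act (v * R.s i) r) = R.fv g (R.act v r) := fun r => by
    rw [R.act_mul, R.act_s, R.fv_act, R.fv_act v g r, ← R.ev_int, ← R.ev_int, R.ev_refl, h3]
    simp
  intro r
  rw [← h4, ih _ (hk ▸ R.len_mul_s_lt hi) _ ((R.WJ I).mul_mem hv (R.s_mem_WJ hI)) rfl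
    fun j hj => by rw [h4]; exact h j hj]

theorem fv_fJ_act {J : Set ι} {v : R.W} (hv : v ∈ R.WJ J) (r : Φ) :
    R.fv (RS.fJ J) (R.act v r) = R.fv (RS.fJ J) r := by
  refine Finset.sum_congr rfl fun j _ => ?_
  by_cases h : j ∈ J
  · simp [RS.fJ, h]
  · rw [R.vec_act_WJ hv r h]

theorem dbl_W {I J : Set ι} {w w' v v' : R.W} (h1 : Red R I w) (h2 : Red R J w⁻¹)
    (h1' : Red R I w') (h2' : Red R J w'⁻¹) (hv : v ∈ R.WJ J) (hv' : v' ∈ R.WJ I)
    (e : v * w = w' * v') : w = w' := by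
  have k1 : ∀ r, R.fv (fun j => R.fv (RS.fJ J) (R.act w' (R.simple j))) (R.act v' r) =
      R.fv (RS.fJ J) (R.act w r) := fun r => by
    rw [← R.fv_act, ← R.act_mul, ← e, R.act_mul, fv_fJ_act hv]
  have k2 := dom_fix (g := fun j => R.fv (RS.fJ J) (R.act w' (R.simple j)))
    (fun i hi => R.fv_fJ_nonneg J (h1' i hi)) _ v' hv' rfl
    fun i hi => by rw [k1]; exact R.fv_fJ_nonneg J (h1 i hi)
  have k3 : w' * w⁻¹ ∈ R.WJ J := R.mem_WJ_iff.2 fun r hr => by
    by_contra hJ
    have a := (R.fv_fJ_pos J).2 ⟨hr.1, hJ⟩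
    have b := (R.fv_fJ_pos J (r := R.act (w' * w⁻¹) r)).1 (by
      rw [R.act_mul, R.fv_act, ← k2, k1, R.act_act_inv]; exact a)
    exact hr.2 b.1
  have := h2'.eq_one k3 (by simpa using h2)
  exact (mul_inv_eq_one.1 this).symm

variable (S) in
/-- a chosen representative of `w` -/
noncomputable def nn (w : R.W) : G := (S.nconj.exists_acts w).choose

theorem nn_mem (w : R.W) : nn S w ∈ S.N := (S.nconj.exists_acts w).choose_spec.1
theorem nn_acts (w : R.W) : S.Acts (nn S w) w := (S.nconj.exists_acts w).choose_spec.2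
theorem nn_cell (w : R.W) : Cell S w (nn S w) := Cell.self (nn_mem w) (nn_acts w)
theorem nn_inj : Function.Injective (nn S) := fun a b e =>
  cell_unique (nn_cell a) (e ▸ nn_cell b)

theorem dbl_exists (I J : Set ι) (k : ℕ) : ∀ (w : R.W) (x : G), R.gen.len w = k → Cell S w x →
    ∃ w', (Red R I w' ∧ Red R J w'⁻¹) ∧ ∃ a ∈ S.P J, ∃ h ∈ S.P I, x = a * nn S w' * h := by
  induction k using Nat.strong_induction_on with
  | _ k ih =>
  intro w x hk hx
  obtain ⟨a, ha, c, hc, rfl⟩ := hx.exists (nn_mem w) (nn_acts w)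
  by_cases h : Red R I w
  · by_cases h' : Red R J w⁻¹
    · exact ⟨w, ⟨h, h'⟩, a, S.B_le_P J ha, c, S.B_le_P I hc, rfl⟩
    simp only [Red, not_forall] at h'
    obtain ⟨j, hj, h'⟩ := h'
    obtain ⟨w', h1, b, hb, d, hd, e⟩ := ih _ (by have := R.len_s_mul_of_neg h'; omega) (R.s j * w)
      (S.n (R.simple j) 1 * nn S w) rfl (Cell.self (S.N.mul_mem (S.n_mem_N _ one_ne_zero) (nn_mem w))
        ((S.nconj.acts j one_ne_zero).mul (nn_acts w)))
    refine ⟨w', h1, a * (S.n (R.simple j) 1)⁻¹ * b, (S.P J).mul_mem ((S.P J).mul_mem (S.B_le_P J ha)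
      ((S.P J).inv_mem (n_mem_P hj))) hb, d * c, (S.P I).mul_mem hd (S.B_le_P I hc), ?_⟩
    rw [eq_inv_mul_iff_mul_eq.2 e]; group
  simp only [Red, not_forall] at h
  obtain ⟨i, hi, h⟩ := h
  obtain ⟨w', h1, b, hb, d, hd, e⟩ := ih _ (hk ▸ R.len_mul_s_lt h) (w * R.s i)
    (nn S w * S.n (R.simple i) 1) rfl (Cell.self (S.N.mul_mem (nn_mem w) (S.n_mem_N _ one_ne_zero))
      ((nn_acts w).mul (S.nconj.acts i one_ne_zero)))
  refine ⟨w', h1, a * b, (S.P J).mul_mem (S.B_le_P J ha) hb, d * (S.n (R.simple i) 1)⁻¹ * c,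
    (S.P I).mul_mem ((S.P I).mul_mem hd ((S.P I).inv_mem (n_mem_P hi))) (S.B_le_P I hc), ?_⟩
  rw [eq_mul_inv_iff_mul_eq.2 e]; group

open Classical in
theorem dbl_P (hS : S.grp = ⊤) (I J : Set ι) : IsDblReps (S.P J) (S.P I)
    ((Finset.univ.filter fun w => Red R I w ∧ Red R J w⁻¹).map ⟨nn S, nn_inj⟩) := fun x => by
  obtain ⟨w, hw, a, ha, h, hh, e⟩ := dbl_exists I J _ _ x rfl (mem_ty hS x)
  refine ⟨nn S w, ⟨Finset.mem_map.2 ⟨w, by simpa using hw, rfl⟩, a, ha, h, hh, e⟩, ?_⟩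
  rintro _ ⟨hg, a', ha', h', hh', e'⟩
  obtain ⟨w', hw', rfl⟩ := Finset.mem_map.1 hg
  simp only [Finset.mem_filter, Finset.mem_univ, true_and, Function.Embedding.coeFn_mk] at hw' e' ⊢
  obtain ⟨v, hv, k⟩ := mem_P.1 ((S.P J).mul_mem ((S.P J).inv_mem ha') ha)
  obtain ⟨v', hv', k'⟩ := mem_P.1 ((S.P I).mul_mem hh' ((S.P I).inv_mem hh))
  have c1 := (cell_mul hw.2 ((R.WJ J).inv_mem hv) (nn_cell (S := S) w).inv k.inv).inv
  have c2 := cell_mul hw'.1 hv' (nn_cell (S := S) w') k'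
  have : ((nn S w)⁻¹ * (a'⁻¹ * a)⁻¹)⁻¹ = nn S w' * (h' * h⁻¹) := by
    rw [← mul_assoc, eq_mul_inv_iff_mul_eq, ← mul_right_inj a', ← mul_assoc a' (nn S w'), ← e', e]
    group
  rw [this] at c1
  rw [dbl_W hw.1 hw.2 hw'.1 hw'.2 hv hv' (by simpa using cell_unique c1 c2)]

variable [Fintype G]

theorem inner_st_P (hS : S.grp = ⊤) (J : Finset ι) :
    classInner (st S) (indFun (S.P J) fun _ => 1) = if J = ∅ then 1 else 0 := by
  classical
  have h1 : ∀ I : Finset ι, classInner (indFun (S.P I) fun _ => 1) (indFun (S.P J) fun _ => 1) =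
      ∑ w : R.W, if Red R I w ∧ Red R J w⁻¹ then 1 else 0 := fun I => by
    have := inner_ind2 _ _ (dbl_P hS (I : Set ι) J) 1 1
    simp only [MonoidHom.one_apply, implies_true, if_true, Finset.sum_map] at this
    rw [← Finset.sum_filter]
    exact this
  simp only [st, inner_sum_left, H3.inner_smul_left, h1, Finset.mul_sum]
  rw [Finset.sum_comm]
  obtain ⟨w₀, -, h0⟩ := R.exists_longest (Set.univ : Set ι)
  rw [Finset.sum_eq_single w₀ ?_ (by simp)]
  · have k := (longest_iff h0 w₀).1 rfl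
    rw [longest_inv h0, Finset.sum_eq_single ∅ ?_ (by simp)]
    · simp only [Finset.card_empty, pow_zero, Red, Finset.coe_empty, Set.mem_empty_iff_false,
        false_implies, implies_true, true_and, one_mul]
      refine if_congr ⟨fun h => ?_, fun h => by simp [h]⟩ rfl rfl
      exact Finset.eq_empty_of_forall_notMem fun j hj => k.2 j trivial (h j hj)
    · intro I _ hI
      obtain ⟨i, hi⟩ := Finset.nonempty_iff_ne_empty.2 hI
      rw [if_neg fun h => k.2 i trivial (h.1 i hi), mul_zero]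
  · intro w _ hw
    by_cases h : Red R J w⁻¹
    · simp only [h, and_true]
      have := alt_sum Finset.univ fun i => R.Pos (R.act w (R.simple i))
      rw [Finset.powerset_univ, if_neg fun k => hw ((longest_iff h0 w).2
        ⟨by simp [R.WJ_univ], fun j _ => k j (Finset.mem_univ j)⟩)] at this
      refine Eq.trans ?_ this
      simp only [Red, Finset.mem_coe]
      congr!
    · simp [h]

theorem gen_st : IsGeneralizedCharacter G (st S) := gen_sum _ _ fun I _ => by
  simpa using gen_intCast_smul (gen_indFun (S.P I) gen_one) ((-1) ^ I.card)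

theorem irr_st (hS : S.grp = ⊤) : IsIrrCharacter G (st S) := by
  refine isIrr_of_gen_norm_one gen_st ?_ (by rw [st_one hS]; simp)
  conv_lhs => enter [2]; rw [st]
  simp only [inner_sum_right, H3.inner_smul_right, inner_st_P hS]
  simp

theorem inner_st_B (hS : S.grp = ⊤) : classInner (st S) (indFun S.B fun _ => 1) = 1 := by
  have := inner_st_P hS ∅
  rwa [if_pos rfl, indFun_congr (show S.P (∅ : Finset ι) = S.B by rw [Finset.coe_empty, P_empty])
    _ (fun _ => 1) fun _ _ _ => rfl] at this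

variable [Finite F] (p : ℕ) [hp : Fact p.Prime] [CharP F p]

theorem nu_st (hS : S.grp = ⊤) (h3 : S.R3) : nu p (st S) = (Nat.card G).factorization p := by
  rw [nu, charDegree, st_one hS, Complex.natCast_re, Nat.floor_natCast, card_Up_eq p hS h3,
    Nat.factorization_pow]
  simp [hp.out.factorization]

theorem st_vanish (hS : S.grp = ⊤) (h3 : S.R3) {g : G} (hg : p ∣ orderOf g) : st S g = 0 :=
  eq_zero_of_nu hp.out (irr_st hS) (nu_st p hS h3) hg

end H4.St

namespace H6.Chev.Cert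

open Cfsg Cfsg.Lie H3 H4.St

variable {D : ChevalleyDatum} (C : Cert D) {K : Type*} [Field K]

theorem gsys_P (J : Set (Fin D.rank)) :
    (C.gsys K).P J = ((C.sys K).P J).subgroupOf (D.group K) := by
  apply StSys.eq_subgroupOf
  rw [StSys.P, StSys.P, Subgroup.map_sup, StSys.map_B C.gsys_hom, MonoidHom.map_closure]
  congr 2
  ext g
  constructor
  · rintro ⟨_, ⟨j, hj, rfl⟩, rfl⟩; exact ⟨j, hj, StSys.map_n C.gsys_hom _ _⟩
  · rintro ⟨j, hj, rfl⟩; exact ⟨_, ⟨j, hj, rfl⟩, StSys.map_n C.gsys_hom _ _⟩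

theorem st_eq [Fintype (D.group K)] : D.steinbergCharacter K = H4.St.st (C.gsys K) := by
  ext g
  simp only [ChevalleyDatum.steinbergCharacter, H4.St.st, Finset.sum_apply, Pi.smul_apply, smul_eq_mul]
  symm
  refine Finset.sum_bij (fun I _ => I.map Fin.valEmbedding) (fun I _ => ?_)
    (fun I _ J _ e => Finset.map_injective _ e) (fun J hJ => ?_) fun I _ => ?_
  · simp [Finset.subset_iff]
  · refine ⟨Finset.univ.filter fun i => i.1 ∈ J, by simp, ?_⟩
    ext j
    simp only [Finset.mem_map, Finset.mem_filter, Finset.mem_univ, true_and, Fin.valEmbedding_apply]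
    exact ⟨fun ⟨a, h, e⟩ => e ▸ h,
      fun h => ⟨⟨j, Finset.mem_range.1 (Finset.mem_powerset.1 hJ h)⟩, h, rfl⟩⟩
  · rw [Finset.card_map, indFun_one_eq_perm, ChevalleyDatum.parabolicIn, C.parabolicSubgroup_eq,
      C.gsys_P]
    have : {i : Fin D.rank | (i : ℕ) ∈ ((I.map Fin.valEmbedding : Finset ℕ) : Set ℕ)} = I := by
      ext i; simp [Fin.val_inj]
    rw [this]; rfl

theorem card_gUp [Fintype K] [Fintype (D.group K)] :
    Nat.card (C.gsys K).Up = Fintype.card K ^ (D.nroots / 2) := by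
  rw [card_Up, C.ncard_pos, Nat.card_eq_fintype_card]

end H6.Chev.Cert
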