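import Cfsg.Agent.H4.Fit

/-!
# The Broué–Puig `*`-construction
`Wt` (weights on Brauer elements), `Phi_gen`, `star`, `star_gen`, `sb_star`.
-/

set_option autoImplicit false
set_option linter.unusedSectionVars false

namespace H4
open MonoidAlgebra Cfsg H1
open scoped Pointwise ComplexConjugate

variable {G : Type*} [Group G] [Finite G] {M : Ideal AlgInt} {p : ℕ} [hp : Fact p.Prime]

theorem map_Tr_single {R V : Type*} [CommRing R] [AddCommGroup V] [Module R V] (f : R[G] →ₗ[R] V) {T K : Subgroup G}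
    (h : T ≤ K) {w : R[G]} (hw : w ∈ Fix R T) (h1 : ∀ x ∈ K, x ∉ T → f (cj x w) = 0) : f (Tr T K w) = f w := by
  rw [Tr_apply, map_sum, Finset.sum_eq_single ((1 : G) : G ⧸ T) (fun q hq hne => ?_)
    fun h' => (h' ((mk_mem_cos h).2 (one_mem _))).elim, cj_out hw, cj_one]
  refine h1 _ (mem_cos.1 hq) fun h2 => hne ?_
  rw [← q.out_eq', eq_comm, QuotientGroup.eq, inv_one, one_mul]
  exact h2

theorem exists_hom_zmod {Q : Type*} [Group Q] [Finite Q] (hQ : IsPGroup p Q) {R : Subgroup Q} (h : R ≠ ⊤) :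
    ∃ ψ : Q →* Multiplicative (ZMod p), R ≤ ψ.ker ∧ ψ.ker ≠ ⊤ := by
  obtain ⟨N, h1, h2⟩ := (eq_top_or_exists_le_coatom R).resolve_left h
  have := hQ.isNilpotent
  have := Subgroup.NormalizerCondition.normal_of_coatom N Group.normalizerCondition_of_isNilpotent h1
  have h3 := prime_index_of_normal_coatom h1
  obtain ⟨n, h4⟩ := hQ.index N
  have h5 : N.index = p := by
    rw [h4] at h3 ⊢; rw [h3.eq_one_of_pow, pow_one]
  have e := mulEquivOfPrimeCardEq (G := Q ⧸ N) (G' := Multiplicative (ZMod p)) (p := p) h5 (by simp)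
  have h6 : (e.toMonoidHom.comp (QuotientGroup.mk' N)).ker = N := by ext; simp
  exact ⟨_, h6.symm ▸ h2, h6.symm ▸ h1.1⟩

variable (p) in
/-- `E` is the direct product of a `p`-group and a `p'`-group -/
def Nl (E : Subgroup G) : Prop := ∀ a ∈ E, ∀ b ∈ E, pp p (a * b) = pp p a * pp p b

variable {E Q R P : Subgroup G} {j e f z : (k M)[G]} {χ θ η : G → ℂ} {w : G → (k M)[G] → ℂ} {g : G}

theorem nl_of_nilpotent [Group.IsNilpotent E] : Nl p E := fun a ha b hb => by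
  obtain ⟨h1, h2⟩ := ppExp_spec hp.out (Nat.card_pos (α := G)).ne'
  exact congrArg Subtype.val (H3.pow_mul_of_nilpotent' ((mul_comm _ _).trans (Nat.ordProj_mul_ordCompl_eq_self _ p)).symm
    ((Nat.coprime_ordCompl hp.out Nat.card_pos.ne').pow_left _).symm h2 h1 E ⟨a, ha⟩ ⟨b, hb⟩)

/-- the projection onto the `p`-part -/
noncomputable def Nl.hom (h : Nl p E) : E →* G := MonoidHom.mk' (fun g => pp p (g : G)) fun a b => h a a.2 b b.2

theorem Nl.mem_iff (h : Nl p E) {u : G} : u ∈ h.hom.range ↔ u ∈ E ∧ IsPElt p u :=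
  ⟨by rintro ⟨g, rfl⟩; exact ⟨pp_mem g.2, isPElt_pp hp.out _⟩, fun h => ⟨⟨u, h.1⟩, pp_of_isPElt hp.out h.2⟩⟩

theorem Nl.isP (h : Nl p E) : IsPGroup p h.hom.range := fun u =>
  ((isPElt_iff hp.out).1 (h.mem_iff.1 u.2).2).imp fun _ => Subtype.ext

theorem Nl.le (h : Nl p E) : h.hom.range ≤ E := fun _ hu => (h.mem_iff.1 hu).1

theorem Nl.pq_mem (h : Nl p E) (hg : g ∈ E) : pq p g ∈ CS h.hom.range := fun u hu => by
  have h1 := h _ (H4.pq_mem (p := p) hg) u (h.le hu)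
  rw [pp_of_not_dvd hp.out (not_dvd_orderOf_pq hp.out g), one_mul, pp_of_isPElt hp.out (h.mem_iff.1 hu).2] at h1
  have h2 := commute_pp (p := p) (pq p g * u)
  rw [h1, Commute, SemiconjBy, ← mul_assoc, mul_left_inj] at h2
  exact h2

theorem Nl.le_Stab (h : Nl p E) (he : IsBI (CS h.hom.range) e) : E ≤ Stab (NS h.hom.range) e := fun g hg => by
  rw [← pp_mul_pq (p := p) g]
  exact mul_mem (le_Stab_NS he ⟨⟨g, hg⟩, rfl⟩) (CS_le_Stab he (h.pq_mem hg))

theorem Br_gen (hM : IsPModular p M) (hP : IsPGroup p P) (h : P ≤ E) {a r c : (k M)[G]} (hj : j ∈ Fix (k M) E)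
    (ha : a ∈ Fix (k M) E) (hr : r ∈ Fix (k M) E) (h1 : j * a * j * r = j) (hc : c ∈ ZA (k M) (CS P))
    (h2 : Br P a * c = 0) : Br P j * c = 0 := by
  have := charP_k hM
  have f := fun {a : (k M)[G]} (ha : a ∈ Fix (k M) E) => Fix_anti h ha
  rw [← h1, mul_assoc _ j, Br_mul hP (f (mul_mem hj ha)) (f (mul_mem hj hr)), Br_mul hP (f hj) (f ha), mul_assoc,
    ← ZA_comm_Sup hc (Br_mem_Sup _ _), ← mul_assoc, mul_assoc _ _ c, h2, mul_zero, zero_mul]

theorem Prim.Br_mul (hM : IsPModular p M) (hj : Prim E j) (hQ : IsPGroup p Q) (h1 : Q ≤ E) (h2 : E ≤ Stab (NS Q) e)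
    (he : IsBI (CS Q) e) (h3 : Br Q j * e ≠ 0) (R : Subgroup G) : ∀ f, SLE p R f Q e → Br R j * f = Br R j := by
  have := charP_k hM
  refine subgroup_ind_top (motive := fun R => ∀ f, SLE p R f Q e → Br R j * f = Br R j) (fun R ih f hf => ?_) R
  have f1 : 1 - f ∈ ZA (k M) (CS R) := sub_mem (one_mem _) hf.bf.mem
  have f2 : (1 - f) * (1 - f) = 1 - f := by rw [mul_sub, sub_mul, sub_mul, hf.bf.idem]; simp
  have w1 : Br R j * (1 - f) ∈ Fix (k M) (E ⊓ NS R) := mul_mem (Br_mem_Fix inf_le_right (Fix_anti inf_le_left hj.mem))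
    (sub_mem (one_mem _) (mem_Fix.2 fun x hx => hf.cj_eq hM (h2 hx.1) hx.2))
  have w2 := mul_mem_Sup_subgroup (Br_mem_Sup R j) (mem_ZA.1 f1).2
  have w3 : ∀ S, R < S → S ≤ Q → Br S (Br R j * (1 - f)) = 0 := fun S h4 h5 => by
    have h6 := lt_inf_NS (hQ.to_le h5) h4
    obtain ⟨g, h7, h8⟩ := hf.exists_nsub hM h6.le (inf_le_left.trans h5) inf_le_right
    by_contra h9
    refine Br_ne_zero_of_le (Q := S ⊓ NS R) inf_le_left h9 ?_
    rw [H4.Br_mul h7.isP (Br_mem_Fix inf_le_right (Fix_anti (h8.le.trans h1) hj.mem)) (sub_mem (one_mem _) h7.fix),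
      Br_Br h6.le, ← ih _ h6 g h8, map_sub, Br_one, mul_assoc, mul_sub, ZA_comm_Sup h7.be.mem (Br_mem_Sup _ f),
      h7.mul, mul_one, sub_self, mul_zero]
  have n1 : ∀ x ∈ E, MulAut.conj x • Q = Q := fun x hx => conj_smul_eq_self_iff.2 (h2 hx).1
  have w4 : Br R (Tr (E ⊓ NS R) E (Br R j * (1 - f))) = Br R j * (1 - f) := by
    rw [map_Tr_single _ inf_le_left w1 fun x hx hx' => ?_, Br_of_Sup w2]
    by_contra h4
    have h5 := Br_cj_ne_zero h4 x⁻¹
    rw [cj_inv_cj, ← Br_sup_of_Sup w2] at h5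
    refine h5 (w3 _ (left_lt_sup.2 fun h6 => hx' ⟨hx, ?_⟩) (sup_le hf.le ?_))
    · exact (NS R).inv_mem_iff.1 (conj_smul_eq_self_iff.1 (Subgroup.eq_of_le_of_card_ge h6 (card_conj_smul _ _).ge))
    · exact n1 _ (inv_mem hx) ▸ Subgroup.pointwise_smul_le_pointwise_smul_iff.2 hf.le
  have w5 := Tr_mem_Fix inf_le_left w1
  rw [eq_comm, ← sub_eq_zero, ← mul_one_sub]
  rcases hj.or w5 with ⟨r, h4, h5⟩ | ⟨r, h4, h5⟩
  · refine (h3 (Br_gen hM hQ h1 hj.mem w5 h4 h5 he.mem ?_)).elim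
    rcases hf.le.eq_or_lt with rfl | h6
    · rw [w4, hf.eq_of_eq, mul_assoc, sub_mul, he.idem, one_mul, sub_self, mul_zero]
    · refine mul_eq_zero_of_left (by_contra fun h7 => ?_) _
      obtain ⟨x, h8, h9⟩ := map_Tr_ne_zero _ h7
      have := Br_cj_ne_zero h9 x⁻¹
      rw [cj_inv_cj, n1 _ (inv_mem h8)] at this
      exact this (w3 Q h6 le_rfl)
  · exact Br_gen hM hf.isP (hf.le.trans h1) hj.mem (sub_mem hj.mem w5) h4 h5 f1
      (by rw [map_sub, w4, sub_mul, mul_assoc, f2, sub_self])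

variable (p) in
/-- weights on Brauer elements which are generalized characters on every Brauer pair -/
structure Wt (w : G → (k M)[G] → ℂ) : Prop where
  cj : ∀ x u f, w (x * u * x⁻¹) (cj x f) = w u f
  gen : ∀ Q : Subgroup G, IsPGroup p Q → ∀ e, IsBI (CS Q) e → ∃ η : Q → ℂ, IsGeneralizedCharacter Q η ∧
    ∀ (u : Q) f, SLE p (Subgroup.zpowers (u : G)) f Q e → w u f = η u

variable (p) in
/-- the weighted trace on an idempotent -/
noncomputable def Phi (χ : G → ℂ) (w : G → (k M)[G] → ℂ) (j : (k M)[G]) (g : G) : ℂ :=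
  ∑ f ∈ BIs M (CS (Zp p g)), w (pp p g) f * tau p χ g (Br (Zp p g) j * f)

theorem Phi_eq_zero (hM : IsPModular p M) (hχ : IsClassFunction G χ) (h : Br (Zp p g) j = 0) : Phi p χ w j g = 0 :=
  Finset.sum_eq_zero fun f _ => by rw [h, zero_mul, tau_zero hM hχ, mul_zero]

theorem Phi_sum (hM : IsPModular p M) (hχ : IsClassFunction G χ) {ι : Type*} (s : Finset ι) {y : ι → (k M)[G]}
    (h1 : ∀ i ∈ s, y i * y i = y i) (h2 : ∀ i ∈ s, cj g (y i) = y i) (h3 : ∀ i ∈ s, ∀ l ∈ s, i ≠ l → y i * y l = 0) :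
    Phi p χ w (∑ i ∈ s, y i) g = ∑ i ∈ s, Phi p χ w (y i) g := by
  have := charP_k hM
  simp only [Phi]
  rw [Finset.sum_comm]
  refine Finset.sum_congr rfl fun f hf => ?_
  have h4 := (mem_BIs hM).1 hf
  have h5 := fun i hi => Fix_anti (Zp_le_zpowers (p := p) g) (mem_Fix_zpowers.2 (h2 i hi))
  rw [map_sum, Finset.sum_mul, (tau_sum hM hχ s (fun i hi => GI.Br_mul hM (h1 i hi) (h2 i hi) h4) fun i hi l hl h => by
    rw [mul_assoc, ← mul_assoc f, ZA_comm_Sup h4.mem (Br_mem_Sup _ _), ← mul_assoc, ← mul_assoc,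
      ← Br_mul (isP_Zp g) (h5 i hi) (h5 l hl), h3 i hi l hl h, map_zero, zero_mul, zero_mul]).2, Finset.mul_sum]

theorem sum_BIs_cj {A : Type*} [AddCommMonoid A] (hM : IsPModular p M) (x : G) (H : Subgroup G) (F : (k M)[G] → A) :
    ∑ f ∈ BIs M (MulAut.conj x • H), F f = ∑ f ∈ BIs M H, F (cj x f) :=
  (Finset.sum_nbij' (cj x) (cj x⁻¹) (fun f hf => (mem_BIs hM).2 (((mem_BIs hM).1 hf).cj x))
    (fun f hf => (mem_BIs hM).2 (by simpa using ((mem_BIs hM).1 hf).cj x⁻¹)) (by simp) (by simp) fun _ _ => rfl).symm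

theorem Phi_cj (hM : IsPModular p M) (hχ : IsClassFunction G χ) (hw : Wt p w) (h1 : j * j = j) (h2 : cj g j = j)
    (x : G) : Phi p χ w (cj x j) (x * g * x⁻¹) = Phi p χ w j g := by
  rw [Phi, Zp_conj, CS_conj, sum_BIs_cj hM]
  exact Finset.sum_congr rfl fun f hf => by
    rw [pp_conj, hw.cj, ← cj_Br', ← map_mul, tau_cj hM hχ (GI.Br_mul hM h1 h2 ((mem_BIs hM).1 hf))]

theorem Phi_Tr (hM : IsPModular p M) (hc : IsClassFunction G χ) (hw : Wt p w) {K : Subgroup G} (k1 : K ≤ E)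
    (k2 : E ≤ NS K) (k3 : ∀ g ∈ E, pp p g ∈ K → g ∈ K) {i : (k M)[G]} (i1 : i ∈ Fix (k M) K) (i2 : i * i = i)
    (i4 : ∀ x ∈ E, x ∉ K → cj x i * i = 0) (h : IsGeneralizedCharacter K fun g => Phi p χ w i g) :
    IsGeneralizedCharacter E fun g => Phi p χ w (Tr K E i) g := by
  have := charP_k hM
  have := Fintype.ofFinite E
  have := Subgroup.normal_subgroupOf_of_le_normalizer k2
  convert H3.gen_indFun (K.subgroupOf E) (H3.gen_comp h (Subgroup.subgroupOfEquivOfLe k1).toMonoidHom) using 1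
  funext g
  by_cases hg : g ∈ K.subgroupOf E
  · have k6 := fun (y : G) (hy : y ∈ E) => mem_Fix.1 (cj_mem_Fix' (k2 hy) i1) (g : G) hg
    have k7 : ∀ y ∈ E, Phi p χ w (cj y i) g = Phi p χ w i (y⁻¹ * g * y⁻¹⁻¹) := fun y hy => by
      rw [← Phi_cj hM hc hw (by rw [← map_mul, i2]) (k6 y hy) y⁻¹, cj_inv_cj]
    rw [H3.indFun_normal_apply _ _ ⟨g, hg⟩, Tr_apply, Phi_sum hM hc _ (fun _ _ => by rw [← map_mul, i2])
      (fun q hq => k6 _ (mem_cos.1 hq)) fun q hq q' hq' h => ?_]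
    · rw [eq_inv_mul_iff_mul_eq₀ (H3.card_ne_zero' _), Nat.card_congr (Subgroup.subgroupOfEquivOfLe k1).toEquiv,
        ← nsmul_eq_mul, ← sum_fs_eq_sum_cos k1 (fun y => Phi p χ w (cj y i) g) fun y _ t ht => by
          rw [cj_mul, mem_Fix.1 i1 t ht], Finset.sum_subtype (p := (· ∈ E)) _ (by simp), ← Equiv.sum_comp (Equiv.inv E)]
      exact Finset.sum_congr rfl fun y _ => (k7 _ (inv_mem y.2)).trans (by simp)
    · have := congrArg (cj q'.out) (i4 (q'.out⁻¹ * q.out) (mul_mem (inv_mem (mem_cos.1 hq')) (mem_cos.1 hq))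
        fun e => h (by rw [← q.out_eq', ← q'.out_eq', eq_comm, QuotientGroup.eq]; exact e))
      rwa [map_mul, ← cj_mul, mul_inv_cancel_left, map_zero] at this
  · rw [H3.indFun_normal_of_not_mem _ _ hg]
    refine Phi_eq_zero hM hc (by_contra fun h6 => hg ?_)
    obtain ⟨y, h7, h8, -⟩ := Br_Tr_ne_zero k1 (isP_Zp (g : G)) (Zp_le g.2) i1 h6
    exact k3 g g.2 ((conj_smul_eq_self_iff.2 (k2 h7)).le (h8 (Subgroup.mem_zpowers _)))

theorem Nl.exists_delta (hM : IsPModular p M) (hE : Nl p E) {x : G} (hx : x ∉ CS hE.hom.range) :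
    ∃ K < E, ∃ δ : G → k M, E ≤ NS K ∧ (∀ g ∈ E, pp p g ∈ K → g ∈ K) ∧ E ⊓ C1 x ≤ K ∧
      (∀ x ∈ E, ∀ y ∈ E, δ (x * y) = δ x + δ y) ∧ (∀ x, δ x ^ p = δ x) ∧ ∀ x ∈ E, x ∈ K ↔ δ x = 0 := by
  classical
  have := charP_k hM
  obtain ⟨ψ, h4, h5⟩ := exists_hom_zmod hE.isP (R := ((C1 x).subgroupOf E).map hE.hom.rangeRestrict) fun e =>
    hx (le_centralizer_singleton.1 fun u hu => by
      obtain ⟨y, h4, h5⟩ := e.ge (Subgroup.mem_top ⟨u, hu⟩)
      have : pp p (y : G) = u := congrArg Subtype.val h5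
      exact this ▸ pp_mem h4)
  obtain ⟨φ, h6⟩ : ∃ φ, φ = ψ.comp hE.hom.rangeRestrict := ⟨_, rfl⟩
  have k2 : ∀ y : E, (y : G) ∈ φ.ker.map E.subtype ↔ y ∈ φ.ker := fun y =>
    Subgroup.mem_map_iff_mem E.subtype_injective
  refine ⟨φ.ker.map E.subtype, lt_of_le_of_ne (Subgroup.map_subtype_le _) fun e => h5 (top_unique fun u _ => ?_),
    fun y => if h : y ∈ E then ZMod.castHom (dvd_refl p) (k M) (φ ⟨y, h⟩).toAdd else 0, ?_, fun g hg h => ?_,
    fun y hy => (k2 ⟨y, hy.1⟩).2 (h6 ▸ h4 ⟨⟨y, hy.1⟩, hy.2, rfl⟩), fun y hy t ht => ?_, fun y => ?_, fun y hy => ?_⟩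
  · obtain ⟨y, rfl⟩ := hE.hom.rangeRestrict_surjective u
    have := (k2 y).1 (e.ge y.2)
    rwa [h6] at this
  · exact (Subgroup.normal_subgroupOf_iff_le_normalizer (Subgroup.map_subtype_le _)).1
      (by rw [Subgroup.subgroupOf, Subgroup.comap_map_eq_self_of_injective E.subtype_injective]; infer_instance)
  · have h11 := (k2 (pp p ⟨g, hg⟩)).1 (by rwa [coe_pp hp.out])
    rwa [MonoidHom.mem_ker, map_pp hp.out, pp_of_isPElt hp.out ((isPElt_iff hp.out).2 ⟨1, by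
      rw [pow_one, ← ofAdd_toAdd (φ _), ← ofAdd_nsmul]; simp⟩), ← MonoidHom.mem_ker, ← k2] at h11
  · simp only
    rw [dif_pos hy, dif_pos ht, dif_pos (mul_mem hy ht), ← map_add, ← toAdd_mul, ← map_mul]; rfl
  · simp only
    split_ifs; exacts [by rw [← map_pow, ZMod.pow_card], zero_pow hp.out.ne_zero]
  · simp only
    rw [dif_pos hy, map_eq_zero, toAdd_eq_zero]; exact k2 ⟨y, hy⟩

theorem Phi_gen (hM : IsPModular p M) (hχ : IsCharacter G χ) (hw : Wt p w) (E : Subgroup G) :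
    Nl p E → ∀ j ∈ Fix (k M) E, j * j = j → IsGeneralizedCharacter E fun g => Phi p χ w j g := by
  classical
  have := charP_k hM
  have hc := H3.char_class hχ
  induction E using WellFoundedLT.induction with | ind E ih => ?_
  intro hE j hj hj'
  refine idem_ind (P := fun j => IsGeneralizedCharacter E fun g => Phi p χ w j g) ?_ (fun j hj => ?_)
    (fun a ha b hb h1 h2 h3 h4 h5 h6 => ?_) hj hj'
  · simp only [Phi_eq_zero hM hc (map_zero _)]; exact H3.gen_zero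
  rotate_left
  · convert H3.gen_add h5 h6 using 1
    funext g
    simpa using Phi_sum hM hc (w := w) (g := g) Finset.univ (y := ![a, b]) (by simp [Fin.forall_fin_two, h1, h2])
      (by simp [Fin.forall_fin_two, mem_Fix.1 ha g g.2, mem_Fix.1 hb g g.2]) (by simp [Fin.forall_fin_two, h3, h4])
  by_cases h0 : Br hE.hom.range j = 0
  · obtain ⟨x, h1, r, h2, h3⟩ := hj.exists_acls
    obtain ⟨K, k1, δ, k2, k3, k4, d1, d2, d3⟩ := hE.exists_delta hM fun h => h1 (trunc_eq_zero_iff.1 h0 x h)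
    obtain ⟨i, i1, i2, i3, i4⟩ := hj.green k1.le d1 d2 d3 (mul_mem (mul_mem (mul_mem (Fix_anti k1.le hj.mem)
      (acls_mem_Fix _ x)) (Fix_anti k1.le hj.mem)) (Fix_anti k1.le h2))
      (by rw [← Tr_mul h2, ← Tr_mul hj.mem, ← mul_Tr hj.mem, ← acls_eq_Tr k1.le k4, h3])
    exact i3 ▸ Phi_Tr hM hc hw k1.le k2 k3 i1 i2 i4 (ih K k1 (fun a ha b hb => hE a (k1.le ha) b (k1.le hb)) i i1 i2)
  · obtain ⟨e, h1, h2⟩ := exists_isBI hM (CS hE.hom.range) h0
    obtain ⟨η, h3, h4⟩ := hw.gen _ hE.isP e h1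
    obtain ⟨J, j1, j2, j3, j4⟩ := exists_lift' hj.mem hj.idem
    convert H3.gen_mul (H3.gen_comp h3 hE.hom.rangeRestrict) (H3.char_gen (char_idem hχ j2 j3)) using 1
    funext g
    obtain ⟨f, hf⟩ := exists_sle hM hE.isP h1 (Q := Zp p (g : G)) (Subgroup.zpowers_le.2 ⟨g, rfl⟩)
    have h5 := hj.Br_mul hM hE.isP hE.le (hE.le_Stab h1) h1 h2 _ f hf
    rw [Phi, Finset.sum_eq_single_of_mem f ((mem_BIs hM).2 hf.bf) fun f' h6 h7 => by
      rw [← h5, mul_assoc, hf.bf.mul_eq_zero ((mem_BIs hM).1 h6) h7.symm, mul_zero, tau_zero hM hc, mul_zero], h5,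
      Lf.tau_eq hM hc ⟨j1, j3, mem_Fix.1 j2 g g.2, by rw [j4]⟩]
    exact congrArg (· * _) (h4 (hE.hom.rangeRestrict g) f hf)

end H4
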