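import Cfsg.Agent.H4.Star
import Cfsg.Agent.H4.Gal
import Cfsg.Agent.H4.BFus

/-!
# The `*`-construction for stable functions on a maximal Brauer pair
`St`, `wt`, `star`, `sb_star`, `inner_star`, `irr_star`.
-/

set_option autoImplicit false
set_option linter.unusedSectionVars false

namespace H4
open MonoidAlgebra Cfsg H1
open scoped Pointwise ComplexConjugate

variable {G : Type*} [Group G] [Finite G] {M : Ideal AlgInt} {p : ℕ} [hp : Fact p.Prime]
variable {H Q P : Subgroup G} {j e f : (k M)[G]} {θ θ' : G → ℂ} {w : G → (k M)[G] → ℂ} {g u : G} {z : H}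
  {b : Set (IrrCharacter H)} {B : Set (IrrCharacter G)} {χ ψ : IrrCharacter G} {η η' : P → ℂ}

theorem Sec.CS_eq (hz : Sec p z) : CS (Subgroup.zpowers (z : G)) = H := (CS_zpowers _).trans hz.eq

theorem Sec.isP (hz : Sec p z) : IsPGroup p (Subgroup.zpowers (z : G)) := by
  have := isP_Zp (p := p) (z : G)
  rwa [Zp, pp_of_isPElt hp.out hz.elt] at this

theorem Sec.ind_iff (hM : IsPModular p M) (hz : Sec p z) (hb : IsPBlock M b) (hB : IsPBlock M B) :
    IsInducedBlock M H b B ↔ Br (Subgroup.zpowers (z : G)) (eB M B) * aE M H b = aE M H b := by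
  have h1 := hz.isP
  have h2 := hz.CS_eq
  obtain ⟨z, hz'⟩ := z
  simp only at h1 h2 ⊢
  subst h2
  have := (isBrauerPairOf_iff hM (B := B) (b := b)).symm.trans (isBrauerPairOf_iff_ind hM)
  simpa [h1, hb, hB] using this.symm

theorem Sec.Phi_one (hM : IsPModular p M) (hz : Sec p z) (hθ : IsClassFunction G θ) {y : H} (hy : ¬ p ∣ orderOf y) :
    Phi p θ w 1 (z * y) = ∑ b ∈ blocks H M, w z (aE M H b) * sb p z b θ y := by
  have h1 := hz.pp_mul hy
  have h2 : CS (Zp p ((z : G) * y)) = H := by rw [Zp, h1, hz.CS_eq]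
  rw [Phi, h2, h1, Br_one]
  refine (Finset.sum_bij (fun b _ => aE M H b) (fun b hb => (mem_BIs hM).2 (isBI_aE hM (mem_blocks.1 hb)))
    (fun b hb b' hb' => aE_inj hM (mem_blocks.1 hb) (mem_blocks.1 hb')) (fun f hf => ?_) fun b hb => ?_).symm
  · obtain ⟨b, h3, h4⟩ := ((mem_BIs hM).1 hf).exists_block hM
    exact ⟨b, mem_blocks.2 h3, h4⟩
  · rw [one_mul, Lf.tau_eq hM hθ (g := z * y) ⟨aF_mem_IntA hM (mem_blocks.1 hb), aF_mul_self H b,
      mem_Fix.1 (mem_ZA.1 (aF_mem_ZA H b)).1 _ (z * y).2, by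
        rw [redA_aF, Br_of_Sup (by rw [h2]; exact (mem_ZA.1 (aE_mem_ZA H b)).2)]⟩, sb, reg_of_not_dvd _ hy]
    exact congrArg _ ((blockPart_shift b (fun x : H => θ x) hz.center y).trans (blockPart_res_eq_ev hθ b (z * y)))

theorem blockPart_blockPart_ne (hM : IsPModular p M) {B' : Set (IrrCharacter G)} (hB : IsPBlock M B) (hB' : IsPBlock M B')
    (h : B ≠ B') (θ : G → ℂ) : blockPart B (blockPart B' θ) = 0 := by
  classical
  have := Fintype.ofFinite G
  rw [blockPart_eq]
  exact Finset.sum_eq_zero fun χ hχ => by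
    rw [inner_blockPart, if_neg fun h' => h (block_eq_of_mem hM hB hB' (mem_fs.1 hχ) h'), zero_smul]

theorem Sec.sb_Phi (hM : IsPModular p M) (hz : Sec p z) (hθ : IsClassFunction G θ) (hb : IsPBlock M b) :
    sb p z b (Phi p θ w 1) = w z (aE M H b) • sb p z b θ := by
  have h1 : reg p (sh z (Phi p θ w 1)) = ∑ b ∈ blocks H M, w z (aE M H b) • sb p z b θ := by
    funext y
    by_cases hy : p ∣ orderOf y
    · simp [sb, reg_of_dvd _ hy]
    · simpa [reg_of_not_dvd _ hy] using hz.Phi_one hM hθ hy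
  rw [sb, ← blockPart_reg hM hb, h1, blockPart_sum, Finset.sum_eq_single_of_mem b (mem_blocks.2 hb) fun b' hb' h => ?_]
  · rw [blockPart_smul, sb, blockPart_reg hM hb, blockPart_idem]
  · rw [blockPart_smul, sb, blockPart_reg hM hb, blockPart_blockPart_ne hM hb (mem_blocks.1 hb') h.symm]
    funext y; simp [reg]

theorem class_ext_sb (hM : IsPModular p M) (hθ : IsClassFunction G θ) (hθ' : IsClassFunction G θ')
    (h : ∀ u, IsPElt p u → ∀ b, IsPBlock M b → sb p (cEl u) b θ = sb p (cEl u) b θ') : θ = θ' := by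
  funext g
  have h1 := sec_cEl (isPElt_pp hp.out g)
  have h2 := (h1.sum_sb hM hθ).symm.trans ((Finset.sum_congr rfl fun b hb =>
    h _ h1.elt b (mem_blocks.1 hb)).trans (h1.sum_sb hM hθ'))
  have h3 : ¬ p ∣ orderOf (⟨pq p g, mem_centralizer_singleton.2 (commute_pp_pq g)⟩ : C1 (pp p g)) := by
    rw [← Subgroup.orderOf_coe]; exact not_dvd_orderOf_pq hp.out g
  have := (reg_of_not_dvd _ h3).symm.trans ((congrFun h2 _).trans (reg_of_not_dvd _ h3))
  simpa only [sh, pp_mul_pq] using this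

theorem PReps.inner_sb [Fintype G] [∀ x : G, Fintype (C1 x)] (hM : IsPModular p M) {X : Finset G} (hX : PReps p X)
    (hθ : IsClassFunction G θ) (hθ' : IsClassFunction G θ') : classInner θ θ' =
      ∑ x ∈ X, ∑ b ∈ blocks (C1 x) M, classInner (sb p (cEl x) b θ) (sb p (cEl x) b θ') := by
  rw [hX.inner hθ hθ']
  refine Finset.sum_congr rfl fun x hx => ?_
  rw [← (sec_cEl (hX.elt x hx)).sum_sb hM hθ, H3.inner_sum_left]
  exact Finset.sum_congr rfl fun b hb => by
    rw [← H3.inner_conj_symm, ← H4.inner_sb hM (mem_blocks.1 hb) _ _ (sb_mem _ _ _), H3.inner_conj_symm]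

theorem exists_pReps_mem (hu : IsPElt p u) : ∃ X : Finset G, PReps p X ∧ u ∈ X := by
  classical
  obtain ⟨X, hX⟩ := exists_pReps G p
  obtain ⟨x, ⟨h1, h2⟩, h3⟩ := hX.ex u hu
  refine ⟨insert u (X.erase x), ⟨fun y hy => ?_, fun g hg => ?_⟩, Finset.mem_insert_self _ _⟩
  · exact (Finset.mem_insert.1 hy).elim (· ▸ hu) fun h => hX.elt y (Finset.mem_of_mem_erase h)
  · obtain ⟨y, ⟨h4, h5⟩, h6⟩ := hX.ex g hg
    by_cases h : y = x
    · subst h
      refine ⟨u, ⟨Finset.mem_insert_self _ _, h5.trans h2.symm⟩, fun t ht => (Finset.mem_insert.1 ht.1).elim id fun h => ?_⟩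
      exact ((Finset.mem_erase.1 h).1 (h6 t ⟨(Finset.mem_erase.1 h).2, ht.2⟩)).elim
    · refine ⟨y, ⟨Finset.mem_insert_of_mem (Finset.mem_erase.2 ⟨h, h4⟩), h5⟩, fun t ht => ?_⟩
      rcases Finset.mem_insert.1 ht.1 with rfl | h'
      · exact (h (h3 y ⟨h4, ht.2.symm.trans h5⟩)).elim
      · exact h6 t ⟨(Finset.mem_erase.1 h').2, ht.2⟩

variable (p P e) in
/-- the Brauer element `(u, f)` is conjugate to the one below `(P, e)` at `t` -/
def BRel (u : G) (f : (k M)[G]) (t : P) : Prop :=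
  ∃ y, (t : G) = y * u * y⁻¹ ∧ SLE p (Subgroup.zpowers (t : G)) (cj y f) P e

variable (p e) in
/-- stability under fusion -/
def St (η : P → ℂ) : Prop := ∀ u f t t', BRel p P e u f t → BRel p P e u f t' → η t = η t'

open Classical in
variable (p e) in
/-- the weight attached to a function on `P` -/
noncomputable def wt (η : P → ℂ) (u : G) (f : (k M)[G]) : ℂ := if h : ∃ t, BRel p P e u f t then η h.choose else 0

theorem BRel.cj {t : P} (h : BRel p P e u f t) (x : G) : BRel p P e (x * u * x⁻¹) (cj x f) t :=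
  let ⟨y, h1, h2⟩ := h
  ⟨y * x⁻¹, by rw [h1]; group, by rwa [← cj_mul, inv_mul_cancel_right]⟩

theorem brel_cj {t : P} (x : G) : BRel p P e (x * u * x⁻¹) (cj x f) t ↔ BRel p P e u f t :=
  ⟨fun h => by simpa [mul_assoc] using h.cj x⁻¹, fun h => h.cj x⟩

theorem SLE.brel {t : P} (h : SLE p (Subgroup.zpowers (t : G)) f P e) : BRel p P e t f t := ⟨1, by simp, by simpa⟩

theorem st_of (h : ∀ (t t' : P) f x, SLE p (Subgroup.zpowers (t : G)) f P e → (t' : G) = x * t * x⁻¹ →
    SLE p (MulAut.conj x • Subgroup.zpowers (t : G)) (cj x f) P e → η t' = η t) : St p e η := by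
  rintro u f t t' ⟨y, h1, h2⟩ ⟨y', h1', h2'⟩
  have h3 : (t : G) = y * y'⁻¹ * t' * (y * y'⁻¹)⁻¹ := by rw [h1, h1']; group
  exact h t' t _ _ h2' h3 (by rwa [← zpowers_conj, ← h3, ← cj_mul, inv_mul_cancel_right])

theorem St.wt_eq (h : St p e η) {t : P} (h' : BRel p P e u f t) : wt p e η u f = η t :=
  have h1 : ∃ t, BRel p P e u f t := ⟨t, h'⟩
  (dif_pos h1).trans (h _ _ _ _ h1.choose_spec h')

theorem wt_of_not (η : P → ℂ) (h : ¬ ∃ t, BRel p P e u f t) : wt p e η u f = 0 := dif_neg h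

theorem wt_mul (η η' : P → ℂ) : wt p e (η * η') u f = wt p e η u f * wt p e η' u f := by
  unfold wt; split_ifs <;> simp

theorem wt_conj (η : P → ℂ) : wt p e (fun t => conj (η t)) u f = conj (wt p e η u f) := by
  unfold wt; split_ifs <;> simp

theorem wt_sum {ι : Type*} (s : Finset ι) (c : ι → ℂ) (η : ι → P → ℂ) :
    wt p e (∑ i ∈ s, c i • η i) u f = ∑ i ∈ s, c i * wt p e (η i) u f := by
  unfold wt; split_ifs <;> simp

theorem wt_cj (η : P → ℂ) (x : G) : wt p e η (x * u * x⁻¹) (cj x f) = wt p e η u f := by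
  have : BRel p P e (x * u * x⁻¹) (cj x f) = BRel p P e u f := funext fun _ => propext (brel_cj x)
  unfold wt; rw [this]

theorem MaxP.brel_iff (hM : IsPModular p M) (hm : MaxP p j P e) (hu : IsPGroup p (Subgroup.zpowers u))
    (hf : IsBI (CS (Subgroup.zpowers u)) f) : (∃ t, BRel p P e u f t) ↔ Br (Subgroup.zpowers u) j * f = f := by
  refine ⟨fun ⟨t, y, h1, h2⟩ => ?_, fun h => ?_⟩
  · have := congrArg (cj y⁻¹) (hm.mul_of_sle hM h2)
    rwa [map_mul, cj_inv_cj, h1, zpowers_conj, cj_Br', ← mul_smul, ← map_mul, inv_mul_cancel, map_one, one_smul,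
      mem_Fix.1 (mem_ZA.1 hm.bz.mem).1 _ (Subgroup.mem_top _)] at this
  · obtain ⟨y, h1⟩ := hm.exists_conj hM hu hf h
    rw [← zpowers_conj] at h1
    exact ⟨⟨_, h1.le (Subgroup.mem_zpowers _)⟩, y, rfl, h1⟩

theorem St.wt (hM : IsPModular p M) (hm : MaxP p j P e) (h : St p e η) (hη : IsGeneralizedCharacter P η) :
    Wt p (wt p e η) := by
  have := charP_k hM
  refine ⟨fun x u f => wt_cj η x, fun Q hQ e' he' => ?_⟩
  by_cases h1 : Br Q j * e' = e'
  · obtain ⟨y, h2⟩ := hm.exists_conj hM hQ he' h1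
    refine ⟨_, H3.gen_comp hη (((MulAut.conj y).toMonoidHom.comp Q.subtype).codRestrict P fun u =>
      h2.le (Subgroup.smul_mem_pointwise_smul _ _ _ u.2)), fun u f hf => h.wt_eq ⟨y, rfl, ?_⟩⟩
    exact (zpowers_conj y u).symm ▸ (hf.cj y).trans h2
  · exact ⟨0, H3.gen_zero, fun u f hf => wt_of_not _ fun h2 =>
      h1 ((hf.mul_iff_Z hm.bz.mem_Z hm.bz.idem).2 ((hm.brel_iff hM hf.isP hf.bf).1 h2))⟩

variable (p e) in
/-- the Broué–Puig product -/
noncomputable def star (θ : G → ℂ) (η : P → ℂ) : G → ℂ := Phi p θ (wt p e η) 1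

theorem class_star (hM : IsPModular p M) (hθ : IsClassFunction G θ) (η : P → ℂ) : IsClassFunction G (star p e θ η) :=
  fun g x => by
    rw [star, Phi, Zp_conj, CS_conj, sum_BIs_cj hM]
    exact Finset.sum_congr rfl fun f hf => by
      rw [pp_conj, wt_cj, Br_one, Br_one, one_mul, one_mul, tau_cj hM hθ (by
        simpa [Br_one] using GI.Br_mul hM (mul_one 1) (map_one _) ((mem_BIs hM).1 hf))]

theorem gen_star (hM : IsPModular p M) (hm : MaxP p j P e) (h : St p e η) (hη : IsGeneralizedCharacter P η)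
    (hθ : IsCharacter G θ) : IsGeneralizedCharacter G (star p e θ η) :=
  H3.brauer_char (class_star hM (H3.char_class hθ) η) fun E _ hq hE =>
    have := H3.elem_nilpotent hq hE
    Phi_gen hM hθ (h.wt hM hm hη) E nl_of_nilpotent 1 (one_mem _) (mul_one 1)

theorem Sec.sb_star (hM : IsPModular p M) (hz : Sec p z) (hθ : IsClassFunction G θ) (hb : IsPBlock M b) (η : P → ℂ) :
    sb p z b (star p e θ η) = wt p e η z (aE M H b) • sb p z b θ := hz.sb_Phi hM hθ hb

theorem Sec.brel_iff (hM : IsPModular p M) (hz : Sec p z) (hb : IsPBlock M b) (hB : IsPBlock M B)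
    (hm : MaxP p (eB M B) P e) : (∃ t, BRel p P e z (aE M H b) t) ↔ IsInducedBlock M H b B :=
  (hm.brel_iff hM hz.isP (hz.CS_eq.symm ▸ isBI_aE hM hb)).trans (hz.ind_iff hM hb hB).symm

theorem star_star (hM : IsPModular p M) (hθ : IsClassFunction G θ) (η η' : P → ℂ) :
    star p e (star p e θ η) η' = star p e θ (η' * η) :=
  class_ext_sb hM (class_star hM (class_star hM hθ η) η') (class_star hM hθ _) fun u hu b hb => by
    simp only [(sec_cEl hu).sb_star hM, class_star hM, hθ, hb, wt_mul, mul_smul]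

theorem star_sum (θ : G → ℂ) {ι : Type*} (s : Finset ι) (c : ι → ℂ) (η : ι → P → ℂ) :
    star p e θ (∑ i ∈ s, c i • η i) = ∑ i ∈ s, c i • star p e θ (η i) := by
  funext g
  simp only [star, Phi, wt_sum, Finset.sum_apply, Pi.smul_apply, smul_eq_mul, Finset.sum_mul, Finset.mul_sum, mul_assoc]
  exact Finset.sum_comm

theorem star_const (hM : IsPModular p M) (hB : IsPBlock M B) (hm : MaxP p (eB M B) P e) (hχ : χ ∈ B) :
    star p e χ.1 (1 : P → ℂ) = χ.1 :=
  class_ext_sb hM (class_star hM (H3.irr_class χ.2) _) (H3.irr_class χ.2) fun u hu b hb => by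
    rw [(sec_cEl hu).sb_star hM (H3.irr_class χ.2) hb]
    by_cases h : IsInducedBlock M _ b B
    · rw [wt, dif_pos (((sec_cEl hu).brel_iff hM hb hB hm).2 h), Pi.one_apply, one_smul]
    · rw [(sec_cEl hu).sb_eq_zero' hM hb hB h hχ, smul_zero]

theorem inner_star_star [Fintype G] (hM : IsPModular p M) (hθ : IsClassFunction G θ) (hθ' : IsClassFunction G θ')
    (η η' : P → ℂ) : classInner (star p e θ η) (star p e θ' η') =
      classInner (star p e θ (η * fun t => conj (η' t))) θ' := by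
  have := fun x : G => Fintype.ofFinite (C1 x)
  obtain ⟨X, hX⟩ := exists_pReps G p
  rw [hX.inner_sb hM (class_star hM hθ _) (class_star hM hθ' _), hX.inner_sb hM (class_star hM hθ _) hθ']
  refine Finset.sum_congr rfl fun x hx => Finset.sum_congr rfl fun b hb => ?_
  simp only [(sec_cEl (hX.elt x hx)).sb_star hM, hθ, hθ', mem_blocks.1 hb, wt_mul, wt_conj, H3.inner_smul_left,
    H3.inner_smul_right]
  ring

theorem blockPart_star (hM : IsPModular p M) (hB : IsPBlock M B) (hm : MaxP p (eB M B) P e) (hθ : IsClassFunction G θ)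
    (η : P → ℂ) : blockPart B (star p e θ η) = star p e θ η := by
  have := Fintype.ofFinite G
  have := fun x : G => Fintype.ofFinite (C1 x)
  obtain ⟨X, hX⟩ := exists_pReps G p
  refine blockPart_eq_self (class_star hM hθ _) fun ψ hψ => ?_
  rw [hX.inner_sb hM (class_star hM hθ _) (H3.irr_class ψ.2)]
  refine Finset.sum_eq_zero fun x hx => Finset.sum_eq_zero fun b hb => ?_
  have h1 := sec_cEl (hX.elt x hx)
  by_cases h : IsInducedBlock M _ b B
  · rw [h1.sb_eq_zero hM h hψ, H3.inner_zero_right]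
  · rw [h1.sb_star hM hθ (mem_blocks.1 hb), wt_of_not _ (mt (h1.brel_iff hM (mem_blocks.1 hb) hB hm).1 h), zero_smul,
      H3.inner_zero_left]

theorem star_of_reg (hM : IsPModular p M) (hB : IsPBlock M B) (hm : MaxP p (eB M B) P e) (hχ : χ ∈ B) (η : P → ℂ)
    (hg : ¬ p ∣ orderOf g) : star p e χ.1 η g = η 1 * χ.1 g := by
  conv_rhs => rw [← star_const hM hB hm hχ]
  simp only [star, Phi, Finset.mul_sum, pp_of_not_dvd hp.out hg, ← mul_assoc]
  refine Finset.sum_congr rfl fun f _ => congrArg (· * _) ?_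
  unfold wt; split_ifs with h
  · obtain ⟨y, h1, -⟩ := h.choose_spec
    rw [show h.choose = 1 from Subtype.ext (by simpa using h1), Pi.one_apply, mul_one]
  · rw [mul_zero]

theorem exists_irr_of_norm [Fintype G] {ξ : G → ℂ} (h : IsGeneralizedCharacter G ξ) (h1 : classInner ξ ξ = 1)
    (h2 : blockPart B ξ = ξ) {n : ℕ} (h3 : ξ 1 = n) : ∃ ψ ∈ B, ψ.1 = ξ ∧ charDegree ψ.1 = n :=
  have h4 : IsIrrCharacter G ξ := H3.isIrr_of_gen_norm_one h h1 (by rw [h3]; simp)
  ⟨⟨ξ, h4⟩, by_contra fun h5 => one_ne_zero (h1.symm.trans (inner_eq_zero_of_blockPart (χ := ⟨ξ, h4⟩) h2 h5)), rfl,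
    charDegree_of_eq h3⟩

theorem irr_star (hM : IsPModular p M) (hB : IsPBlock M B) (hm : MaxP p (eB M B) P e) (hχ : χ ∈ B) (h : St p e η)
    (hη : IsCharacter P η) [Fintype G] (h1 : classInner (star p e χ.1 η) (star p e χ.1 η) = 1) :
    ∃ ψ ∈ B, ψ.1 = star p e χ.1 η ∧ charDegree ψ.1 = charDegree η * charDegree χ.1 :=
  exists_irr_of_norm (gen_star hM hm h (H3.char_gen hη) (H3.irr_char χ.2)) h1
    (blockPart_star hM hB hm (H3.irr_class χ.2) η) (by
      rw [star_of_reg hM hB hm hχ η (by simpa using hp.out.ne_one), char_one_eq hη, char_one_eq (H3.irr_char χ.2),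
        Nat.cast_mul])

end H4
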