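import Cfsg.Agent.H4.Star2
import Cfsg.Agent.H2.Fus8

/-!
# Consequences of the `*`-construction
`relIndex_focal_dvd`, `ANil.inner_star`, `ANil.bij` (characters of nilpotent blocks).
-/

set_option autoImplicit false
set_option linter.unusedSectionVars false

namespace H4
open MonoidAlgebra Cfsg H1
open scoped Pointwise ComplexConjugate

variable {G : Type*} [Group G] [Finite G] {M : Ideal AlgInt} {p : ℕ} [hp : Fact p.Prime]
variable {H Q P : Subgroup G} {j e f : (k M)[G]} {θ θ' : G → ℂ} {g u : G} {z : H}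
  {b : Set (IrrCharacter H)} {B : Set (IrrCharacter G)} {χ ψ : IrrCharacter G} {η η' : P → ℂ}

theorem index_dvd_card_of_stab {A X : Type*} [Group A] [MulAction A X] [Finite X] (K : Subgroup A)
    (h : ∀ x : X, MulAction.stabilizer A x ≤ K) : K.index ∣ Nat.card X := by
  have := Fintype.ofFinite (MulAction.orbitRel.Quotient A X)
  have := fun x : X => Finite.of_equiv _ (MulAction.orbitEquivQuotientStabilizer A x)
  rw [Nat.card_congr (MulAction.selfEquivSigmaOrbitsQuotientStabilizer A X), Nat.card_sigma]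
  exact Finset.dvd_sum fun _ _ => Subgroup.index_dvd_of_le (h _)

theorem zpowers_pow_eq (hu : IsPElt p u) {i : ℕ} (hi : ¬ p ∣ i) : Subgroup.zpowers (u ^ i) = Subgroup.zpowers u := by
  refine le_antisymm (Subgroup.zpowers_le.2 (Subgroup.npow_mem_zpowers u i)) (Subgroup.zpowers_le.2 ?_)
  obtain ⟨n, hn⟩ := (isPElt_iff hp.out).1 hu
  exact mem_zpowers_pow_iff.2 (Nat.Coprime.coprime_dvd_right (orderOf_dvd_of_pow_eq_one hn)
    ((hp.out.coprime_iff_not_dvd.2 hi).symm.pow_right n))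

theorem MaxP.exists_loc (hM : IsPModular p M) (hB : IsPBlock M B) (hm : MaxP p (eB M B) P e) (t : P) :
    ∃ b, IsInducedBlock M (C1 (t : G)) b B ∧ SLE p (Subgroup.zpowers (t : G)) (aE M (C1 (t : G)) b) P e := by
  obtain ⟨f, hf⟩ := exists_sle hM hm.dg.isP hm.be (Subgroup.zpowers_le.2 t.2)
  obtain ⟨b, h1, rfl⟩ := (CS_zpowers (t : G) ▸ hf.bf).exists_block hM
  exact ⟨b, ((sec_cEl (isPElt_of_mem hp.out hm.dg.isP t.2)).ind_iff hM h1 hB).2 (hm.mul_of_sle hM hf), hf⟩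

theorem St.eq_one (hM : IsPModular p M) (h : St p e η) (hθ : IsClassFunction G θ) (h1 : star p e θ η = θ) {t : P}
    (hP : IsPGroup p P) {b : Set (IrrCharacter (C1 (t : G)))} (hb : IsPBlock M b)
    (h2 : SLE p (Subgroup.zpowers (t : G)) (aE M _ b) P e) (h3 : sb p (cEl (t : G)) b θ ≠ 0) : η t = 1 := by
  have := (sec_cEl (isPElt_of_mem hp.out hP t.2)).sb_star hM hθ hb (e := e) η
  rw [h1, h.wt_eq h2.brel] at this
  exact (smul_left_injective ℂ h3 ((one_smul _ _).trans this)).symm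

theorem relIndex_focal_dvd (hM : IsPModular p M) (hB : IsPBlock M B) (hm : MaxP p (eB M B) P e) {F : FusionSystem P}
    (hF : IsBF p P e F) {Z : Subgroup G} (hZ : Z ≤ P) (n : ℕ) (h : ∀ χ ∈ B, blockHeight p B χ.1 = n → ∀ t ∈ Z, ∀ b,
      IsInducedBlock M (C1 t) b B → SLE p (Subgroup.zpowers t) (aE M (C1 t) b) P e → sb p (cEl t) b χ.1 ≠ 0) :
    F.focalSubgroup.relIndex Z ∣ Nat.card {χ : IrrCharacter G // χ ∈ B ∧ blockHeight p B χ.1 = n} := by
  have := Fintype.ofFinite G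
  obtain ⟨N, hN⟩ : ∃ N, N = F.focalSubgroup.subgroupOf P := ⟨_, rfl⟩
  have n1 : commutator P ≤ N := hN ▸ Subgroup.map_le_iff_le_comap.1
    (P.map_subtype_commutator ▸ H2.commutator_le_focal F)
  have := Subgroup.Normal.of_commutator_le _ n1
  have := Subgroup.Normal.quotient_commutative_iff_commutator_le.2 n1
  open scoped IsMulCommutative in
  have n2 : ∀ l : P ⧸ N →* ℂˣ, St p e fun t : P => (l t : ℂ) := fun l => st_of fun t t' f x h1 h2 h3 => by
    have := (hF.mor_cg h1 h3).mem_focal (Subgroup.mem_zpowers _)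
    rw [show (t : P ⧸ N) = t' from QuotientGroup.eq.2 (hN ▸ by rwa [H2.cg_apply, ← h2] at this)]
  have n3 : ∀ (l : P ⧸ N →* ℂˣ) (χ : {χ : IrrCharacter G // χ ∈ B ∧ blockHeight p B χ.1 = n}),
      ∃ ψ : {χ : IrrCharacter G // χ ∈ B ∧ blockHeight p B χ.1 = n}, ψ.1.1 = star p e χ.1.1 fun t : P => (l t : ℂ) := by
    rintro l ⟨χ, h1, h2⟩
    obtain ⟨ψ, h3, h4, h5⟩ := irr_star hM hB hm h1 (n2 l) (H3.char_hom (l.comp (QuotientGroup.mk' N))) (by
      rw [inner_star_star hM (H3.irr_class χ.2) (H3.irr_class χ.2), ← H3.irr_inner_self χ.2]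
      convert congrArg (classInner · χ.1) (star_const hM hB hm h1)
      funext t
      simp [Complex.mul_conj, Complex.normSq_eq_norm_sq, H3.norm_hom])
    rw [charDegree_of_eq (χ := fun t : P => (l t : ℂ)) (n := 1) (by simp), one_mul] at h5
    exact ⟨⟨ψ, h3, by rw [← h2, blockHeight, blockHeight, h5]⟩, h4⟩
  choose a ha using n3
  letI : MulAction (P ⧸ N →* ℂˣ) {χ : IrrCharacter G // χ ∈ B ∧ blockHeight p B χ.1 = n} :=
    { smul := a
      one_smul := fun χ => Subtype.ext (Subtype.ext ((ha 1 χ).trans (star_const hM hB hm χ.2.1)))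
      mul_smul := fun l l' χ => Subtype.ext (Subtype.ext ((ha _ χ).trans (((ha l (a l' χ)).trans (by
        rw [ha, star_star hM (H3.irr_class χ.1.2)]; rfl)).symm))) }
  refine (dvd_of_eq (Eq.symm ?_)).trans (index_dvd_card_of_stab
    (MonoidHom.domRestrictHom ((Z.subgroupOf P).map (QuotientGroup.mk' N)) ℂˣ).ker fun χ l hl => ?_)
  · rw [Subgroup.index_ker, MonoidHom.range_eq_top.2 (MonoidHom.domRestrict_surjective ℂ _), Subgroup.card_top,
      CommGroup.card_monoidHom_of_hasEnoughRootsOfUnity, ← Subgroup.relIndex_ker, QuotientGroup.ker_mk', hN,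
      Subgroup.relIndex_subgroupOf hZ]
  · ext ⟨_, t, ht, rfl⟩
    obtain ⟨b, h1, h2⟩ := hm.exists_loc hM hB t
    exact (n2 l).eq_one hM (H3.irr_class χ.1.2) ((ha l χ).symm.trans (congrArg (·.1.1) hl)) hm.dg.isP h1.1 h2
      (h _ χ.2.1 χ.2.2 _ ht b h1 h2)

theorem MaxP.defect_eq (hM : IsPModular p M) (hm : MaxP p (eB M B) P e) (hind : IsInducedBlock M H b B)
    (h : SLE p Q (aE M H b) P e) (h1 : CS Q = H) (h2 : P ≤ H) : blockDefect p b = blockDefect p B := by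
  have h3 := h.Br_CS_ne_zero hM
  rw [h1, inf_eq_left.2 h2] at h3
  obtain ⟨D, h4, h5⟩ := (isBI_aE hM hind.1).exists_ADG_ge hM h2 hm.dg.isP h3
  have h6 := (dg_iff_ADG_top hM hind.2.1).2 hm.dg
  obtain ⟨E, h7, h8⟩ := ind_dg_le hM hind ((dg_iff_ADG hM hind.1 h4.le).2 h4)
  rw [Subgroup.map_subgroupOf_eq_of_le h4.le] at h8
  obtain rfl := Subgroup.eq_of_le_of_card_ge h5 ((Subgroup.card_le_of_le h8).trans (dg_card_eq hM hind.2.1 h7 h6).le)
  exact defect_eq_of_dg hM hind h6 ((dg_iff_ADG hM hind.1 h2).2 h4) h2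

theorem ANil.fus (hM : IsPModular p M) (hN : ANil p ⊤ j) (hm : MaxP p j P e) (h : SLE p Q f P e) {x : G}
    (h' : SLE p (MulAut.conj x • Q) (cj x f) P e) : ∃ y ∈ P, ∀ u ∈ Q, x * u * x⁻¹ = y * u * y⁻¹ := by
  obtain ⟨F, hF⟩ := exists_isBF hM hm.dg.isP hm.be
  exact (H2.mor_inner_iff.1 ((hF.aNil_iff hM hm).1 hN _ _ (hF.mor_cg h h'))).2

theorem ANil.st (hM : IsPModular p M) (hN : ANil p ⊤ j) (hm : MaxP p j P e) (hη : IsClassFunction P η) : St p e η :=
  st_of fun t t' f x h1 h2 h3 => by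
    obtain ⟨y, h4, h5⟩ := hN.fus hM hm h1 h3
    rw [← hη t ⟨y, h4⟩]; congr 1
    exact Subtype.ext (h2.trans (h5 _ (Subgroup.mem_zpowers _)))

theorem card_C1_sub (t : P) : Nat.card (C1 t) = Nat.card (P ⊓ C1 (t : G) : Subgroup G) := by
  rw [inf_comm, ← Subgroup.subgroupOf_map_subtype, Subgroup.card_map_of_injective P.subtype_injective]
  congr 3; ext x
  simp [mem_centralizer_singleton, Subgroup.mem_subgroupOf, Commute, SemiconjBy, Subtype.ext_iff]

theorem ANil.inner_KB [Fintype G] [Fintype H] (hM : IsPModular p M) (hN : ANil p ⊤ j) (hm : MaxP p j P e) (hz : Sec p z)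
    (hb : IsPBlock M b) (h : SLE p (Subgroup.zpowers (z : G)) (aE M H b) P e) {t : P} (ht : (t : G) = z)
    (hθ : IsClassFunction G θ) (hθ' : IsClassFunction G θ') :
    classInner (star p e θ fun g => KB Set.univ g t) θ' = cF p z b θ θ' := by
  have h1 : St p e fun g => KB Set.univ g t := hN.st hM hm fun g x => Finset.sum_congr rfl fun χ _ => by rw [H3.irr_class χ.2]
  have h2 : ∀ x f, wt p e (fun g => KB Set.univ g t) x f ≠ 0 → ∃ y, z = y * x * y⁻¹ ∧ cj y f = aE M H b := by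
    intro x f h2
    obtain ⟨t', h3⟩ := not_not.1 (mt (wt_of_not _) h2)
    rw [h1.wt_eq h3, KB_univ] at h2
    obtain ⟨s, rfl⟩ := isConj_iff.1 (by_contra fun h => h2 (if_neg h) : IsConj t' t)
    obtain ⟨y, h3, h4⟩ := h3
    have h5 := h4.cj_of_mem s.2
    rw [← zpowers_conj, ← cj_mul, show (s : G) * t' * (s : G)⁻¹ = z from ht] at h5
    exact ⟨s * y, by rw [← ht]; simp [h3, mul_assoc], h5.unique hM h⟩
  have h3 : Nat.card (C1 t) = p ^ blockDefect p b := by
    have h3 := hN.ADG_CS hM hm h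
    rw [hz.CS_eq] at h3
    rw [← dg_card hM hb ((dg_iff_ADG hM hb h3.le).2 h3), Nat.card_congr (Subgroup.subgroupOfEquivOfLe h3.le).toEquiv,
      card_C1_sub, ht, hz.eq]
  have h4 := h1.wt_eq (SLE.brel (t := t) (ht ▸ h))
  rw [KB_univ, if_pos (IsConj.refl _), h3, ht] at h4
  obtain ⟨X, hX, h5⟩ := exists_pReps_mem hz.elt
  obtain ⟨z, hz'⟩ := z
  obtain ⟨h6, rfl : C1 z = H⟩ := hz
  have := fun x : G => Fintype.ofFinite (C1 x)
  rw [hX.inner_sb hM (class_star hM hθ _) hθ', Finset.sum_eq_single_of_mem z h5 fun x hx hne => ?_,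
    Finset.sum_eq_single_of_mem b (mem_blocks.2 hb) fun b' hb' hne => ?_, (sec_cEl h6).sb_star hM hθ hb, h4,
    H3.inner_smul_left, cF]
  · congr!
  · rw [(sec_cEl h6).sb_star hM hθ (mem_blocks.1 hb'), H3.inner_smul_left]
    refine mul_eq_zero_of_left (by_contra fun h7 => hne ?_) _
    obtain ⟨y, h8, h9⟩ := h2 _ _ h7
    rw [mem_Fix.1 (mem_ZA.1 (aE_mem_ZA _ b')).1 y (mem_centralizer_singleton.2 (mul_inv_eq_iff_eq_mul.1 h8.symm).symm)] at h9
    exact aE_inj hM (mem_blocks.1 hb') hb h9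
  · refine Finset.sum_eq_zero fun b' hb' => ?_
    rw [(sec_cEl (hX.elt x hx)).sb_star hM hθ (mem_blocks.1 hb'), H3.inner_smul_left]
    refine mul_eq_zero_of_left (by_contra fun h7 => hne ?_) _
    obtain ⟨y, h8, -⟩ := h2 _ _ h7
    exact (hX.ex x (hX.elt x hx)).unique ⟨hx, IsConj.refl _⟩ ⟨h5, isConj_iff.2 ⟨y, h8.symm⟩⟩

theorem card_mul_inner_star [Fintype G] [Fintype P] (hη : IsClassFunction P η) (θ θ' : G → ℂ) :
    Nat.card P * classInner (star p e θ η) θ' = ∑ t, η t * classInner (star p e θ fun g => KB Set.univ g t) θ' := by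
  have h1 : η = ∑ t, ((Nat.card P : ℂ)⁻¹ * η t) • fun g => KB Set.univ g t := by
    funext g
    rw [← congrFun (blockPart_eq_self hη fun χ h => (h (Set.mem_univ χ)).elim) g, blockPart_eq_KB]
    simp [Finset.mul_sum, mul_assoc]
  conv_lhs => rw [h1]
  simp [star_sum, H3.inner_sum_left, H3.inner_smul_left, Finset.mul_sum, ← mul_assoc, -Nat.card_eq_fintype_card,
    H3.card_ne_zero']

theorem eq_one_of_prod {ι : Type*} [Fintype ι] {c : ι → ℝ} (h0 : ∀ i, 0 < c i) (h1 : 1 ≤ ∏ i, c i)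
    (h2 : ∑ i, c i = Fintype.card ι) (i : ι) : c i = 1 := by
  by_contra h
  have h3 := Finset.sum_lt_sum (s := Finset.univ) (fun i _ => Real.log_le_sub_one_of_pos (h0 i))
    ⟨i, Finset.mem_univ _, Real.log_lt_sub_one_of_pos (h0 i) h⟩
  rw [← Real.log_prod fun i _ => (h0 i).ne', Finset.sum_sub_distrib, h2] at h3
  simpa using (Real.log_nonneg h1).trans_lt h3

theorem ANil.inner_KB_eq [Fintype G] (hM : IsPModular p M) (hB : IsPBlock M B) (hN : ANil p ⊤ (eB M B))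
    (hm : MaxP p (eB M B) P e) (hχ : χ ∈ B) (h0 : blockHeight p B χ.1 = 0) (t : P) :
    classInner (star p e χ.1 fun g => KB Set.univ g t) χ.1 = 1 := by
  have := fun x : G => Fintype.ofFinite (C1 x)
  have := Fintype.ofFinite P
  have hc := H3.irr_class χ.2
  obtain ⟨n, hn⟩ := hm.dg.isP.exists_card_eq
  obtain ⟨c, hc'⟩ : ∃ c : P → ℂ, c = fun t => classInner (star p e χ.1 fun g => KB Set.univ g t) χ.1 := ⟨_, rfl⟩
  have h1 : ∀ t, (‖c t‖ : ℂ) = c t ∧ 0 < ‖c t‖ ∧ 1 ≤ ∏ i ∈ Kp p (p ^ (n + 1)), ‖c (t ^ i)‖ := fun t => by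
    obtain ⟨b, h1, h2⟩ := hm.exists_loc hM hB t
    have h3 := sec_cEl (isPElt_of_mem hp.out hm.dg.isP t.2)
    have h4 : ∀ i, ¬ p ∣ i → c (t ^ i) = cF p (cEl (t : G) ^ i) b χ.1 χ.1 := fun i hi => by
      rw [hc']
      exact hN.inner_KB hM hm (h3.pow hi) h1.1 ((zpowers_pow_eq h3.elt hi).symm ▸ h2) rfl hc hc
    have h5 := h4 1 (hp.out.one_lt.ne' ∘ Nat.dvd_one.1)
    rw [pow_one, pow_one] at h5
    have h6 : c t ≠ 0 := h5 ▸ mul_ne_zero (q_ne_zero _) fun h => h3.Lz_sb hM h1 hχ h0 (H3.inner_self_eq_zero h)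
    have h7 := cF_mem_SF hM h3.center (pow_pos hp.out.pos (n + 1)).ne' (Subtype.ext (by
      have : t ^ p ^ (n + 1) = 1 := by rw [pow_succ, pow_mul, ← hn, pow_card_eq_one', one_pow]
      simpa using congrArg Subtype.val this)) b (H3.irr_gen χ.2) (H3.irr_gen χ.2)
    obtain ⟨m, h8⟩ := SF.prod_int h7
    refine ⟨h5 ▸ norm_cF_self _ _ _, norm_pos_iff.2 h6, ?_⟩
    rw [← norm_prod, Finset.prod_congr rfl fun i hi => h4 i (mem_Kp.1 hi).2, h8, Complex.norm_intCast]
    exact_mod_cast Int.one_le_abs fun h => Finset.prod_ne_zero_iff.2 (fun i hi =>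
      SF.ne_zero h7 (by rwa [pow_one, ← h5]) (mem_Kp.1 hi).2) (h8.trans (by simp [h]))
  have h2 := Finset.one_le_prod (s := Finset.univ) fun t _ => (h1 t).2.2
  rw [Finset.prod_comm, Finset.prod_congr rfl fun i hi => Equiv.prod_comp (powCoprime (by
    rw [hn]; exact (hp.out.coprime_iff_not_dvd.2 (mem_Kp.1 hi).2).pow_left n)) fun t => ‖c t‖, Finset.prod_const,
    one_le_pow_iff_of_nonneg (by positivity) (Finset.card_ne_zero.2 ⟨1, one_mem_Kp⟩)] at h2
  have h3 := card_mul_inner_star (p := p) (e := e) (η := (1 : P → ℂ)) (fun _ _ => rfl) χ.1 χ.1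
  rw [star_const hM hB hm hχ, H3.irr_inner_self χ.2] at h3
  have h4 := eq_one_of_prod (fun t => (h1 t).2.1) h2 (by
    apply Complex.ofReal_injective
    simp only [Complex.ofReal_sum, fun t => (h1 t).1]
    simpa [hc'] using h3.symm) t
  have := (h1 t).1.symm
  rwa [h4, hc'] at this

theorem ANil.inner_star [Fintype G] [Fintype P] (hM : IsPModular p M) (hB : IsPBlock M B) (hN : ANil p ⊤ (eB M B))
    (hm : MaxP p (eB M B) P e) (hχ : χ ∈ B) (h0 : blockHeight p B χ.1 = 0) (hη : IsClassFunction P η)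
    (hη' : IsClassFunction P η') : classInner (star p e χ.1 η) (star p e χ.1 η') = classInner η η' := by
  rw [inner_star_star hM (H3.irr_class χ.2) (H3.irr_class χ.2), eq_comm, classInner, eq_comm,
    eq_inv_mul_iff_mul_eq₀ (H3.card_ne_zero' _), card_mul_inner_star fun g x => by simp [hη g x, hη' g x]]
  simp [hN.inner_KB_eq hM hB hm hχ h0]

theorem ANil.bij (hM : IsPModular p M) (hB : IsPBlock M B) (hN : ANil p ⊤ (eB M B))
    (hm : MaxP p (eB M B) P e) (hχ : χ ∈ B) (h0 : blockHeight p B χ.1 = 0) : ∃ Φ : IrrCharacter P ≃ B, ∀ η,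
      (Φ η).1.1 = star p e χ.1 η.1 ∧ charDegree (Φ η).1.1 = charDegree η.1 * charDegree χ.1 := by
  have := Fintype.ofFinite G
  have := Fintype.ofFinite P
  have h1 := fun η η' : IrrCharacter P => hN.inner_star hM hB hm hχ h0 (H3.irr_class η.2) (H3.irr_class η'.2)
  choose Φ h2 h3 h4 using fun η : IrrCharacter P => irr_star hM hB hm hχ (hN.st hM hm (H3.irr_class η.2))
    (H3.irr_char η.2) ((h1 η η).trans (H3.irr_inner_self η.2))
  refine ⟨Equiv.ofBijective (fun η => ⟨Φ η, h2 η⟩) ⟨fun η η' h => by_contra fun h5 => ?_, fun ψ => by_contra fun h5 => ?_⟩,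
    fun η => ⟨h3 η, h4 η⟩⟩
  · have := h1 η η'
    rw [← h3, ← h3, show Φ η = Φ η' from congrArg Subtype.val h, H3.irr_inner_self (Φ η').2,
      H3.irr_inner_ne η.2 η'.2 (mt Subtype.ext h5)] at this
    exact one_ne_zero this
  · obtain ⟨a, ha⟩ := exists_amat hM hB
    have h6 : star p e χ.1 (H3.regChar P) = (Nat.card P : ℂ) • reg p χ.1 := by
      funext g
      by_cases hg : p ∣ orderOf g
      · rw [Pi.smul_apply, reg_of_dvd _ hg, smul_zero]
        refine Finset.sum_eq_zero fun f _ => mul_eq_zero_of_left ?_ _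
        unfold wt; split_ifs with h; swap; rfl
        obtain ⟨y, h6, -⟩ := h.choose_spec
        refine H3.regChar_ne fun h7 => (pp_eq_one_iff hp.out).1 ?_ hg
        simpa [h7] using h6.symm
      · rw [star_of_reg hM hB hm hχ _ hg, H3.regChar_one, Pi.smul_apply, reg_of_not_dvd _ hg, smul_eq_mul]
    have h7 := congrArg (classInner · ψ.1.1) h6
    simp only [H3.regChar_eq_sum, star_sum, H3.inner_sum_left, H3.inner_smul_left] at h7
    rw [Finset.sum_eq_zero fun η _ => by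
      rw [← h3, H3.irr_inner_ne (Φ η).2 ψ.1.2 fun h => h5 ⟨η, Subtype.ext (Subtype.ext h)⟩, mul_zero], eq_comm,
      mul_eq_zero_iff_left (H3.card_ne_zero' _)] at h7
    have h8 := ha.pow_le hχ h0 ψ.2
    have h9 := ha.eq χ ψ ψ.2
    rw [h7, mul_zero, eq_comm, Int.cast_eq_zero] at h9
    rw [h9, mul_zero] at h8
    exact h8.not_gt (by have := hp.out.pos; positivity)

theorem exists_maxP (hM : IsPModular p M) (hB : IsPBlock M B) (hP : IsDefectGroup p M B P) :
    ∃ e, MaxP p (eB M B) P e := by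
  have h1 := (dg_iff_ADG_top hM hB).1 hP
  have h2 := isBI_eB hM hB
  obtain ⟨e, h3, h4⟩ := exists_pair hM h1.isP (Z_le_Fix _ h2.mem_Z) (Z_le_Fix _ h2.mem_Z) h2.idem h1.ne
  exact ⟨e, h2, h1, h3, h4⟩

theorem rank_eq_one_of_reg (hχ : χ ∈ B) (h : ∀ ψ ∈ B, ∃ c : ℂ, reg p ψ.1 = c • reg p χ.1) : blockRank p B = 1 := by
  refine le_antisymm ?_ (rank_pos ⟨χ, hχ⟩)
  rw [blockRank_eq]
  refine (Submodule.finrank_mono (Submodule.span_le.2 ?_)).trans (finrank_span_le_card {reg p χ.1} |>.trans (by simp))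
  rintro _ ⟨ψ, h1, rfl⟩
  obtain ⟨c, h2⟩ := h ψ h1
  exact Submodule.mem_span_singleton.2 ⟨c, h2.symm⟩

/-- characters of a nilpotent block -/
theorem ANil.chars (hM : IsPModular p M) (hB : IsPBlock M B) (hN : ANil p ⊤ (eB M B)) (hP : IsDefectGroup p M B P)
    (hχ : χ ∈ B) (h0 : blockHeight p B χ.1 = 0) : ∃ Φ : IrrCharacter P ≃ B, ∀ η,
      reg p (Φ η).1.1 = (charDegree η.1 : ℂ) • reg p χ.1 ∧ charDegree (Φ η).1.1 = charDegree η.1 * charDegree χ.1 ∧
        blockHeight p B (Φ η).1.1 = (charDegree η.1).factorization p := by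
  obtain ⟨e, hm⟩ := exists_maxP hM hB hP
  obtain ⟨Φ, h⟩ := hN.bij hM hB hm hχ h0
  refine ⟨Φ, fun η => ⟨funext fun g => ?_, (h η).2, ?_⟩⟩
  · by_cases hg : p ∣ orderOf g
    · simp [reg_of_dvd _ hg]
    · rw [Pi.smul_apply, reg_of_not_dvd _ hg, reg_of_not_dvd _ hg, (h η).1, star_of_reg hM hB hm hχ _ hg, irr_one_eq,
        smul_eq_mul]
  · rw [blockHeight_eq, ← (height_eq_zero_iff hχ).1 h0, nu, (h η).2,
      Nat.factorization_mul (charDegree_ne_zero η.2) (charDegree_ne_zero χ.2), Finsupp.add_apply, Nat.add_sub_cancel]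

theorem ANil.rank (hM : IsPModular p M) (hB : IsPBlock M B) (hN : ANil p ⊤ (eB M B)) : blockRank p B = 1 := by
  obtain ⟨P, hP⟩ := exists_dg hM hB
  obtain ⟨χ, h1, h2⟩ := exists_height_zero hM hB
  obtain ⟨Φ, h⟩ := hN.chars hM hB hP h1 h2
  exact rank_eq_one_of_reg h1 fun ψ hψ => ⟨_, by simpa using (h (Φ.symm ⟨ψ, hψ⟩)).1⟩

theorem ANil.card (hM : IsPModular p M) (hB : IsPBlock M B) (hN : ANil p ⊤ (eB M B)) (hP : IsDefectGroup p M B P) :
    Nat.card B = Nat.card (ConjClasses P) := by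
  obtain ⟨χ, h1, h2⟩ := exists_height_zero hM hB
  obtain ⟨Φ, -⟩ := hN.chars hM hB hP h1 h2
  rw [← Nat.card_congr Φ, H3.card_irr_eq_card_conjClasses]

end H4
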